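import Cfsg.Agent.OddHalf.NI3.Ex.Core
import Cfsg.Agent.OddHalf.D9.Cut
import Cfsg.Agent.S0270
import Cfsg.Agent.S0814

/-!
# (EX), (EX3): the row `Sp₆(2)` (helper5)

`CT X`: finite, simple, nonabelian, of characteristic 2 type. All automorphisms of `Sp₆(2)` are inner: no component
at all in the centralizer of an involutory automorphism.
-/

set_option autoImplicit false

namespace Cfsg.Agent.OddHalf.NI3.Ex

open Subgroup Cfsg Cfsg.Agent.OddHalf.Iface Cfsg.Agent.OddHalf.NI Cfsg.Agent.OddHalf.NI.Ex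
open Cfsg.Agent.OddHalf.D9.Cut

universe u v

/-- finite, simple, of characteristic 2 type, with trivial centre -/
structure CT (X : Type u) [Group X] : Prop where
  fin : Finite X
  simple : IsSimpleGroup X
  char : IsCharacteristicTwoType X
  center : center X = ⊥

theorem ne_of_na {X : Type u} [Group X] (h : ¬ IsMulCommutative X) : ∃ a b : X, a * b ≠ b * a := by
  by_contra hcon
  push Not at hcon
  exact h ⟨⟨hcon⟩⟩

theorem CT.of_filt {X : Type u} [Group X] [Finite X] (hs : IsSimpleGroup X) (hna : ¬ IsMulCommutative X)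
    (h : KFacts.RgdLieCharP.IsLieFilt 2 X) : CT X := by
  have : Fact (Nat.Prime 2) := ⟨Nat.prime_two⟩
  have hc := ne_of_na hna
  exact ⟨inferInstance, inferInstance, (KFacts.RgdLieCharP.hasFilt_of_lie h).charTwo hc,
    KFacts.RgdLieCharP.center_eq_bot hc⟩

theorem charP_two {F : Type*} [Field F] [Fintype F] {f : ℕ} (hF : Fintype.card F = 2 ^ f) : CharP F 2 := by
  have : Fact (Nat.Prime 2) := ⟨Nat.prime_two⟩
  exact charP_of_card_eq_prime_pow hF

/-- If all automorphisms are inner then no involutory automorphism has a component. -/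
theorem no_comp_of_inner {X : Type u} [Group X] (h : CT X) (hi : ∀ α : MulAut X, ∃ x, α = MulAut.conj x)
    {α : MulAut X} (hα : orderOf α = 2) {J : Subgroup X} (hJ : CompIn (fix α) J) : False := by
  have := h.fin
  obtain ⟨x, rfl⟩ := hi α
  exact inner_false h.char h.center hα hJ

theorem inner_of_card {X : Type u} [Group X] [Finite X] (hZ : center X = ⊥)
    (h : Nat.card (MulAut X) = Nat.card X) (α : MulAut X) : ∃ x, α = MulAut.conj x := by
  have h1 : Function.Bijective (MulAut.conj : X →* MulAut X) := by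
    rw [Nat.bijective_iff_injective_and_card]
    exact ⟨conj_inj hZ, h.symm⟩
  obtain ⟨x, hx⟩ := h1.2 α
  exact ⟨x, hx.symm⟩

theorem ct_sp62 {X : Type u} [Group X] [Finite X] (hs : IsSimpleGroup X) (hna : ¬ IsMulCommutative X)
    (h : XSp62 X) : CT X := by
  obtain ⟨F, i, j, hF, ⟨e⟩⟩ := h
  have h2 := charP_two (F := F) (f := 1) (by rw [hF]; norm_num)
  exact CT.of_filt hs hna (Or.inr (Or.inl ⟨F, i, j, h2, 3, by norm_num, by norm_num, ⟨e⟩⟩))

/-- all automorphisms of `Sp₆(2)` are inner -/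
theorem inner_sp62 {X : Type u} [Group X] [Finite X] (hs : IsSimpleGroup X) (hna : ¬ IsMulCommutative X)
    (h : XSp62 X) (α : MulAut X) : ∃ x, α = MulAut.conj x := by
  refine inner_of_card (ct_sp62 hs hna h).center ?_ α
  obtain ⟨F, i, j, hF, ⟨e⟩⟩ := h
  have : Fact (Nat.Prime 2) := ⟨Nat.prime_two⟩
  have h1 := S0814.result (F := F) 2 1 le_rfl (by rw [hF]; norm_num) 3 (by norm_num) (by norm_num)
  norm_num at h1
  rw [Nat.card_congr (MulAut.congr e).toEquiv, Nat.card_congr e.toEquiv]
  exact h1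

/-- **The row `Sp₆(2)`.** -/
theorem no3_sp62 {X : Type u} [Group X] [Finite X] (hs : IsSimpleGroup X) (hna : ¬ IsMulCommutative X)
    (h : XSp62 X) : No3 X :=
  fun _ hα _ hJ _ _ => (no_comp_of_inner (ct_sp62 hs hna h) (inner_sp62 hs hna h) hα hJ).elim

end Cfsg.Agent.OddHalf.NI3.Ex
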