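import Cfsg.Agent.OddHalf.NI.Ex.Defs
import Cfsg.Agent.OddHalf.LieOddFam

/-!
# (EX3): the rows (helper5; ruling NI3-1 (8), bb ODD #12072)

* `No3 X`: no involutory automorphism of the simple group `X` has a component `J` with `J / Z(J)` of Lie type over the
  field with three elements, not `G₂(3)`, and of order divisible by `81` (this excludes `L₃(3)`, `U₃(3)`).
-/

set_option autoImplicit false

namespace Cfsg.Agent.OddHalf.NI3.Ex

open Subgroup Cfsg Cfsg.Agent.OddHalf.Iface Cfsg.Agent.OddHalf.NI Cfsg.Agent.OddHalf.NI.Ex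

universe u v

/-- **Row of (EX3)**: no involutory automorphism of `X` has a component `J` with `J / Z(J)` of Lie type over the field
with three elements (`LieOddFam.Rk _ 3`), different from `G₂(3)`, and of order divisible by `81`. -/
def No3 (X : Type u) [Group X] : Prop :=
  ∀ α : MulAut X, orderOf α = 2 → ∀ J : Subgroup X, CompIn (fix α) J → 81 ∣ Nat.card (↥J ⧸ center ↥J) →
    LieOddFam.Rk (↥J ⧸ center ↥J) 3 → LieOddFam.FG2 (↥J ⧸ center ↥J) 3

theorem card_dvd_of_card_quo {X : Type u} [Group X] {J : Subgroup X} (h : 81 ∣ Nat.card (↥J ⧸ center ↥J)) :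
    81 ∣ Nat.card ↥J := by
  rw [← (center ↥J).card_mul_index]
  exact h.mul_left _

/-- The row is trivial if `81` does not divide the order. -/
theorem No3.of_card {X : Type u} [Group X] (h : ¬ 81 ∣ Nat.card X) : No3 X :=
  fun _ _ J _ hJ _ => absurd ((card_dvd_of_card_quo hJ).trans (card_subgroup_dvd_card J)) h

/-- The row is trivial if `81` does not divide the orders of the centralizers. -/
theorem No3.of_card_fix {X : Type u} [Group X]
    (h : ∀ α : MulAut X, orderOf α = 2 → ¬ 81 ∣ Nat.card ↥(fix α)) : No3 X :=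
  fun α hα _ hc hJ _ => absurd ((card_dvd_of_card_quo hJ).trans (card_dvd_of_le hc.le)) (h α hα)

end Cfsg.Agent.OddHalf.NI3.Ex
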