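import Cfsg.Agent.OddHalf.NI3.Card81
import Cfsg.Agent.OddHalf.NI3.Final
import Cfsg.Agent.OddHalf.NI3.Ex.Defs
import Cfsg.Agent.OddHalf.NI.Ex.Cut

/-!
# (EX3): the cut into rows (helper5)

`ex3`: the entrance `EX3` of node NI over the field with three elements from the Gorenstein-Walter theorem, S1738,
`D5cover`, the 2-parts of the multipliers (`D9.Cut.Mult`) and the rows `Rows3` (`No3 X` for the simple groups of even
type with exceptional multiplier, and for the Suzuki groups).
-/

set_option autoImplicit false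

namespace Cfsg.Agent.OddHalf.NI3.Ex

open Subgroup Cfsg Cfsg.Agent.OddHalf.Iface Cfsg.Agent.OddHalf.LieOddFam Cfsg.Agent.OddHalf.D9.Cut
open Cfsg.Agent.OddHalf.D3 (cj Comp)
open Cfsg.Agent.OddHalf.NI (CompIn Even8)
open Cfsg.Agent.OddHalf.NI.Ex
open Cfsg.Agent.SignalizersComponents

universe u

/-- Quasisimple groups have the same simple quotient as their nontrivial images. -/
theorem quo_equiv {X Y : Type u} [Group X] [Group Y] [Nontrivial Y] (f : X →* Y) (hf : Function.Surjective f)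
    (hX : IsQuasisimple X) : Nonempty ((X ⧸ center X) ≃* (Y ⧸ center Y)) := by
  have hY := QuasisimpleQuotient.isQuasisimple_of_surjective f hf hX
  have hsX : IsSimpleGroup (X ⧸ center X) := hX.2
  have hsY : IsSimpleGroup (Y ⧸ center Y) := hY.2
  have hle : center X ≤ (center Y).comap f := by
    intro x hx
    rw [mem_comap, mem_center_iff]
    intro y
    obtain ⟨x', rfl⟩ := hf y
    rw [← map_mul, ← map_mul, mem_center_iff.mp hx x']
  let g := QuotientGroup.map (center X) (center Y) f hle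
  have hg : Function.Surjective g := by
    intro y
    obtain ⟨y, rfl⟩ := QuotientGroup.mk_surjective y
    obtain ⟨x, rfl⟩ := hf y
    exact ⟨(x : X ⧸ center X), rfl⟩
  have hk : g.ker = ⊥ := by
    rcases hsX.eq_bot_or_eq_top_of_normal g.ker inferInstance with h | h
    · exact h
    · exfalso
      obtain ⟨y, hy⟩ := exists_ne (1 : Y ⧸ center Y)
      obtain ⟨x, rfl⟩ := hg y
      exact hy (g.mem_ker.mp (h ▸ mem_top x))
  exact ⟨MulEquiv.ofBijective g ⟨(MonoidHom.ker_eq_bot_iff g).mp hk, hg⟩⟩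

/-- **The descent to `N / Z(N)`.** -/
theorem descend3 {N : Type u} [Group N] [Finite N] (hq : IsQuasisimple N) {α : MulAut N} (hα : α * α = 1)
    {J : Subgroup N} (hJ : CompIn (fix α) J) (hne : J ≠ ⊤) :
    orderOf (bar α) = 2 ∧ CompIn (fix (bar α)) (J.map (QuotientGroup.mk' (center N))) ∧
      Nonempty ((↥J ⧸ center ↥J) ≃* (↥(J.map (QuotientGroup.mk' (center N))) ⧸
        center ↥(J.map (QuotientGroup.mk' (center N))))) := by
  have hle : J.map (QuotientGroup.mk' (center N)) ≤ fix (bar α) := by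
    rintro _ ⟨x, hx, rfl⟩
    rw [mem_fix, QuotientGroup.mk'_apply, bar_mk, mem_fix.mp (hJ.le hx)]
  have hnt : Nontrivial ↥(J.map (QuotientGroup.mk' (center N))) := by
    by_contra hn
    rw [not_nontrivial_iff_subsingleton] at hn
    have h5 : J ≤ center N := by
      intro x hx
      rw [← QuotientGroup.eq_one_iff]
      exact congrArg Subtype.val (Subsingleton.elim
        (⟨QuotientGroup.mk' (center N) x, mem_map_of_mem _ hx⟩ : ↥(J.map (QuotientGroup.mk' (center N)))) 1)
    apply Components.quasisimple_center_ne_top hJ.quasi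
    rw [eq_top_iff]
    intro x _
    rw [mem_center_iff]
    intro g
    exact Subtype.ext (mem_center_iff.mp (h5 x.2) g)
  refine ⟨?_, ⟨hle, subnormal_map hJ.le hJ.comp.1, ?_⟩, quo_equiv ((QuotientGroup.mk' (center N)).subgroupMap J)
    ((QuotientGroup.mk' (center N)).subgroupMap_surjective J) hJ.quasi⟩
  · refine orderOf_eq_prime ?_ ?_
    · rw [pow_two, ← bar_mul, hα, bar_one]
    · intro h
      have h1 := eq_one_of_bar hq.1.commutator_eq_top h
      apply hne
      have h2 : fix α = ⊤ := by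
        rw [h1, eq_top_iff]
        intro x _
        rfl
      have h4 : CompIn (⊤ : Subgroup N) J := by rw [← h2]; exact hJ
      exact h4.eq_of_le (L := ⊤) (Components.isQuasisimple_of_mulEquiv Subgroup.topEquiv.symm hq) le_rfl le_top
  · refine Components.isQuasisimple_of_mulEquiv (subgroupOfEquivOfLe hle).symm ?_
    exact QuasisimpleQuotient.isQuasisimple_of_surjective ((QuotientGroup.mk' (center N)).subgroupMap J)
      ((QuotientGroup.mk' (center N)).subgroupMap_surjective J) hJ.quasi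

theorem fG2_congr {X Y : Type u} [Group X] [Group Y] (e : X ≃* Y) {q : ℕ} (h : FG2 X q) : FG2 Y q := by
  obtain ⟨F, i, j, h1, ⟨f⟩⟩ := h
  exact ⟨F, i, j, h1, ⟨e.symm.trans f⟩⟩

/-- **`No3 (N / Z(N))` excludes the configuration.** -/
theorem false_of_no3 {N : Type u} [Group N] [Finite N] (hq : IsQuasisimple N) {α : MulAut N} (hα : α * α = 1)
    {J : Subgroup N} (hJ : CompIn (fix α) J) (hne : J ≠ ⊤) (hr : Rk (↥J ⧸ center ↥J) 3)
    (hc : 81 ∣ Nat.card (↥J ⧸ center ↥J)) (hg : ¬ FG2 (↥J ⧸ center ↥J) 3) (h : No3 (N ⧸ center N)) : False := by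
  obtain ⟨h1, h2, ⟨e⟩⟩ := descend3 hq hα hJ hne
  have h3 := h (bar α) h1 _ h2 (by rwa [← Nat.card_congr e.toEquiv]) (rk_congr e hr)
  exact hg (fG2_congr e.symm h3)

/-- A row about the simple group `X = N / Z(N)` alone. -/
def XRow3 (P : (X : Type u) → [Group X] → Prop) : Prop :=
  ∀ (X : Type u) [Group X] [Finite X], IsSimpleGroup X → ¬ IsMulCommutative X → P X → No3 X

/-- The rows of (EX3). -/
structure Rows3 : Prop where
  u62 : XRow3.{u} (fun X _ => XU62 X)
  sp62 : XRow3.{u} (fun X _ => XSp62 X)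
  o82 : XRow3.{u} (fun X _ => XO82 X)
  g24 : XRow3.{u} (fun X _ => XG24 X)
  f42 : XRow3.{u} (fun X _ => XF42 X)
  te62 : XRow3.{u} (fun X _ => X2E62 X)
  m12 : XRow3.{u} (fun X _ => Spor.IsoM12 X)
  j2 : XRow3.{u} (fun X _ => Spor.IsoJ2 X)
  hs : XRow3.{u} (fun X _ => Spor.IsoHS X)
  suz : XRow3.{u} (fun X _ => Spor.IsoSuz X)
  ru : XRow3.{u} (fun X _ => Spor.IsoRu X)
  fi22 : XRow3.{u} (fun X _ => Spor.IsoFi22 X)
  co1 : XRow3.{u} (fun X _ => Spor.IsoCo1 X)
  b : XRow3.{u} (fun X _ => Spor.IsoB X)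
  m22 : XRow3.{u} (fun X _ => Spor.IsoM22 X)
  sz : XRow3.{u} (fun X _ => XSz X)
  l34 : XRow3.{u} (fun X _ => XL34 X)

/-- **(EX3).** -/
theorem ex3 (hGW : RankOne.GW.{u}) (P : Stmts.P1738.{u}) (hD5 : D5cover.{u}) (M : D9.Cut.Mult.{u})
    (R : Rows3.{u}) : EX3.{u} := by
  intro G _ C t y J N hyJ ht hy hne hcomm hJ hr he hN hlt hinv hodd
  have := C.fin
  have := C.simple
  have hc : CompOf y N := NI.Final.compOf_of_comp hN
  have hq : IsQuasisimple ↥N := hN.quasi
  have hyN : y ∈ N := hlt.le hyJ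
  have hyZ : (⟨y, hyN⟩ : ↥N) ∈ center ↥N := by
    rw [mem_center_iff]
    intro g
    exact Subtype.ext (mem_centralizer_singleton_iff.mp (hN.le g.2))
  have hyo : orderOf (⟨y, hyN⟩ : ↥N) = 2 := by rw [Subgroup.orderOf_mk]; exact hy
  have hzne : center ↥N ≠ ⊥ := by
    intro h
    rw [h, mem_bot] at hyZ
    rw [hyZ, orderOf_one] at hyo
    omega
  have hz : IsPGroup 2 ↥(center ↥N) := Soft.CompOf.center_isPGroup (C.bal y hy) hc
  have hrk : ¬ PRankLE 2 1 ↥N := fun h => rankOne_false hGW C hy hc hyN h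
  have hna := Soft.quo_na hq
  have hNtop : N ≠ ⊤ := Soft.CompOf.ne_top C.na hy hc
  have hs : IsSimpleGroup (↥N ⧸ center ↥N) := hq.2
  have hK : IsKnownSimple' (↥N ⧸ center ↥N) := Known.known_quotient C.kproper N hNtop (center ↥N) hs hna
  -- the order of `J / Z(J)`
  have hyJZ : (⟨y, hyJ⟩ : ↥J) ∈ center ↥J := by
    rw [mem_center_iff]
    intro g
    exact Subtype.ext (mem_centralizer_singleton_iff.mp (hJ.le g.2).2)
  obtain ⟨h81, hg2⟩ := Card81.card81q hJ.quasi.1.commutator_eq_top hr hyJZ (by rw [Subgroup.orderOf_mk]; exact hy)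
  by_cases halt : IsAlternating (↥N ⧸ center ↥N)
  · obtain ⟨n, hn, f⟩ := halt
    obtain ⟨h8, hcov⟩ := hD5 ↥N inferInstance hq hz hzne hrk n hn f
    exact altCover_comp P C hy hc hyN n h8 hcov
  have hX : LieTwo (↥N ⧸ center ↥N) ∨ IsSporadicGroup (↥N ⧸ center ↥N) := by
    rcases Known.classify hna hK with h | h | h | h
    · exact absurd h halt
    · exact absurd h hodd
    · exact Or.inl ⟨h, halt, hodd⟩
    · exact Or.inr h
  -- the configuration in `N`
  have hcs : CompIn (fix (auto t N hinv)) (J.subgroupOf N) := by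
    rw [fix_auto]
    refine CompIn.subgroupOf (hJ.mono ?_ ?_) inf_le_left
    · exact le_inf hlt.le (hJ.le.trans inf_le_left)
    · exact le_inf inf_le_right (inf_le_left.trans hN.le)
  have htop : J.subgroupOf N ≠ ⊤ := by
    intro h1
    rw [subgroupOf_eq_top] at h1
    exact absurd h1 (not_le_of_gt hlt)
  have e : (↥J ⧸ center ↥J) ≃* (↥(J.subgroupOf N) ⧸ center ↥(J.subgroupOf N)) :=
    NI3.Final.quoCongr (subgroupOfEquivOfLe hlt.le).symm
  have ncf : No3 (↥N ⧸ center ↥N) → False :=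
    false_of_no3 hq (auto_mul ht hinv) hcs htop (rk_congr e hr) (by rwa [← Nat.card_congr e.toEquiv])
      (fun h => hg2 (fG2_congr e.symm h))
  rcases exc M hq hz hzne hX with h | h | h
  · rcases h with h | h | h | h | h | h | h | h | h | h | h | h | h | h
    · exact ncf (R.u62 _ hs hna h)
    · exact ncf (R.sp62 _ hs hna h)
    · exact ncf (R.o82 _ hs hna h)
    · exact ncf (R.g24 _ hs hna h)
    · exact ncf (R.f42 _ hs hna h)
    · exact ncf (R.te62 _ hs hna h)
    · exact ncf (R.m12 _ hs hna h)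
    · exact ncf (R.j2 _ hs hna h)
    · exact ncf (R.hs _ hs hna h)
    · exact ncf (R.suz _ hs hna h)
    · exact ncf (R.ru _ hs hna h)
    · exact ncf (R.fi22 _ hs hna h)
    · exact ncf (R.co1 _ hs hna h)
    · exact ncf (R.b _ hs hna h)
  · rcases h with h | h
    · exact ncf (R.l34 _ hs hna h)
    · exact ncf (R.m22 _ hs hna h)
  · exact ncf (R.sz _ hs hna h)

end Cfsg.Agent.OddHalf.NI3.Ex
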