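import Cfsg.Agent.OddHalf.LieOddFam
import Cfsg.Agent.S0243
import Cfsg.Agent.S0245
import Cfsg.Agent.S0246
import Cfsg.Agent.S0280
import Cfsg.Agent.S0292
import Cfsg.Agent.S0293
import Cfsg.Agent.S0294
import Cfsg.Agent.S0265
import Cfsg.Agent.S0813
import Cfsg.Agent.S0814
import Cfsg.Agent.S0815
import Cfsg.Agent.S0816
import Cfsg.Agent.S1062
import Cfsg.Agent.S1063
import Cfsg.Agent.S1064
import Cfsg.Agent.S1065
import Cfsg.Agent.S1066
import Cfsg.Agent.S1067

/-!
# The groups of Lie type over the field with three elements, by the 3-part of the order (helper5)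

`cases`: `Rk X 3`, not `G₂(3)`, `81 ∣ |X|`: `X` is `PSp₄(3)`, `L₄(3)`, `U₄(3)`, has the order of `PSp₆(3)`, or
`3 ^ 10 ∣ |X|`; with `|Aut X|`.
-/

set_option autoImplicit false

namespace Cfsg.Agent.OddHalf.NI3.Ex.Three

open Cfsg Cfsg.Agent.OddHalf.LieOddFam

universe u

/-- `PSp₄(3)` -/
def XPSp4 (X : Type u) [Group X] : Prop := ∃ (F : Type) (_ : Field F) (_ : Fintype F), Fintype.card F = 3 ∧
  Nonempty (X ≃* PSp 2 F)

variable {X : Type u} [Group X]

theorem card_congr {Y : Type*} [Group Y] (e : X ≃* Y) : Nat.card X = Nat.card Y := Nat.card_congr e.toEquiv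

theorem card_aut_congr {Y : Type*} [Group Y] (e : X ≃* Y) : Nat.card (MulAut X) = Nat.card (MulAut Y) :=
  Nat.card_congr (MulAut.congr e).toEquiv

/-- `3 ^ k ∣ c` from `a * c = 3 ^ l * b`, `3 ∤ a`, `k ≤ l`. -/
theorem dvd_of {a b c k l : ℕ} (h : a * c = 3 ^ l * b) (ha : ¬ 3 ∣ a) (hk : k ≤ l) : 3 ^ k ∣ c := by
  have h1 : 3 ^ k ∣ a * c := by
    rw [h]
    exact (pow_dvd_pow 3 hk).mul_right b
  have h2 : Nat.Coprime (3 ^ k) a := by
    apply Nat.Coprime.pow_left
    rw [Nat.coprime_comm]
    exact ((Nat.Prime.coprime_iff_not_dvd Nat.prime_three).2 ha).symm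
  exact h2.dvd_of_dvd_mul_left h1

theorem prod_gl (n : ℕ) : ∃ b, ∏ i : Fin n, (3 ^ n - 3 ^ (i : ℕ)) = 3 ^ (n * (n - 1) / 2) * b := by
  refine ⟨∏ i : Fin n, (3 ^ (n - i) - 1), ?_⟩
  have h1 : ∀ i : Fin n, 3 ^ n - 3 ^ (i : ℕ) = 3 ^ (i : ℕ) * (3 ^ (n - i) - 1) := by
    intro i
    rw [Nat.mul_sub, mul_one, ← pow_add, Nat.add_sub_cancel' i.2.le]
  rw [Finset.prod_congr rfl fun i _ => h1 i, Finset.prod_mul_distrib, Finset.prod_pow_eq_pow_sum]
  congr 2
  rw [Fin.sum_univ_eq_sum_range (fun i => i) n, Finset.sum_range_id]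

theorem gcd_two (n : ℕ) : Nat.gcd n (3 - 1) = 1 ∨ Nat.gcd n (3 - 1) = 2 :=
  (Nat.dvd_prime Nat.prime_two).1 (Nat.gcd_dvd_right n 2)

theorem gcd_four_cases {d : ℕ} (h : d ∣ 4) : ¬ 3 ∣ d := by
  intro h3
  have : 3 ∣ 4 := h3.trans h
  omega

/-- **The groups over `F₃` by the 3-part of the order.** -/
theorem cases (h : Rk X 3) (h81 : 81 ∣ Nat.card X) (hg : ¬ FG2 X 3) :
    (XPSp4 X ∧ Nat.card X = 25920 ∧ Nat.card (MulAut X) = 51840) ∨
    (Nat.card X = 6065280 ∧ Nat.card (MulAut X) = 24261120) ∨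
    (Nat.card X = 3265920 ∧ Nat.card (MulAut X) = 26127360) ∨
    (Nat.card X = 4585351680 ∧ Nat.card (MulAut X) = 9170703360) ∨ 3 ^ 10 ∣ Nat.card X := by
  have hp3 : Fact (Nat.Prime 3) := ⟨Nat.prime_three⟩
  rcases h with h | h | h | h | h | h | h | h | h | h | h | h | h
  · obtain ⟨F, i, j, n, hF, h3, ⟨e⟩⟩ := h
    have h1 := S0243.result hF n (by omega)
    obtain ⟨b, hb⟩ := prod_gl n
    by_cases hn3 : n = 3
    · exfalso
      subst hn3
      rw [card_congr e] at h81
      have h2 : Nat.gcd 3 (3 - 1) = 1 := by decide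
      rw [h2] at h1
      have h4 : ∏ i : Fin 3, (3 ^ 3 - 3 ^ (i : ℕ)) = 11232 := by decide +kernel
      rw [h4] at h1
      omega
    by_cases hn4 : n = 4
    · right; left
      subst hn4
      have h2 : Nat.gcd 4 (3 - 1) = 2 := by decide
      have h4 : ∏ i : Fin 4, (3 ^ 4 - 3 ^ (i : ℕ)) = 24261120 := by decide +kernel
      have h5 : Nat.card (Matrix.ProjectiveSpecialLinearGroup (Fin 4) F) = 6065280 := by
        rw [h2, h4] at h1
        omega
      refine ⟨by rw [card_congr e, h5], ?_⟩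
      rw [card_aut_congr e, S0813.result 3 1 le_rfl (by rw [hF]; norm_num) 4 (by norm_num) (by norm_num)]
      have h6 : Nat.card (Matrix.ProjGenLinGroup (Fin 4) F) = 12130560 := by
        rw [S0265.result 4]
        have h7 := Subgroup.card_mul_index (Subgroup.center (Matrix.SpecialLinearGroup (Fin 4) F))
        have h8 := S0242.result hF 4 (by norm_num)
        rw [h4] at h8
        omega
      rw [h6]
      norm_num
    · right; right; right; right
      rw [card_congr e]
      rw [← mul_assoc, hb] at h1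
      refine dvd_of h1 ?_ ?_
      · rcases gcd_two n with h | h <;> rw [h] <;> norm_num
      · have h5 : 5 ≤ n := by omega
        have h6 : 5 * 4 ≤ n * (n - 1) := Nat.mul_le_mul h5 (by omega)
        omega
  · obtain ⟨F, i, j, m, hF, h2, ⟨e⟩⟩ := h
    have h1 := S0245.result hF m
    have hc := S0246.result hF m (by omega)
    have hq := Subgroup.card_eq_card_quotient_mul_card_subgroup
      (Subgroup.center (Matrix.symplecticGroup (Fin m) F))
    rw [h1, hc] at hq
    have hg2 : Nat.gcd 2 (3 - 1) = 2 := by decide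
    rw [hg2] at hq
    change _ = Nat.card (PSp m F) * 2 at hq
    by_cases hm2 : m = 2
    · left
      subst hm2
      have h3 : Nat.card (PSp 2 F) = 25920 := by
        have h4 : 3 ^ 2 ^ 2 * ∏ i ∈ Finset.range 2, (3 ^ (2 * (i + 1)) - 1) = 51840 := by decide +kernel
        rw [h4] at hq
        omega
      refine ⟨⟨F, i, j, hF, ⟨e⟩⟩, by rw [card_congr e, h3], ?_⟩
      rw [card_aut_congr e, S0814.result 3 1 le_rfl (by rw [hF]; norm_num) 2 le_rfl (by norm_num), h3]
      norm_num
    by_cases hm3 : m = 3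
    · right; right; right; left
      subst hm3
      have h3 : Nat.card (PSp 3 F) = 4585351680 := by
        have h4 : 3 ^ 3 ^ 2 * ∏ i ∈ Finset.range 3, (3 ^ (2 * (i + 1)) - 1) = 9170703360 := by decide +kernel
        rw [h4] at hq
        omega
      refine ⟨by rw [card_congr e, h3], ?_⟩
      rw [card_aut_congr e, S0814.result 3 1 le_rfl (by rw [hF]; norm_num) 3 (by norm_num) (by norm_num), h3]
      norm_num
    · right; right; right; right
      rw [card_congr e]
      have h3 : 2 * Nat.card (PSp m F) = 3 ^ m ^ 2 * ∏ i ∈ Finset.range m, (3 ^ (2 * (i + 1)) - 1) := by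
        rw [hq, mul_comm]
      refine dvd_of h3 (by norm_num) ?_
      have h4 : 4 ≤ m := by omega
      have h5 : 4 * 4 ≤ m * m := Nat.mul_le_mul h4 h4
      rw [pow_two]
      omega
  · obtain ⟨F, i, j, n, hF, h3, ⟨e⟩⟩ := h
    have h1 := S0280.result hF n (by omega)
    by_cases hn3 : n = 3
    · exfalso
      subst hn3
      rw [card_congr e] at h81
      have h2 : Nat.gcd 3 (3 + 1) = 1 := by decide
      have h4 : 3 ^ (3 * (3 - 1) / 2) * ∏ i ∈ Finset.range 3, (if Even i then 3 ^ (i + 1) + 1 else 3 ^ (i + 1) - 1) =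
          24192 := by decide +kernel
      rw [h2, h4] at h1
      omega
    by_cases hn4 : n = 4
    · right; right; left
      subst hn4
      have h2 : Nat.gcd 4 (3 + 1) = 4 := by decide
      have h4 : 3 ^ (4 * (4 - 1) / 2) * ∏ i ∈ Finset.range 4, (if Even i then 3 ^ (i + 1) + 1 else 3 ^ (i + 1) - 1) =
          52254720 := by decide +kernel
      have h5 : Nat.card (PSU 4 F 3) = 3265920 := by
        rw [h2, h4] at h1
        omega
      refine ⟨by rw [card_congr e, h5], ?_⟩
      rw [card_aut_congr e, S0815.result 3 1 le_rfl (q := 3) (by norm_num) hF 4 (by norm_num) (by norm_num), h5,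
        h2]
    · right; right; right; right
      rw [card_congr e]
      rw [← mul_assoc] at h1
      refine dvd_of h1 ?_ ?_
      · have h2 : Nat.gcd n (3 + 1) ∣ 4 := Nat.gcd_dvd_right n 4
        intro h5
        rcases (Nat.Prime.dvd_mul Nat.prime_three).1 h5 with h6 | h6
        · exact gcd_four_cases h2 h6
        · omega
      · have h5 : 5 ≤ n := by omega
        have h6 : 5 * 4 ≤ n * (n - 1) := Nat.mul_le_mul h5 (by omega)
        omega
  · obtain ⟨F, i, j, m, hF, h3, ⟨e⟩⟩ := h
    have h1 := S0292.result hF (by decide) m h3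
    by_cases hm3 : m = 3
    · right; right; right; left
      subst hm3
      have h5 : Nat.card (POmega F (quadFormOdd 3 F)) = 4585351680 := by
        have h4 : 3 ^ 3 ^ 2 * ∏ i ∈ Finset.range 3, (3 ^ (2 * (i + 1)) - 1) = 9170703360 := by decide +kernel
        rw [h4] at h1
        omega
      refine ⟨by rw [card_congr e, h5], ?_⟩
      rw [card_aut_congr e, S0816.result 3 1 le_rfl (by rw [hF]; norm_num) (by decide) 3 le_rfl, h5]
    · right; right; right; right
      rw [card_congr e]
      refine dvd_of h1 (by norm_num) ?_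
      have h4 : 4 ≤ m := by omega
      have h5 : 4 * 4 ≤ m * m := Nat.mul_le_mul h4 h4
      rw [pow_two]
      omega
  · obtain ⟨F, i, j, m, hF, h4, ⟨e⟩⟩ := h
    have h1 := S0293.result hF m h4
    right; right; right; right
    rw [card_congr e]
    rw [mul_assoc] at h1
    refine dvd_of h1 (gcd_four_cases (Nat.gcd_dvd_left _ _)) ?_
    have h5 : 4 * 3 ≤ m * (m - 1) := Nat.mul_le_mul h4 (by omega)
    omega
  · obtain ⟨F, i, j, m, b, c, hF, h4, hbc, ⟨e⟩⟩ := h
    have h1 := S0294.result hF m h4 b c hbc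
    right; right; right; right
    rw [card_congr e]
    rw [mul_assoc] at h1
    refine dvd_of h1 (gcd_four_cases (Nat.gcd_dvd_left _ _)) ?_
    have h5 : 4 * 3 ≤ m * (m - 1) := Nat.mul_le_mul h4 (by omega)
    omega
  · exact absurd h hg
  · obtain ⟨F, i, j, hF, ⟨e⟩⟩ := h
    right; right; right; right
    rw [card_congr e, S1062.result hF]
    norm_num
  · obtain ⟨F, i, j, hF, ⟨e⟩⟩ := h
    have h1 := S1063.result hF
    right; right; right; right
    rw [card_congr e]
    have h2 : Nat.gcd 3 (3 - 1) = 1 := by decide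
    rw [h2, one_mul] at h1
    rw [h1]
    norm_num
  · obtain ⟨F, i, j, hF, ⟨e⟩⟩ := h
    have h1 := S1064.result hF
    right; right; right; right
    rw [card_congr e]
    have h2 : Nat.gcd 2 (3 - 1) = 2 := by decide
    rw [h2] at h1
    simp only [mul_assoc] at h1
    exact dvd_of h1 (by norm_num) (by norm_num)
  · obtain ⟨F, i, j, hF, ⟨e⟩⟩ := h
    right; right; right; right
    rw [card_congr e, S1065.result hF]
    norm_num
  · obtain ⟨F, i, j, hF, ⟨e⟩⟩ := h
    have h1 := S1066.result Nat.prime_three.isPrimePow hF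
    right; right; right; right
    rw [card_congr e]
    have h2 : Nat.gcd 3 (3 + 1) = 1 := by decide
    rw [h2, one_mul] at h1
    rw [h1]
    norm_num
  · obtain ⟨F, i, j, hF, ⟨e⟩⟩ := h
    right; right; right; right
    rw [card_congr e, S1067.result Nat.prime_three.isPrimePow hF]
    norm_num

end Cfsg.Agent.OddHalf.NI3.Ex.Three
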