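import Cfsg.Agent.OddHalf.NI3.Ex.FFour
import Cfsg.Agent.OddHalf.NI3.Ex.SpSix
import Cfsg.Agent.OddHalf.NI3.Ex.Three
import Cfsg.Agent.OddHalf.NI3.Ex.Cut
import Cfsg.Agent.UGT.SL.FactsL2
import Cfsg.Agent.OddHalf.D9.FFour.MultTwo
import Cfsg.Agent.SmallSimple.PSLTwoPart
import Cfsg.Agent.ClassicalGeometry.PSL2Basic
import Cfsg.Agent.S0813

/-!
# The rows `F₄(2)` of (EX) and (EX3) (helper233)

* `outer_false`: the 2-part of `|C_X(α)|` is at least `2 ^ 12` for every outer involutory automorphism of `X = F₄(2)`;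
* `row`: `NoL2 X`; `f42 : XRow XF42`.
-/

set_option autoImplicit false

namespace Cfsg.Agent.OddHalf.NI3.Ex.FFour

open Subgroup Cfsg Cfsg.Agent.OddHalf.Iface Cfsg.Agent.OddHalf.NI Cfsg.Agent.OddHalf.NI.Ex
open Cfsg.Agent.OddHalf.D9.Cut

universe u

theorem Outer12.congr {X Y : Type*} [Group X] [Group Y] (e : X ≃* Y) (h : Outer12 Y) : Outer12 X := by
  intro α hα ho
  let β : MulAut Y := (e.symm.trans α).trans e
  have hβ : ∀ y, β y = e (α (e.symm y)) := fun y => rfl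
  have h1 : β * β = 1 := by
    ext y
    rw [MulAut.mul_apply, hβ, hβ, e.symm_apply_apply, ← MulAut.mul_apply, hα, MulAut.one_apply, MulAut.one_apply,
      e.apply_symm_apply]
  have h2 : ¬ ∃ l : Y, ∀ h, β h = l * h * l⁻¹ := by
    rintro ⟨l, hl⟩
    refine ho ⟨e.symm l, fun x => e.injective ?_⟩
    have h3 := hl (e x)
    rw [hβ, e.symm_apply_apply] at h3
    rw [h3, map_mul, map_mul, map_inv, e.apply_symm_apply]
  have h3 := h β h1 h2
  have h4 : fix β = (fix α).map e.toMonoidHom := by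
    ext y
    constructor
    · intro hy
      have hy' : e (α (e.symm y)) = y := hy
      refine ⟨e.symm y, ?_, e.apply_symm_apply y⟩
      show α (e.symm y) = e.symm y
      apply e.injective
      rw [hy', e.apply_symm_apply]
    · rintro ⟨x, hx, rfl⟩
      show e (α (e.symm (e x))) = e x
      rw [e.symm_apply_apply, show α x = x from hx]
  rw [h4, card_map_of_injective e.injective] at h3
  exact h3

theorem num {p f : ℕ} (hp : p.Prime) (hf : 0 < f) (hodd : Odd (p ^ f))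
    (h : p ^ f * ((p ^ f) ^ 2 - 1) ∣ 2 * 3311126603366400) : ¬ 2 ^ 12 ∣ f * (p ^ f * ((p ^ f) ^ 2 - 1)) := by
  have hpf : p ^ f ∣ 2 * 3311126603366400 := (Dvd.intro _ rfl).trans h
  have hpd : p ∣ 2 * 3311126603366400 := (dvd_pow_self p hf.ne').trans hpf
  have hp2 : p ≠ 2 := by
    rintro rfl
    exact absurd hodd (Nat.not_odd_iff_even.2 (Nat.even_pow.2 ⟨even_two, hf.ne'⟩))
  have e : 2 * 3311126603366400 = 2 ^ 25 * 3 ^ 6 * 5 ^ 2 * 7 ^ 2 * 13 * 17 := by norm_num
  have hp5 : p = 3 ∨ p = 5 ∨ p = 7 ∨ p = 13 ∨ p = 17 := by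
    rw [e, hp.dvd_mul, hp.dvd_mul, hp.dvd_mul, hp.dvd_mul, hp.dvd_mul] at hpd
    rcases hpd with ((((h | h) | h) | h) | h) | h
    · exact absurd ((Nat.prime_dvd_prime_iff_eq hp Nat.prime_two).1 (hp.dvd_of_dvd_pow h)) hp2
    · exact Or.inl ((Nat.prime_dvd_prime_iff_eq hp Nat.prime_three).1 (hp.dvd_of_dvd_pow h))
    · exact Or.inr (Or.inl ((Nat.prime_dvd_prime_iff_eq hp Nat.prime_five).1 (hp.dvd_of_dvd_pow h)))
    · exact Or.inr (Or.inr (Or.inl ((Nat.prime_dvd_prime_iff_eq hp (by norm_num)).1 (hp.dvd_of_dvd_pow h))))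
    · exact Or.inr (Or.inr (Or.inr (Or.inl ((Nat.prime_dvd_prime_iff_eq hp (by norm_num)).1 h))))
    · exact Or.inr (Or.inr (Or.inr (Or.inr ((Nat.prime_dvd_prime_iff_eq hp (by norm_num)).1 h))))
  have key : ∀ m, ¬ p ^ m ∣ 2 * 3311126603366400 → f < m := by
    intro m hm
    by_contra hmf
    exact hm ((pow_dvd_pow p (not_lt.1 hmf)).trans hpf)
  rcases hp5 with rfl | rfl | rfl | rfl | rfl
  · have := key 7 (by norm_num)
    interval_cases f <;> norm_num
  · have := key 3 (by norm_num)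
    interval_cases f <;> norm_num
  · have := key 3 (by norm_num)
    interval_cases f <;> norm_num
  · have := key 2 (by norm_num)
    interval_cases f <;> norm_num
  · have := key 2 (by norm_num)
    interval_cases f <;> norm_num

theorem card_aut_l2 {J : Type*} [Group J] [Finite J] (h : IsL2 J) (hJ : Nat.card J ∣ 3311126603366400) :
    ¬ 2 ^ 12 ∣ Nat.card (MulAut J) := by
  obtain ⟨F, i1, i2, hodd, h3, ⟨e⟩⟩ := h
  obtain ⟨p, f, hp, hf, hq⟩ := (isPrimePow_nat_iff _).1 (Fintype.isPrimePow_card_of_field (α := F))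
  have : Fact p.Prime := ⟨hp⟩
  have hcard : Nat.card (MulAut J) = f * (p ^ f * ((p ^ f) ^ 2 - 1)) := by
    rw [Nat.card_congr (MulAut.congr e).toEquiv, Cfsg.Agent.S0813.result p f hf hq.symm 2 le_rfl
      (fun _ => by rw [hq]; omega), if_pos rfl, one_mul, Cfsg.Agent.ClassicalGeometry.PSL2Basic.card_PGL2, ← hq]
  have hcJ : p ^ f * ((p ^ f) ^ 2 - 1) ∣ 2 * 3311126603366400 := by
    rw [hq, ← Cfsg.Agent.SmallSimple.PSLTwoPart.card_psl_two_odd hodd, ← Nat.card_congr e.toEquiv]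
    exact Nat.mul_dvd_mul_left 2 hJ
  rw [hcard]
  rw [← hq] at hodd
  exact num hp hf hodd hcJ

/-- An isomorphic group has isomorphic automorphism groups, also modulo a trivial centre. -/
theorem card_aut_quo {J : Type*} [Group J] (h : center J = ⊥) : Nat.card (MulAut (J ⧸ center J)) = Nat.card (MulAut J) :=
  Nat.card_congr (MulAut.congr ((QuotientGroup.quotientMulEquivOfEq h).trans QuotientGroup.quotientBot)).toEquiv

variable {X : Type u} [Group X] [Finite X]

theorem card_dvd (h : XF42 X) : Nat.card X ∣ 3311126603366400 := by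
  obtain ⟨F, _, _, hF, ⟨e⟩⟩ := h
  rw [Nat.card_congr e.toEquiv, Cfsg.Agent.S1062.result hF]
  norm_num

theorem outer_of {Y : Type} [Group Y] (hY : Outer12 Y) (h : Nonempty (X ≃* Y)) : Outer12 X := by
  obtain ⟨e⟩ := h
  exact Outer12.congr e hY

theorem outer (h : XF42 X) : Outer12 X :=
  outer_of pow_dvd_outer (Cfsg.Agent.OddHalf.D9.FFour.MultTwo.exists_equiv h)

theorem ct (hs : IsSimpleGroup X) (hna : ¬ IsMulCommutative X) (h : XF42 X) : CT X := by
  obtain ⟨F, i, j, hF, ⟨e⟩⟩ := h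
  have h2 := charP_two (F := F) (f := 1) (by rw [hF]; norm_num)
  exact CT.of_filt hs hna (Or.inr (Or.inr (Or.inr (Or.inr (Or.inr (Or.inr (Or.inl ⟨F, i, j, h2,
    Or.inr (Or.inl ⟨e⟩)⟩)))))))

/-- **Component of the centralizer of an involutory automorphism of `F₄(2)`**: the automorphism is outer, `2 ^ 12`
divides `|Aut (J / Z(J))|`. -/
theorem pow_dvd_aut (hs : IsSimpleGroup X) (hna : ¬ IsMulCommutative X) (h : XF42 X) {α : MulAut X}
    (hα : orderOf α = 2) {J : Subgroup X} (hJ : CompIn (fix α) J) (he : 2 ∣ Nat.card ↥J) :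
    2 ^ 12 ∣ Nat.card (MulAut (↥J ⧸ center ↥J)) := by
  have hC := ct hs hna h
  have hαα : α * α = 1 := by rw [← pow_two, ← hα, pow_orderOf_eq_one]
  refine pow_dvd hC.char hC.center hαα hJ he (outer h α hαα ?_)
  rintro ⟨l, hl⟩
  have e : α = MulAut.conj l := by
    ext x
    rw [hl, MulAut.conj_apply]
  subst e
  exact inner_false hC.char hC.center hα hJ

theorem two_dvd_l2 {J : Type*} [Group J] (h : IsL2 J) : 2 ∣ Nat.card J := by
  obtain ⟨F, i, j, hodd, h3, ⟨e⟩⟩ := h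
  have h1 := Cfsg.Agent.SmallSimple.PSLTwoPart.card_psl_two_odd hodd
  rw [← Nat.card_congr e.toEquiv] at h1
  obtain ⟨k, hk⟩ := hodd
  have h2 : Fintype.card F ^ 2 - 1 = 4 * (k * (k + 1)) := by
    rw [hk]
    have : (2 * k + 1) ^ 2 = 4 * (k * (k + 1)) + 1 := by ring
    omega
  rw [h2] at h1
  refine ⟨Fintype.card F * (k * (k + 1)), ?_⟩
  have h4 : 2 * Nat.card J = 2 * (2 * (Fintype.card F * (k * (k + 1)))) := by rw [h1]; ring
  omega

theorem center_l2 {J : Type*} [Group J] (h : IsL2 J) : center J = ⊥ := by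
  obtain ⟨F, i, j, hF, -, ⟨e⟩⟩ := h
  exact (GH.L2Aut.Rep.ofEquiv (GH.L2Aut.two_ne_zero_of_odd hF) e).center_eq_bot

/-- **Row (1)** of `F₄(2)`. -/
theorem noL2 (hs : IsSimpleGroup X) (hna : ¬ IsMulCommutative X) (h : XF42 X) : NoL2 X := by
  intro α hα J hJ hL
  have h3 := pow_dvd_aut hs hna h hα hJ (two_dvd_l2 hL)
  rw [card_aut_quo (center_l2 hL)] at h3
  exact card_aut_l2 hL ((card_subgroup_dvd_card J).trans (card_dvd h)) h3

/-- The row `F₄(2)` of (EX). -/
theorem f42 : XRow.{u} (fun X _ => XF42 X) := fun _ _ _ hs hna h => (noL2 hs hna h).noCov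

/-- **(EX3), the row `F₄(2)`.** -/
theorem no3 (hs : IsSimpleGroup X) (hna : ¬ IsMulCommutative X) (h : XF42 X) : No3 X := by
  intro α hα J hJ h81 hR
  by_contra hg
  have hdvd : Nat.card (↥J ⧸ center ↥J) ∣ 3311126603366400 :=
    (Subgroup.card_quotient_dvd_card _).trans ((card_subgroup_dvd_card J).trans (card_dvd h))
  have key : 2 ∣ Nat.card (↥J ⧸ center ↥J) → 2 ^ 12 ∣ Nat.card (MulAut (↥J ⧸ center ↥J)) := fun he =>
    pow_dvd_aut hs hna h hα hJ (he.trans (Subgroup.card_quotient_dvd_card _))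
  rcases Three.cases hR h81 hg with ⟨-, h3, h4⟩ | ⟨h3, h4⟩ | ⟨h3, h4⟩ | ⟨h3, -⟩ | h3
  · have h5 := key (by rw [h3]; norm_num)
    rw [h4] at h5
    exact absurd h5 (by norm_num)
  · have h5 := key (by rw [h3]; norm_num)
    rw [h4] at h5
    exact absurd h5 (by norm_num)
  · have h5 := key (by rw [h3]; norm_num)
    rw [h4] at h5
    exact absurd h5 (by norm_num)
  · rw [h3] at hdvd
    exact absurd hdvd (by norm_num)
  · have h4 := h3.trans hdvd
    exact absurd h4 (by norm_num)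

/-- The row `F₄(2)` of (EX3). -/
theorem f42' : XRow3.{u} (fun X _ => XF42 X) := fun _ _ _ hs hna h => no3 hs hna h

end Cfsg.Agent.OddHalf.NI3.Ex.FFour
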