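import Cfsg.Agent.OddHalf.NI3.Ex.OEightGrp
import Cfsg.Agent.OddHalf.NI3.Ex.SpSix
import Cfsg.Agent.OddHalf.NI3.Ex.Three
import Cfsg.Agent.OddHalf.NI.Ex.RankAut
import Cfsg.Agent.S0243

/-!
# (EX), (EX3): the row `Ω₈⁺(2)` (helper88)

* `rank_false`: `X` of characteristic 2 type, `α² = 1`, `E ≤ C_X(α)` elementary abelian, `|E| > 8`: no component `L₂(q)`,
  `q` odd, of `C_X(α)`;
* `noL2_o82`, `no3_o82`: the rows.
-/

set_option autoImplicit false

namespace Cfsg.Agent.OddHalf.NI3.Ex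

open Subgroup Cfsg Cfsg.Agent.OddHalf.Iface Cfsg.Agent.OddHalf.NI Cfsg.Agent.OddHalf.NI.Ex
open Cfsg.Agent.OddHalf.D9.Cut

universe u v

/-- `|L₂(q)|` is even for `q` odd -/
theorem two_dvd_of_isL2 {J : Type*} [Group J] (h : IsL2 J) : 2 ∣ Nat.card J := by
  obtain ⟨F, i, j, hodd, -, ⟨e⟩⟩ := h
  have h1 := S0243.result (F := F) rfl 2 le_rfl
  rw [Nat.card_congr e.toEquiv]
  obtain ⟨k, hk⟩ := hodd
  rw [Fin.prod_univ_two] at h1
  simp only [Fin.val_zero, Fin.val_one, pow_zero, pow_one] at h1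
  rw [hk] at h1
  have h2 : Nat.gcd 2 (2 * k + 1 - 1) = 2 := by
    rw [Nat.add_sub_cancel]
    exact Nat.gcd_eq_left ⟨k, rfl⟩
  rw [h2, Nat.add_sub_cancel] at h1
  have hk0 : 0 < k := by
    rcases Nat.eq_zero_or_pos k with h0 | h0
    · exfalso
      rw [h0] at hk
      have := Fintype.one_lt_card (α := F)
      omega
    · exact h0
  have h3 : (2 * k + 1) ^ 2 - 1 = 4 * k * (k + 1) := by
    have : (2 * k + 1) ^ 2 = 4 * k * (k + 1) + 1 := by ring
    omega
  have h4 : (2 * k + 1) ^ 2 - (2 * k + 1) = 2 * k * (2 * k + 1) := by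
    have : (2 * k + 1) ^ 2 = 2 * k * (2 * k + 1) + (2 * k + 1) := by ring
    omega
  rw [h3, h4] at h1
  have h5 : Nat.card (Matrix.ProjectiveSpecialLinearGroup (Fin 2) F) = 2 * (k * (k + 1) * (2 * k + 1)) := by
    have h6 : (4 * k) * Nat.card (Matrix.ProjectiveSpecialLinearGroup (Fin 2) F) =
        (4 * k) * (2 * (k * (k + 1) * (2 * k + 1))) := by
      calc (4 * k) * Nat.card (Matrix.ProjectiveSpecialLinearGroup (Fin 2) F)
          = 2 * (2 * k * Nat.card (Matrix.ProjectiveSpecialLinearGroup (Fin 2) F)) := by ring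
        _ = _ := by rw [h1]; ring
    exact Nat.eq_of_mul_eq_mul_left (by omega) h6
  exact ⟨_, h5⟩

/-- **The rank criterion.** -/
theorem rank_false {X : Type u} [Group X] [Finite X] (hC : IsCharacteristicTwoType X) (hZ : center X = ⊥)
    {α : MulAut X} (hα : α * α = 1) {J : Subgroup X} (hJ : CompIn (fix α) J) (h2 : IsL2 ↥J) {E : Subgroup X}
    (hE : E ≤ fix α) (he : ∀ a ∈ E, a * a = 1) (hc : 8 < Nat.card ↥E) : False := by
  have hn := normal hC hZ hα hJ (two_dvd_of_isL2 h2)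
  obtain ⟨-, hodd⟩ := act_ker hC hZ hα hJ hn
  obtain ⟨F, i, j, hF, -, ⟨e⟩⟩ := h2
  have e1 : ↥(J.subgroupOf (fix α)) ≃* ↥J := subgroupOfEquivOfLe hJ.le
  let R0 := GH.L2Aut.Rep.ofEquiv (GH.L2Aut.two_ne_zero_of_odd hF) (e1.trans e)
  have hZ0 : center ↥(J.subgroupOf (fix α)) = ⊥ := R0.center_eq_bot
  let e2 : ↥(J.subgroupOf (fix α)) ⧸ center ↥(J.subgroupOf (fix α)) ≃*
      Matrix.ProjectiveSpecialLinearGroup (Fin 2) F :=
    ((QuotientGroup.quotientMulEquivOfEq hZ0).trans QuotientGroup.quotientBot).trans (e1.trans e)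
  let R := GH.L2Aut.Rep.ofEquiv (GH.L2Aut.two_ne_zero_of_odd hF) e2
  have hfin : Finite (↥(J.subgroupOf (fix α)) ⧸ center ↥(J.subgroupOf (fix α))) := inferInstance
  have h3 := RankAut.card_le_eight R ((E.subgroupOf (fix α)).map (act hn)) (by
    rintro _ ⟨a, ha, rfl⟩
    rw [← map_mul]
    have : a * a = 1 := Subtype.ext (he _ ha)
    rw [this, map_one])
  have h4 : Nat.card ↥((E.subgroupOf (fix α)).map (act hn)) = Nat.card ↥E := by
    rw [← Nat.card_congr (subgroupOfEquivOfLe hE).toEquiv]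
    let f := (act hn).subgroupMap (E.subgroupOf (fix α))
    have hf : Function.Bijective f := by
      refine ⟨?_, (act hn).subgroupMap_surjective _⟩
      rw [injective_iff_map_eq_one]
      rintro ⟨a, ha⟩ h
      have h5 : a ∈ (act hn).ker := congrArg Subtype.val h
      apply Subtype.ext
      have h6 : (⟨a, h5⟩ : ↥(act hn).ker) ^ 2 = 1 := by
        apply Subtype.ext
        apply Subtype.ext
        rw [pow_two]
        exact he _ ha
      have h7 : orderOf (⟨a, h5⟩ : ↥(act hn).ker) ∣ 2 := orderOf_dvd_of_pow_eq_one h6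
      have h8 : orderOf (⟨a, h5⟩ : ↥(act hn).ker) ∣ Nat.card ↥(act hn).ker := orderOf_dvd_natCard _
      have h9 : orderOf (⟨a, h5⟩ : ↥(act hn).ker) = 1 :=
        Nat.eq_one_of_dvd_coprimes (Nat.coprime_two_left.2 hodd) h7 h8
      have h10 : (⟨a, h5⟩ : ↥(act hn).ker) = 1 := orderOf_eq_one_iff.1 h9
      exact congrArg (fun y : ↥(act hn).ker => (y : ↥(fix α))) h10
    exact (Nat.card_congr (Equiv.ofBijective f hf)).symm
  omega

/-- Involutory automorphisms. -/
theorem exists_C0 {X : Type u} [Group X] [Finite X] (h : XO82 X) {α : MulAut X} (hα : α * α = 1) :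
    (∃ x, α = MulAut.conj x) ∨ ∃ φ : ↥StdO8.Model.Om ≃* X, ∀ y ∈ OEight.C0, α (φ y) = φ y := by
  obtain ⟨F, i, j, hF, ⟨e⟩⟩ := h
  obtain ⟨e'⟩ := StdO8.Model.exists_equiv hF
  let ψ : ↥StdO8.Model.Om ≃* X := (e.trans e').symm
  let α' : MulAut ↥StdO8.Model.Om := (MulAut.congr ψ).symm α
  have hα' : α' * α' = 1 := by rw [← map_mul, hα, map_one]
  have h1 : ∀ y, α (ψ y) = ψ (α' y) := fun y => by
    show α (ψ y) = ψ (ψ.symm (α (ψ y)))
    rw [MulEquiv.apply_symm_apply]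
  rcases OEight.main hα' with ⟨m, hm⟩ | ⟨β, hβ⟩
  · left
    refine ⟨ψ m, ?_⟩
    ext x
    obtain ⟨y, rfl⟩ := ψ.surjective x
    rw [h1, hm, MulAut.conj_apply, MulAut.conj_apply, map_mul, map_mul, map_inv]
  · right
    refine ⟨β.trans ψ, fun y hy => ?_⟩
    show α (ψ (β y)) = ψ (β y)
    rw [h1, hβ y hy]

theorem ct_o82 {X : Type u} [Group X] [Finite X] (hs : IsSimpleGroup X) (hna : ¬ IsMulCommutative X)
    (h : XO82 X) : CT X := by
  obtain ⟨F, i, j, hF, ⟨e⟩⟩ := h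
  have h2 := charP_two (F := F) (f := 1) (by rw [hF]; norm_num)
  exact CT.of_filt hs hna (Or.inr (Or.inr (Or.inr (Or.inr (Or.inl ⟨F, i, j, h2, 4, le_rfl, ⟨e⟩⟩)))))

theorem card_o82 {X : Type u} [Group X] (h : XO82 X) : Nat.card X = 2 ^ 12 * 42525 := by
  obtain ⟨F, i, j, hF, ⟨e⟩⟩ := h
  obtain ⟨e'⟩ := StdO8.Model.exists_equiv hF
  rw [Nat.card_congr (e.trans e').toEquiv, StdO8.Uni.card_Om]

/-- **(EX), the row `Ω₈⁺(2)`.** -/
theorem noL2_o82 {X : Type u} [Group X] [Finite X] (hs : IsSimpleGroup X) (hna : ¬ IsMulCommutative X)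
    (h : XO82 X) : NoL2 X := by
  intro α hα J hJ h2
  have hct := ct_o82 hs hna h
  have h1 : α * α = 1 := by rw [← pow_two, ← hα, pow_orderOf_eq_one]
  rcases exists_C0 h h1 with ⟨x, rfl⟩ | ⟨φ, hφ⟩
  · exact inner_false hct.char hct.center hα hJ
  · refine rank_false hct.char hct.center h1 hJ h2 (E := OEight.E0.map φ.toMonoidHom) ?_ ?_ ?_
    · rintro _ ⟨y, hy, rfl⟩
      exact hφ y (OEight.E0_le hy)
    · rintro _ ⟨y, hy, rfl⟩
      show φ y * φ y = 1
      rw [← map_mul, OEight.Eg_sq hy, map_one]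
    · have h3 : Nat.card ↥(OEight.E0.map φ.toMonoidHom) = Nat.card ↥OEight.E0 :=
        (Nat.card_congr (OEight.E0.equivMapOfInjective _ φ.injective).toEquiv).symm
      rw [h3]
      have := OEight.card_E0
      omega

/-- **(EX3), the row `Ω₈⁺(2)`.** -/
theorem no3_o82 {X : Type u} [Group X] [Finite X] (hs : IsSimpleGroup X) (hna : ¬ IsMulCommutative X)
    (h : XO82 X) : No3 X := by
  intro α hα J hJ h81 hR
  by_contra hg
  have hct := ct_o82 hs hna h
  have h1 : α * α = 1 := by rw [← pow_two, ← hα, pow_orderOf_eq_one]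
  have hcard := card_o82 h
  have hdvd : Nat.card (↥J ⧸ center ↥J) ∣ 2 ^ 12 * 42525 := by
    rw [← hcard]
    exact (Subgroup.card_quotient_dvd_card _).trans (card_subgroup_dvd_card J)
  rcases exists_C0 h h1 with ⟨x, rfl⟩ | ⟨φ, hφ⟩
  · exact inner_false hct.char hct.center hα hJ
  · rcases Three.cases hR h81 hg with ⟨-, h3, h4⟩ | ⟨h3, -⟩ | ⟨h3, -⟩ | ⟨h3, -⟩ | h3
    · have he : 2 ∣ Nat.card ↥J := by
        have h5 : Nat.card (↥J ⧸ center ↥J) ∣ Nat.card ↥J := Subgroup.card_quotient_dvd_card _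
        rw [h3] at h5
        exact dvd_trans (by norm_num) h5
      have h5 : 2 ^ 8 ∣ Nat.card ↥(fix α) := by
        refine dvd_trans OEight.card_C0 ?_
        have h6 : Nat.card ↥(OEight.C0.map φ.toMonoidHom) = Nat.card ↥OEight.C0 :=
          (Nat.card_congr (OEight.C0.equivMapOfInjective _ φ.injective).toEquiv).symm
        rw [← h6]
        refine card_dvd_of_le ?_
        rintro _ ⟨y, hy, rfl⟩
        exact hφ y hy
      have h6 := pow_dvd hct.char hct.center h1 hJ he h5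
      rw [h4] at h6
      exact absurd h6 (by norm_num)
    · rw [h3] at hdvd
      exact absurd hdvd (by norm_num)
    · rw [h3] at hdvd
      exact absurd hdvd (by norm_num)
    · rw [h3] at hdvd
      exact absurd hdvd (by norm_num)
    · have h4 := h3.trans hdvd
      exact absurd h4 (by norm_num)

end Cfsg.Agent.OddHalf.NI3.Ex
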