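import Cfsg.Agent.OddHalf.NI3.Ex.BabyStage
import Cfsg.Agent.OddHalf.NI.Ex.Cyc
import Cfsg.Agent.KFacts.Baby.RowB
import Cfsg.Agent.Fischer919.CentralQuot

/-!
# Row `No3` of (EX3): the Baby Monster (helper88)

`LongFixC.no3` for the large extraspecial subgroup `2^{1+22}`: every 3-element `≠ 1` of `C(z)` has commutator of
dimension at least 10 on `Q / ⟨z⟩` (`BabyStage.ranks`).
-/

set_option autoImplicit false
set_option linter.style.haveILetI false

namespace Cfsg.Agent.OddHalf.NI3.Ex.RowB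

open Subgroup Cfsg Cfsg.Agent.OddHalf.NI Cfsg.Agent.OddHalf.NI.Ex Cfsg.Agent.OddHalf.LieOddFam
open Cfsg.Agent.BabyM Cfsg.Agent.BabyM.Model Cfsg.Agent.BabyM.Conc
open Cfsg.Agent.OddHalf.NI3.Ex.PackM Cfsg.Agent.OddHalf.NI3.Ex.BabyMat Cfsg.Agent.OddHalf.NI3.Ex.BabySyl
open Cfsg.Agent.OddHalf.NI3.Ex.BabyStage Cfsg.Agent.OddHalf.NI3.Ex.LongFix
open Cfsg.Agent.BabyU.ClosModel (mem_PP zz)
open Cfsg.Agent.BabyU.ClosLane (A)
open Cfsg.Agent.Co2Type.Quad

universe u

/-- the subgroup `Q` -/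
local notation "QQ" => Cfsg.Agent.BabyU.ClosModel.PP Inst.M

theorem hbig (w : Inst.M.G) (hw : w * zz A = zz A * w) (h3 : ∃ k : ℕ, w ^ 3 ^ k = 1) (h1 : w ≠ 1) :
    Big QQ (zz A) w := by
  haveI := A.finite_G
  haveI : Fact (Nat.Prime 3) := ⟨Nat.prime_three⟩
  have hL := KFacts.Baby.Inst.large A
  obtain ⟨H, S⟩ := exists_top
  set C : Subgroup Inst.M.G := centralizer ({zz A} : Set Inst.M.G) with hC
  have hHC : H ≤ C := fun h hh => mem_centralizer_singleton_iff.2 (S.cen h hh)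
  have hcard : Nat.card C = 2 ^ 23 * 42305421312000 := by
    rw [Nat.card_congr (KFacts.Baby.Inst.eC A).toEquiv, A.grp.card_C]
  have hidx : ¬ 3 ∣ (H.subgroupOf C).index := by
    intro hdvd
    have h2 := (H.subgroupOf C).card_mul_index
    rw [hcard, Nat.card_congr (subgroupOfEquivOfLe hHC).toEquiv, S.card] at h2
    obtain ⟨m, hm⟩ := hdvd
    rw [hm] at h2
    have h4 : 3 ^ 7 ∣ 2 ^ 23 * 42305421312000 := ⟨Nat.card QQ * m, by rw [← h2]; ring⟩
    revert h4
    norm_num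
  have hwC : w ∈ C := mem_centralizer_singleton_iff.2 hw
  obtain ⟨k, hk⟩ := h3
  obtain ⟨c, hc⟩ := ChainThree.exists_conj hidx (w := ⟨w, hwC⟩) ⟨k, Subtype.ext hk⟩
  have hc' : (c : Inst.M.G)⁻¹ * w * c ∈ H := hc
  have hcz : (c : Inst.M.G) * zz A = zz A * c := mem_centralizer_singleton_iff.1 c.2
  set s := (c : Inst.M.G)⁻¹ * w * c with hs
  obtain ⟨M, hM, hl⟩ := S.dfs leafR ID ranks 1 rep_one s hc'
  rw [one_mul] at hM
  have hsz := S.cen s hc'
  have hs1 : s ≠ 1 := by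
    intro h
    apply h1
    calc w = c * s * (c : Inst.M.G)⁻¹ := by rw [hs]; group
      _ = 1 := by rw [h]; group
  have hsk : s ^ 3 ^ k = 1 := by
    have e : s = (c : Inst.M.G)⁻¹ * w * (c : Inst.M.G)⁻¹⁻¹ := by rw [hs, inv_inv]
    rw [e, conj_pow, hk, mul_one, mul_inv_cancel]
  rcases leafR_spec hl with h | h
  · exfalso
    rw [h] at hM
    have hsQ := mem_of_id hsz hM
    have h4 : s ^ 4 = 1 := by
      have e : s ^ 4 = (s * s) * (s * s) := by rw [← pow_two, ← pow_two, ← pow_mul]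
      rw [e]
      rcases hL.sq s hsQ with h | h
      · rw [h, mul_one]
      · rw [h, hL.z_sq]
    apply hs1
    rw [← orderOf_eq_one_iff]
    exact Nat.eq_one_of_dvd_coprimes (Nat.Coprime.pow_right k (by norm_num : Nat.Coprime 4 3))
      (orderOf_dvd_of_pow_eq_one h4) (orderOf_dvd_of_pow_eq_one hsk)
  · have h2 := LongFixC.Big.conj (c : Inst.M.G) (w := w) (BabyMat.big hsz hM h)
    have e1 : (c : Inst.M.G) * zz A * (c : Inst.M.G)⁻¹ = zz A := by rw [hcz, mul_inv_cancel_right]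
    have e2 : (QQ).map (MulAut.conj (c : Inst.M.G)).toMonoidHom = QQ := by
      apply le_antisymm
      · rintro _ ⟨q, hq, rfl⟩
        exact hL.conj_mem _ hcz q hq
      · intro q hq
        have hcz' : (c : Inst.M.G)⁻¹ * zz A = zz A * (c : Inst.M.G)⁻¹ := by
          rw [inv_mul_eq_iff_eq_mul, ← mul_assoc, hcz, mul_inv_cancel_right]
        refine ⟨_, hL.conj_mem _ hcz' q hq, ?_⟩
        change (c : Inst.M.G) * ((c : Inst.M.G)⁻¹ * q * (c : Inst.M.G)⁻¹⁻¹) * (c : Inst.M.G)⁻¹ = q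
        group
    rwa [e1, e2] at h2

/-- the group of the model -/
theorem model {α : MulAut Inst.M.G} (hα : orderOf α = 2) {J : Subgroup Inst.M.G} (hJ : CompIn (fix α) J)
    (hr : Rk (↥J ⧸ center ↥J) 3) : False := by
  haveI := A.finite_G
  have hL := KFacts.Baby.Inst.large A
  have hne : ∃ x ∈ QQ, x ≠ 1 ∧ x ≠ zz A := by
    obtain ⟨n₀, h1, h2, -⟩ := KFacts.Baby.Inst.gen A
    refine ⟨_, h1, fun h => hL.z_ne ?_, h2⟩
    have h3 : n₀ * zz A = n₀ := by
      have := congrArg (· * n₀) h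
      simpa using this
    exact mul_eq_left.1 h3
  exact LongFixC.no3 hL (KFacts.Baby.Inst.odd_index A)
    (fun β hβ q hq => KFacts.AutLarge.map_mem hL (KFacts.Baby.Inst.irr' A) hne hβ hq) hbig hα hJ hr

/-- **Row `B`.** -/
theorem no3_b {X : Type u} [Group X] (h : Spor.IsoB X) : No3 X := by
  obtain ⟨e⟩ := KFacts.Baby.RowB.exists_iso h
  intro α hα J hJ _ hr
  exfalso
  set α' : MulAut Inst.M.G := MulAut.congr e.symm α with hα'
  have h1 : orderOf α' = 2 := by rw [hα', MulEquiv.orderOf_eq, hα]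
  have h2 : CompIn (fix α') (J.map e.symm.toMonoidHom) := by
    rw [hα', fix_congr]
    exact compIn_equiv e.symm hJ
  obtain ⟨f⟩ := Fischer919.CentralQuot.equiv_quotient_center (J.equivMapOfInjective e.symm.toMonoidHom e.symm.injective)
  exact model h1 h2 (rk_congr f hr)

end Cfsg.Agent.OddHalf.NI3.Ex.RowB
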