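import Cfsg.Agent.OddHalf.NI3.Ex.Defs
import Cfsg.Agent.OddHalf.NI.Ex.Balance
import Cfsg.Agent.Co2Type.Quad

/-!
# Tools for the rows of (EX3)

* `comp_false`: an involution with a large extraspecial 2-group has no component in its centralizer;
* `card_fix_congr`, `card_fix_conj`: transport of the order of `fix α`;
* `dvd_card_fix`: `81` divides the order of `fix α` in a configuration of `No3`.
-/

set_option autoImplicit false

namespace Cfsg.Agent.OddHalf.NI3.Ex.RowTools

open Subgroup Cfsg Cfsg.Agent.OddHalf.Iface Cfsg.Agent.OddHalf.NI Cfsg.Agent.OddHalf.NI.Ex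
open Cfsg.Agent.Co2Type.Quad

/-- An involution with a large extraspecial 2-group: its centralizer has no component. -/
theorem comp_false {K X : Type*} [Group K] [Group X] [Finite X] {z : K} {Q : Subgroup K} (hL : Large Q z)
    (f : K ≃* X) {J : Subgroup X} (hJ : CompIn (fix (MulAut.conj (f z))) J) : False := by
  have hz : f z * f z = 1 := by rw [← map_mul, hL.z_sq, map_one]
  have hfix : ∀ x, x ∈ fix (MulAut.conj (f z)) ↔ x * f z = f z * x := by
    intro x
    rw [mem_fix, MulAut.conj_apply, mul_inv_eq_iff_eq_mul, eq_comm]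
  have hQ : IsPGroup 2 Q := by
    intro x
    refine ⟨2, Subtype.ext ?_⟩
    have h4 : (x : K) ^ 2 ^ 2 = (x * x) * (x * x) := by
      rw [show (2 : ℕ) ^ 2 = 4 by norm_num, pow_succ, pow_succ, pow_succ, pow_one]
      group
    change (x : K) ^ 2 ^ 2 = 1
    rw [h4]
    rcases hL.sq x x.2 with h | h
    · rw [h, mul_one]
    · rw [h, hL.z_sq]
  have hsz : ∀ g : X, g * f z = f z * g → f.symm g * z = z * f.symm g := by
    intro g hg
    have h1 := congrArg f.symm hg
    rwa [map_mul, map_mul, f.symm_apply_apply] at h1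
  refine Balance.no_sub (a := MulAut.conj (f z)) (by rw [← map_mul, hz, map_one]) (z := f z)
    (by rw [MulAut.conj_apply, mul_inv_cancel_right]) (Q := Q.map f.toMonoidHom) (hQ.map _) ?_ ?_ ?_
    (D := J) (fun d hd => hJ.le hd) (fun d hd => (hfix d).1 (hJ.le hd))
    (hJ.mono (fun j hj => ⟨hJ.le hj, mem_centralizer_singleton_iff.2 ((hfix j).1 (hJ.le hj))⟩) inf_le_left)
  · rintro _ ⟨q, hq, rfl⟩
    change f q * f z = f z * f q
    rw [← map_mul, hL.comm_z q hq, map_mul]
  · rintro g hg _ ⟨q, hq, rfl⟩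
    refine ⟨f.symm g * q * (f.symm g)⁻¹, hL.conj_mem _ (hsz g hg) q hq, ?_⟩
    change f (f.symm g * q * (f.symm g)⁻¹) = g * f q * g⁻¹
    rw [map_mul, map_mul, map_inv, f.apply_symm_apply]
  · intro g hg hc
    refine ⟨f.symm g, hL.self _ (hsz g hg) fun q hq => ?_, f.apply_symm_apply g⟩
    have h1 := congrArg f.symm (hc (f q) ⟨q, hq, rfl⟩)
    rwa [map_mul, map_mul, f.symm_apply_apply] at h1

/-- transport of automorphisms -/
theorem card_fix_congr {K X : Type*} [Group K] [Group X] (e : X ≃* K) (α : MulAut X) :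
    Nat.card ↥(fix α) = Nat.card ↥(fix (MulAut.congr e α)) := by
  refine Nat.card_congr
    { toFun := fun x => ⟨e x, ?_⟩
      invFun := fun x => ⟨e.symm x, ?_⟩
      left_inv := fun x => Subtype.ext (e.symm_apply_apply x)
      right_inv := fun x => Subtype.ext (e.apply_symm_apply x) }
  · change e (α (e.symm (e x))) = e x
    rw [e.symm_apply_apply, mem_fix.1 x.2]
  · have h1 : e (α (e.symm x)) = x := x.2
    rw [mem_fix]
    apply e.injective
    rw [h1, e.apply_symm_apply]

theorem card_fix_conj {K : Type*} [Group K] (α : MulAut K) (g : K) :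
    Nat.card ↥(fix (MulAut.conj g * α * (MulAut.conj g)⁻¹)) = Nat.card ↥(fix α) := by
  have h := card_fix_congr (MulAut.conj g) α
  rw [h]
  rfl

theorem fix_conj {K : Type*} [Group K] (s : K) : fix (MulAut.conj s) = centralizer ({s} : Set K) := by
  ext x
  rw [mem_fix, MulAut.conj_apply, mul_inv_eq_iff_eq_mul, mem_centralizer_singleton_iff, eq_comm]

theorem dvd_card_fix {X : Type*} [Group X] {α : MulAut X} {J : Subgroup X} (hc : CompIn (fix α) J)
    (hJ : 81 ∣ Nat.card (↥J ⧸ center ↥J)) : 81 ∣ Nat.card ↥(fix α) :=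
  (card_dvd_of_card_quo hJ).trans (card_dvd_of_le hc.le)

end Cfsg.Agent.OddHalf.NI3.Ex.RowTools
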