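import Cfsg.Agent.KFacts.Co1.TwoBThree
import Cfsg.Agent.KFacts.Co1.SheetCo1
import Cfsg.Agent.CoOneType.ClosingCo1
import Cfsg.Agent.ConwayFacts.AutCo1
import Cfsg.Agent.OddHalf.NI3.Ex.RowTools

/-!
# Row `No3` of (EX3): `Co1` (helper907)

All automorphisms are inner. Class 2A (octads): the centralizer is 2-constrained; class 2C (dodecads): it is
contained in `2^11:M24`; class 2B: `Co1.TwoBThree.not_dvd`.
-/

set_option autoImplicit false

namespace Cfsg.Agent.OddHalf.NI3.Ex.RowCo1

open Subgroup Cfsg Cfsg.Agent.OddHalf.Iface Cfsg.Agent.OddHalf.NI Cfsg.Agent.OddHalf.NI.Ex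
open Cfsg.Agent.SporadicA.Co0Mono
open Cfsg.Agent.CoOneType.SignFacts (sup wt)
open Cfsg.Agent.CoOneType.ClosingFacts (mk mk_mul mk_eq_one exists_mk inv_cases isConj_dvd)
open Cfsg.Agent.OddHalf.NI3.Ex.RowTools

theorem not_dvd_dodecad {d : golayCode} (hd : wt d = 12) :
    ¬ 81 ∣ Nat.card (centralizer ({mk (signCo0 d)} : Set Spor.Co1)) := by
  intro h
  have h1 := card_dvd_of_le (Cfsg.Agent.CoOneType.CoOneE.centralizer_dodecad_le d hd)
  have h2 : Nat.card (Cfsg.Agent.SporadicA.Co1Simple.N.map Cfsg.Agent.CoOneType.CoOneE.pr) ∣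
      Nat.card Cfsg.Agent.SporadicA.Co1Simple.N := card_map_dvd _ _
  have h3 := (h.trans h1).trans h2
  rw [Cfsg.Agent.S0399.card_N] at h3
  norm_num at h3

/-- **Row `Co1`.** -/
theorem no3_co1 {X : Type*} [Group X] [Finite X] (h : Spor.IsoCo1 X) : No3 X := by
  obtain ⟨e⟩ := h
  intro α hα J hc hJ _
  exfalso
  have h81 := dvd_card_fix hc hJ
  set β := MulAut.congr e α with hβ
  rw [card_fix_congr e α, ← hβ] at h81
  have hαα : α * α = 1 := by
    have := pow_orderOf_eq_one α
    rwa [hα, pow_two] at this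
  have hββ : β * β = 1 := by rw [hβ, ← map_mul, hαα, map_one]
  have hβ1 : β ≠ 1 := by
    intro h1
    have h2 : α = 1 := (MulAut.congr e).injective (by rw [← hβ, h1, map_one])
    rw [h2, orderOf_one] at hα
    omega
  obtain ⟨s, hs⟩ := Cfsg.Agent.ConwayFacts.AutCo1.inner β
  have hβs : β = MulAut.conj s := MulEquiv.ext fun g => by rw [MulAut.conj_apply, hs]
  have hss : s * s = 1 := by
    apply Cfsg.Agent.KFacts.Co1.SheetCo1.eq_one_of_central
    intro g
    have h1 := congrArg (fun b : MulAut Spor.Co1 => b g) hββ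
    change β (β g) = g at h1
    rw [hs, hs] at h1
    calc s * s * g = (s * (s * g * s⁻¹) * s⁻¹) * (s * s) := by group
      _ = g * (s * s) := by rw [h1]
  have hs1 : s ≠ 1 := by
    rintro rfl
    exact hβ1 (by rw [hβs, map_one])
  rw [hβs, fix_conj] at h81
  obtain ⟨o, ho⟩ := Cfsg.Agent.CoOneType.ClosingCo1.exists_octad
  obtain ⟨d, hd⟩ := Cfsg.Agent.CoOneType.ClosingCo1.exists_dodecad
  obtain ⟨t, rfl⟩ := exists_mk s
  rw [← mk_mul, mk_eq_one] at hss
  rcases hss with hss | hss
  · rcases inv_cases o d Cfsg.Agent.CoOneType.ClosingCo1.a1 ho hd t hss hs1 with h | h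
    · -- class 2A
      obtain ⟨g, hg⟩ := isConj_iff.1 h
      let f : Spor.Co1 ≃* X := (MulAut.conj g).trans e.symm
      have hf : f (mk (signCo0 o)) = e.symm (mk t) := by
        change e.symm (g * mk (signCo0 o) * g⁻¹) = _
        rw [hg]
      have hαs : α = MulAut.conj (f (mk (signCo0 o))) := by
        rw [hf]
        ext x
        apply e.injective
        have h1 : e (α (e.symm (e x))) = mk t * e x * (mk t)⁻¹ := hs (e x)
        rw [e.symm_apply_apply] at h1
        rw [h1, MulAut.conj_apply, map_mul, map_mul, map_inv, e.apply_symm_apply]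
      rw [hαs] at hc
      exact comp_false (Cfsg.Agent.KFacts.Co1.InCo1.large ho) f hc
    · -- class 2C
      exact not_dvd_dodecad hd (isConj_dvd h.symm h81)
  · -- class 2B
    exact Cfsg.Agent.KFacts.Co1.TwoBThree.not_dvd hss h81

end Cfsg.Agent.OddHalf.NI3.Ex.RowCo1
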