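import Cfsg.Agent.KFacts.SuzFix
import Cfsg.Agent.KFacts.SuzLarge
import Cfsg.Agent.OddHalf.NI3.Ex.Defs
import Cfsg.Agent.OddHalf.NI.Ex.Balance

/-!
# Row `No3` of (EX3): `Suz` (helper88)

`81` divides the order of the centralizer of an involutory automorphism only for the class 2A, whose centralizer is
2-constrained (`comp_false`).
-/

set_option autoImplicit false

namespace Cfsg.Agent.OddHalf.NI3.Ex.RowSuz

open Subgroup Cfsg Cfsg.Agent.OddHalf.Iface Cfsg.Agent.OddHalf.NI Cfsg.Agent.OddHalf.NI.Ex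
open Cfsg.Agent.Co2Type.Quad

/-- An involution with a large extraspecial 2-group: its centralizer has no component. -/
theorem comp_false {K X : Type*} [Group K] [Group X] [Finite X] {z : K} {Q : Subgroup K} (hL : Large Q z)
    (f : K ≃* X) {J : Subgroup X} (hJ : CompIn (fix (MulAut.conj (f z))) J) : False := by
  have hz : f z * f z = 1 := by rw [← map_mul, hL.z_sq, map_one]
  have hfix : ∀ x, x ∈ fix (MulAut.conj (f z)) ↔ x * f z = f z * x := by
    intro x
    rw [mem_fix, MulAut.conj_apply, mul_inv_eq_iff_eq_mul, eq_comm]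
  have hQ : IsPGroup 2 Q := by
    intro x
    refine ⟨2, Subtype.ext ?_⟩
    have h4 : (x : K) ^ 2 ^ 2 = (x * x) * (x * x) := by
      rw [show (2 : ℕ) ^ 2 = 4 by norm_num, pow_succ, pow_succ, pow_succ, pow_one]
      group
    change (x : K) ^ 2 ^ 2 = 1
    rw [h4]
    rcases hL.sq x x.2 with h | h
    · rw [h, mul_one]
    · rw [h, hL.z_sq]
  have hsz : ∀ g : X, g * f z = f z * g → f.symm g * z = z * f.symm g := by
    intro g hg
    have h1 := congrArg f.symm hg
    rwa [map_mul, map_mul, f.symm_apply_apply] at h1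
  refine Balance.no_sub (a := MulAut.conj (f z)) (by rw [← map_mul, hz, map_one]) (z := f z)
    (by rw [MulAut.conj_apply, mul_inv_cancel_right]) (Q := Q.map f.toMonoidHom) (hQ.map _) ?_ ?_ ?_
    (D := J) (fun d hd => hJ.le hd) (fun d hd => (hfix d).1 (hJ.le hd))
    (hJ.mono (fun j hj => ⟨hJ.le hj, mem_centralizer_singleton_iff.2 ((hfix j).1 (hJ.le hj))⟩) inf_le_left)
  · rintro _ ⟨q, hq, rfl⟩
    change f q * f z = f z * f q
    rw [← map_mul, hL.comm_z q hq, map_mul]
  · rintro g hg _ ⟨q, hq, rfl⟩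
    refine ⟨f.symm g * q * (f.symm g)⁻¹, hL.conj_mem _ (hsz g hg) q hq, ?_⟩
    change f (f.symm g * q * (f.symm g)⁻¹) = g * f q * g⁻¹
    rw [map_mul, map_mul, map_inv, f.apply_symm_apply]
  · intro g hg hc
    refine ⟨f.symm g, hL.self _ (hsz g hg) fun q hq => ?_, f.apply_symm_apply g⟩
    have h1 := congrArg f.symm (hc (f q) ⟨q, hq, rfl⟩)
    rwa [map_mul, map_mul, f.symm_apply_apply] at h1

/-- transport of automorphisms -/
theorem card_fix_congr {K X : Type*} [Group K] [Group X] (e : X ≃* K) (α : MulAut X) :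
    Nat.card ↥(fix α) = Nat.card ↥(fix (MulAut.congr e α)) := by
  refine Nat.card_congr
    { toFun := fun x => ⟨e x, ?_⟩
      invFun := fun x => ⟨e.symm x, ?_⟩
      left_inv := fun x => Subtype.ext (e.symm_apply_apply x)
      right_inv := fun x => Subtype.ext (e.apply_symm_apply x) }
  · change e (α (e.symm (e x))) = e x
    rw [e.symm_apply_apply, mem_fix.1 x.2]
  · have h1 : e (α (e.symm x)) = x := x.2
    rw [mem_fix]
    apply e.injective
    rw [h1, e.apply_symm_apply]

theorem card_fix_conj {K : Type*} [Group K] (α : MulAut K) (g : K) :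
    Nat.card ↥(fix (MulAut.conj g * α * (MulAut.conj g)⁻¹)) = Nat.card ↥(fix α) := by
  have h := card_fix_congr (MulAut.conj g) α
  rw [h]
  rfl

open Cfsg.Spor Cfsg.Agent.KFacts.SuzFix Cfsg.Agent.KFacts.SuzRho Cfsg.Agent.KFacts.SuzLFour in
/-- **Row `Suz`.** -/
theorem no3_suz {X : Type*} [Group X] [Finite X] (h : Spor.IsoSuz X) : No3 X := by
  obtain ⟨e⟩ := h
  intro α hα J hc hJ _
  exfalso
  have h81 : 81 ∣ Nat.card ↥(fix α) := (card_dvd_of_card_quo hJ).trans (card_dvd_of_le hc.le)
  set β := MulAut.congr e α with hβ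
  rw [card_fix_congr e α, ← hβ] at h81
  have hαα : α * α = 1 := by
    have := pow_orderOf_eq_one α
    rwa [hα, pow_two] at this
  have hββ : β * β = 1 := by rw [hβ, ← map_mul, hαα, map_one]
  have hβ1 : β ≠ 1 := by
    intro h1
    have h2 : α = 1 := (MulAut.congr e).injective (by rw [← hβ, h1, map_one])
    rw [h2, orderOf_one] at hα
    omega
  by_cases hin : ∃ s, β = MulAut.conj s
  · obtain ⟨s, hs⟩ := hin
    have hss : s * s = 1 := Cfsg.Agent.KFacts.SuzInvol.conj_eq_one (by rw [map_mul, ← hs, hββ])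
    have hs1 : s ≠ 1 := by
      rintro rfl
      exact hβ1 (by rw [hs, map_one])
    rcases Cfsg.Agent.SporRec.SuzCl.two s hss hs1 with ⟨g, hg⟩ | ⟨g, hg⟩
    · -- class 2A
      let f : Suz ≃* X := (MulAut.conj g).trans e.symm
      have hf : f Cfsg.Agent.SuzThree.CentA.z0 = e.symm s := by
        change e.symm (g * _ * g⁻¹) = _
        rw [Cfsg.Agent.SuzThree.CentCard.z0_eq, hg]
      have hαs : α = MulAut.conj (f Cfsg.Agent.SuzThree.CentA.z0) := by
        rw [hf]
        ext x
        apply e.injective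
        have h1 : e (α (e.symm (e x))) = s * e x * s⁻¹ := congrArg (fun b : MulAut Suz => b (e x)) hs
        rw [e.symm_apply_apply] at h1
        rw [h1, MulAut.conj_apply, map_mul, map_mul, map_inv, e.apply_symm_apply]
      rw [hαs] at hc
      exact comp_false Cfsg.Agent.KFacts.SuzLarge.large f hc
    · -- class 2B
      have h1 : MulAut.conj s = MulAut.conj g * MulAut.conj e0 * (MulAut.conj g)⁻¹ := by
        rw [← map_mul, ← map_inv, ← map_mul]
        congr 1
        rw [← hg]
        rfl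
      rw [hs, h1, card_fix_conj] at h81
      have h2 : fix (MulAut.conj e0) = Cfsg.Agent.KFacts.SuzTwoB.CE := by
        ext x
        rw [mem_fix, MulAut.conj_apply, mul_inv_eq_iff_eq_mul, Cfsg.Agent.KFacts.SuzTwoB.mem_CE, eq_comm]
      rw [h2, Cfsg.Agent.KFacts.SuzTwoB.card_CE] at h81
      revert h81
      norm_num
  · push Not at hin
    rcases Cfsg.Agent.KFacts.SuzInvol.outer hββ hin with ⟨g, hg⟩ | ⟨g, hg⟩
    · rw [hg, card_fix_conj] at h81
      exact card_rho (fun _ => Iff.rfl) h81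
    · rw [hg, card_fix_conj] at h81
      have h1 : rho * MulAut.conj (PresentedGroup.of Suz.Gen.e) = Cfsg.Agent.KFacts.SuzFix.tau := by
        rw [Cfsg.Agent.KFacts.SuzFix.tau]
        rfl
      rw [h1, card_tau (F := fix Cfsg.Agent.KFacts.SuzFix.tau) (fun _ => Iff.rfl)] at h81
      revert h81
      norm_num

end Cfsg.Agent.OddHalf.NI3.Ex.RowSuz
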