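import Cfsg.Agent.OddHalf.NI3.Ex.Extra
import Cfsg.Agent.OddHalf.NI3.Ex.SpSix
import Cfsg.Agent.OddHalf.NI3.Ex.Three
import Cfsg.Agent.TwoESix.SheetD
import Cfsg.Agent.S0280

/-!
# (EX3), the row `²E₆(2)`: `2¹¹` divides `|C_X(α)|` for every `α ∈ Aut X`, `α² = 1`
-/

set_option autoImplicit false

namespace Cfsg.Agent.OddHalf.NI3.Ex

open Subgroup Cfsg.Agent.OddHalf.NI.Ex

section Conj

variable {G : Type*} [Group G]

/-- An automorphism `α`, `α² = 1`, preserving a conjugacy class of odd length, fixes a member. -/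
theorem exists_fixed_conj [Finite G] {r : G} (hodd : Odd (centralizer ({r} : Set G)).index) {α : MulAut G}
    (hα : α * α = 1) (hr : ∃ k, α r = k * r * k⁻¹) : ∃ g, α (g * r * g⁻¹) = g * r * g⁻¹ := by
  classical
  have hαα : ∀ g, α (α g) = g := fun g => by rw [← MulAut.mul_apply, hα, MulAut.one_apply]
  obtain ⟨k, hk⟩ := hr
  let T : Set G := {t | ∃ g, t = g * r * g⁻¹}
  have hT : ∀ t ∈ T, α t ∈ T := by
    rintro _ ⟨g, rfl⟩
    exact ⟨α g * k, by rw [map_mul, map_mul, map_inv, hk]; group⟩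
  have hcard : Nat.card ↥T = (centralizer ({r} : Set G)).index := by
    symm
    refine Nat.card_congr (Equiv.ofBijective (Quotient.lift (fun g : G => (⟨g * r * g⁻¹, g, rfl⟩ : ↥T)) ?_) ⟨?_, ?_⟩)
    · intro a b hab
      have h1 := QuotientGroup.leftRel_apply.1 hab
      rw [mem_centralizer_singleton_iff] at h1
      apply Subtype.ext
      show a * r * a⁻¹ = b * r * b⁻¹
      calc a * r * a⁻¹ = a * (r * (a⁻¹ * b)) * b⁻¹ := by group
        _ = a * (a⁻¹ * b * r) * b⁻¹ := by rw [h1]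
        _ = b * r * b⁻¹ := by group
    · intro a b
      induction a using Quotient.inductionOn with | _ a
      induction b using Quotient.inductionOn with | _ b
      intro h
      have h1 : a * r * a⁻¹ = b * r * b⁻¹ := congrArg Subtype.val h
      apply Quotient.sound
      apply QuotientGroup.leftRel_apply.2
      rw [mem_centralizer_singleton_iff]
      calc a⁻¹ * b * r = a⁻¹ * (b * r * b⁻¹) * b := by group
        _ = a⁻¹ * (a * r * a⁻¹) * b := by rw [h1]
        _ = r * (a⁻¹ * b) := by group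
    · rintro ⟨_, g, rfl⟩
      exact ⟨Quotient.mk _ g, rfl⟩
  have := Fintype.ofFinite ↥T
  have : Fact (Nat.Prime 2) := ⟨Nat.prime_two⟩
  let σ : Equiv.Perm ↥T := ⟨fun t => ⟨α t, hT t t.2⟩, fun t => ⟨α t, hT t t.2⟩, fun t => Subtype.ext (hαα t),
    fun t => Subtype.ext (hαα t)⟩
  obtain ⟨⟨_, g, rfl⟩, ha⟩ := Equiv.Perm.exists_fixed_point_of_prime (p := 2) (n := 1) (α := ↥T) (by
    rw [← Nat.card_eq_fintype_card, hcard]
    exact fun h => (Nat.not_even_iff_odd.2 hodd) (even_iff_two_dvd.2 h)) (σ := σ) (by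
      rw [pow_one, pow_two]
      ext t
      exact hαα t)
  exact ⟨g, congrArg Subtype.val ha⟩

theorem card_fix_conj (α : MulAut G) (g : G) :
    Nat.card ↥(fix (MulAut.conj g⁻¹ * α * MulAut.conj g)) = Nat.card ↥(fix α) := by
  have key : ∀ x, (MulAut.conj g⁻¹ * α * MulAut.conj g) x = x ↔ α (g * x * g⁻¹) = g * x * g⁻¹ := by
    intro x
    rw [MulAut.mul_apply, MulAut.mul_apply, MulAut.conj_apply, MulAut.conj_apply, inv_inv]
    constructor
    · intro h
      nth_rewrite 2 [← h]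
      group
    · intro h
      rw [h]; group
  refine Nat.card_congr ⟨fun x => ⟨g * x * g⁻¹, (key x).1 x.2⟩, fun y => ⟨g⁻¹ * y * g, (key _).2 ?_⟩, fun x => ?_,
    fun y => ?_⟩
  · have e : g * (g⁻¹ * (y : G) * g) * g⁻¹ = y := by group
    rw [e]
    exact y.2
  · apply Subtype.ext
    show g⁻¹ * (g * (x : G) * g⁻¹) * g = x
    group
  · apply Subtype.ext
    show g * (g⁻¹ * (y : G) * g) * g⁻¹ = y
    group

end Conj

open Cfsg Cfsg.Lie Cfsg.Agent.TwoESix Cfsg.Agent.TwoESix.LongCard Cfsg.Agent.TwoESix.SheetA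
open Cfsg.Agent.TwoESix.KeyExtra Cfsg.Agent.TwoESix.SheetD Cfsg.Agent.TwoESix.FlagH Cfsg.Agent.TwoESix.LeviA

universe u

theorem card_PSU_six {F : Type u} [Field F] [Fintype F] (hF : Fintype.card F = 2 ^ 2) :
    Nat.card (PSU 6 F 2) = 9196830720 := by
  have h := Cfsg.Agent.S0280.result hF 6 (by norm_num)
  simp only [Finset.prod_range_succ, Finset.prod_range_zero] at h
  have e1 : Nat.gcd 6 3 = 3 := by decide
  norm_num [e1] at h
  omega

/-- **`²E₆(2)`: `2¹¹` divides `|C(α)|`.** -/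
theorem pow_dvd_fix_twE6 {K : Type u} [Field K] [Fintype K] (hK : Fintype.card K = 4)
    {α : MulAut ↥(twistedE6 K 2)} (hα : α * α = 1) : 2 ^ 11 ∣ Nat.card ↥(fix α) := by
  obtain ⟨-, φ, F⟩ := LeviA.exists_four K hK
  have := finite_E (K := K)
  have hr : r0 F ∈ BabyU.rootClass K := xe_T F 71 (by decide +kernel)
  obtain ⟨g, hg⟩ := exists_fixed_conj (r := r0 F) (by rw [index_cent F]; decide) hα (by
    obtain ⟨k, hk⟩ := exists_conj F ((ExtTwisted.auto K K F.card F.card α (r0 F)).1 hr)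
    exact ⟨k, hk.symm⟩)
  rw [← card_fix_conj α g]
  obtain ⟨γ, hγ⟩ : ∃ γ, γ = MulAut.conj g⁻¹ * α * MulAut.conj g := ⟨_, rfl⟩
  rw [← hγ]
  have hγ2 : γ * γ = 1 := by
    have h1 : (MulAut.conj g⁻¹ * α * MulAut.conj g) * (MulAut.conj g⁻¹ * α * MulAut.conj g) =
        MulAut.conj g⁻¹ * (α * α) * MulAut.conj g := by
      rw [map_inv]; group
    rw [hγ, h1, hα, map_inv]; group
  have hγr : γ (r0 F) = r0 F := by
    rw [hγ]
    show MulAut.conj g⁻¹ (α (MulAut.conj g (r0 F))) = r0 F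
    rw [MulAut.conj_apply g, hg, MulAut.conj_apply]
    group
  have hγγ : ∀ y, γ (γ y) = y := fun y => by rw [← MulAut.mul_apply, hγ2, MulAut.one_apply]
  have hH : ∀ h ∈ centralizer ({r0 F} : Set ↥(twistedE6 K 2)), γ h ∈ centralizer ({r0 F} : Set ↥(twistedE6 K 2)) := by
    intro h hh
    rw [mem_centralizer_singleton_iff] at hh ⊢
    have := congrArg γ hh
    rwa [map_mul, map_mul, hγr] at this
  let β : MulAut ↥(centralizer ({r0 F} : Set ↥(twistedE6 K 2))) :=
    { toFun := fun h => ⟨γ h, hH h h.2⟩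
      invFun := fun h => ⟨γ h, hH h h.2⟩
      left_inv := fun h => Subtype.ext (hγγ h)
      right_inv := fun h => Subtype.ext (hγγ h)
      map_mul' := fun a b => Subtype.ext (map_mul γ (a : ↥(twistedE6 K 2)) b) }
  have hRH : RE K ≤ centralizer ({r0 F} : Set ↥(twistedE6 K 2)) := fun q hq =>
    mem_centralizer_singleton_iff.2 (RE_comm_r0 F hq)
  obtain ⟨ψ, hsurj, hker, -⟩ := exists_chart F
  have hker' : ψ.ker = (RE K).subgroupOf (centralizer ({r0 F} : Set ↥(twistedE6 K 2))) := by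
    ext y
    rw [MonoidHom.mem_ker]
    exact hker y
  have hidx : (RE K).relIndex (centralizer ({r0 F} : Set ↥(twistedE6 K 2))) = 9196830720 := by
    rw [relIndex, ← hker', index_ker, MonoidHom.range_eq_top.2 hsurj, card_top]
    exact card_PSU_six (hF4 F)
  have hcR : Nat.card ↥(RE K) = 2 ^ (2 * 10 + 1) := by
    have h1 : Nat.card ↥(RE K) * (RE K).relIndex (centralizer ({r0 F} : Set ↥(twistedE6 K 2))) =
        Nat.card ↥(centralizer ({r0 F} : Set ↥(twistedE6 K 2))) := by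
      rw [← Nat.card_congr (subgroupOfEquivOfLe hRH).toEquiv]
      exact card_mul_index _
    rw [hidx, card_cent F] at h1
    have h2 : Nat.card ↥(RE K) * 9196830720 = 2 ^ (2 * 10 + 1) * 9196830720 := by rw [h1]; norm_num
    exact Nat.eq_of_mul_eq_mul_right (by norm_num) h2
  exact pow_dvd_fix (n := 10) hγ2 hRH (fun h hh q hq => R_norm F h (mem_centralizer_singleton_iff.1 hh) q hq)
    (fun q hq => RE_char F β ⟨q, hRH hq⟩ hq) hH (fun q hq => RE_comm_r0 F hq) (fun q hq => sq_RE F q hq)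
    (r0_sq' F) hcR.ge (by rw [hidx]; norm_num)

/-! ### The row -/

theorem card_fix_congr {X Y : Type*} [Group X] [Group Y] (e : X ≃* Y) (α : MulAut X) :
    Nat.card ↥(fix (MulAut.congr e α)) = Nat.card ↥(fix α) := by
  have h : ∀ x, x ∈ fix α ↔ e x ∈ fix (MulAut.congr e α) := by
    intro x
    have h1 : MulAut.congr e α (e x) = e (α x) := by
      show e (α (e.symm (e x))) = _
      rw [e.symm_apply_apply]
    rw [mem_fix, mem_fix, h1]
    exact e.injective.eq_iff.symm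
  exact (Nat.card_congr (e.toEquiv.subtypeEquiv h)).symm

theorem pow_dvd_fix_te62 {X : Type u} [Group X] (h : D9.Cut.X2E62 X) {α : MulAut X} (hα : α * α = 1) :
    2 ^ 11 ∣ Nat.card ↥(fix α) := by
  obtain ⟨F, i, j, hF, ⟨e⟩⟩ := h
  rw [← card_fix_congr e]
  exact pow_dvd_fix_twE6 hF (by rw [← map_mul, hα, map_one])

theorem card_te62 {X : Type u} [Group X] (h : D9.Cut.X2E62 X) : Nat.card X = 76532479683774853939200 := by
  obtain ⟨F, i, j, hF, ⟨e⟩⟩ := h
  obtain ⟨-, φ, H⟩ := LeviA.exists_four F hF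
  rw [Nat.card_congr e.toEquiv, card_E H]

theorem ct_te62 {X : Type u} [Group X] [Finite X] (hs : IsSimpleGroup X) (hna : ¬ IsMulCommutative X)
    (h : D9.Cut.X2E62 X) : CT X := by
  obtain ⟨F, i, j, hF, ⟨e⟩⟩ := h
  have h2 := charP_two (F := F) (f := 2) (by rw [hF]; norm_num)
  exact CT.of_filt hs hna (Or.inr (Or.inr (Or.inr (Or.inr (Or.inr (Or.inr (Or.inr
    ⟨F, i, j, h2, 2, Nat.prime_two.isPrimePow, Or.inl ⟨by rw [hF]; norm_num, ⟨e⟩⟩⟩)))))))

/-- **The row `²E₆(2)`.** -/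
theorem no3_te62 {X : Type u} [Group X] [Finite X] (hs : IsSimpleGroup X) (hna : ¬ IsMulCommutative X)
    (h : D9.Cut.X2E62 X) : No3 X := by
  intro α hα J hJ h81 hr
  by_contra hg
  have hX := ct_te62 hs hna h
  have hα2 : α * α = 1 := by rw [← pow_two, ← hα, pow_orderOf_eq_one]
  have hJX : Nat.card (↥J ⧸ center ↥J) ∣ Nat.card X := by
    refine Dvd.dvd.trans ?_ (card_subgroup_dvd_card J)
    exact ⟨Nat.card ↥(center ↥J), by rw [mul_comm]; exact (center ↥J).card_mul_index.symm⟩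
  rw [card_te62 h] at hJX
  have key : 2 ∣ Nat.card (↥J ⧸ center ↥J) → 2 ^ 11 ∣ Nat.card (MulAut (↥J ⧸ center ↥J)) := fun he =>
    pow_dvd hX.char hX.center hα2 hJ (he.trans
      ⟨Nat.card ↥(center ↥J), by rw [mul_comm]; exact (center ↥J).card_mul_index.symm⟩) (pow_dvd_fix_te62 h hα2)
  rcases Three.cases hr h81 hg with ⟨-, h1, h2⟩ | ⟨h1, h2⟩ | ⟨h1, h2⟩ | ⟨h1, h2⟩ | h1
  · have := key (by rw [h1]; norm_num)
    rw [h2] at this
    norm_num at this
  · have := key (by rw [h1]; norm_num)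
    rw [h2] at this
    norm_num at this
  · have := key (by rw [h1]; norm_num)
    rw [h2] at this
    norm_num at this
  · have := key (by rw [h1]; norm_num)
    rw [h2] at this
    norm_num at this
  · have := h1.trans hJX
    norm_num at this

end Cfsg.Agent.OddHalf.NI3.Ex
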