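import Cfsg.Agent.OddHalf.NI3.Ex.USixAlt

/-!
# (EX), (EX3): the row `U₆(2)` (helper5)

* `psu_cases`: an involutory automorphism of `U₆(2)` is inner, or the order of its centralizer is not divisible by 27,
  or it is divisible by `2⁹` and not by `3⁶`.
* `no3_u62`.
-/

set_option autoImplicit false
set_option linter.unusedSectionVars false

namespace Cfsg.Agent.OddHalf.NI3.Ex.USix

open Cfsg Cfsg.Agent.LieClassical.HermBasic Cfsg.Agent.LieClassical.HermSiegel
  Cfsg.Agent.LieClassical.HermGen Cfsg.Agent.LieClassical.SUBasic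
  Cfsg.Agent.ClassicalGeometry.UnitAutBasic Cfsg.Agent.LieClassical.FieldTransfer
  Cfsg.Agent.ClassicalGeometry.PSUAutCount
  Cfsg.Agent.ClassicalGeometry.PSUAutMain Matrix

/-- the action on vectors -/
local notation "ac" => Cfsg.Agent.LieClassical.HermSiegel.act

/-- the fixed points of an automorphism -/
local notation "fx" => Cfsg.Agent.OddHalf.NI.Ex.fix

section Row

variable {F : Type*} [Field F] [Fintype F] {A : GU 6 F 2} {ρ : F ≃+* F} (I : Inv A ρ)

theorem tt_surjective (y : Fin 6 → F) : ∃ x, y = tt A ρ x := by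
  refine ⟨fun i => ρ.symm ((gm A⁻¹ *ᵥ y) i), ?_⟩
  have h1 : (fun i => ρ (ρ.symm ((gm A⁻¹ *ᵥ y) i))) = gm A⁻¹ *ᵥ y := by
    funext i
    simp
  rw [tt, h1, gm_mulVec_inv]

theorem semiConj_tt (g : SU 6 F 2) (x : Fin 6 → F) : ac (semiConj A ρ g) (tt A ρ x) = tt A ρ (ac g x) :=
  act_semiConj A ρ g x

theorem pr_mem {g : SU 6 F 2} (hg : g ∈ Gam A ρ) : pr 6 F 2 g ∈ fx (toAut A ρ) := by
  rw [NI.Ex.mem_fix, toAut_pr]
  congr 1
  apply ext_act
  intro y
  obtain ⟨x, rfl⟩ := tt_surjective (A := A) (ρ := ρ) y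
  rw [semiConj_tt, mem_Gam.mp hg]

include I in
theorem exists_lift {z : PSU 6 F 2} (hz : z ∈ fx (toAut A ρ)) : ∃ g ∈ Gam A ρ, pr 6 F 2 g = z := by
  obtain ⟨g, rfl⟩ := pr_surjective z
  rw [NI.Ex.mem_fix, toAut_pr] at hz
  obtain ⟨c, hc0, hc⟩ : ∃ c : F, c ≠ 0 ∧ ∀ x, ac (semiConj A ρ g) x = c • ac g x := by
    obtain ⟨c, h1, h2⟩ := exists_scalar_of_pr_eq I.card (by norm_num) hz.symm
    refine ⟨c, ?_, h2⟩
    rintro rfl
    simp at h1
  have hd0 : c⁻¹ ≠ 0 := inv_ne_zero hc0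
  have hd3 := cube I.card hd0
  have hd6 : c⁻¹ ^ 6 = 1 := by
    have : c⁻¹ ^ 6 = (c⁻¹ ^ 3) ^ 2 := by ring
    rw [this, hd3, one_pow]
  have hact : ∀ x, ac (g * suScalar 2 c⁻¹ hd6 hd3) x = c⁻¹ • ac g x := by
    intro x
    rw [act_mul, Cfsg.Agent.ClassicalGeometry.PSUAutBasic.act_suScalar, act_smul]
  refine ⟨g * suScalar 2 c⁻¹ hd6 hd3, ?_, ?_⟩
  · rw [mem_Gam]
    intro x
    rw [hact, hact, tt_smul, ← semiConj_tt, hc, smul_smul, I.frob]
    congr 1
    field_simp
  · exact (pr_eq_of_scalar hact).symm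

include I in
theorem card_fix : Nat.card (fx (toAut A ρ)) = Nat.card (Gam A ρ) := by
  let f : Gam A ρ → fx (toAut A ρ) := fun g => ⟨pr 6 F 2 g.1, pr_mem g.2⟩
  have hf : Function.Bijective f := by
    constructor
    · intro g h hgh
      have h1 : pr 6 F 2 g.1 = pr 6 F 2 h.1 := congrArg Subtype.val hgh
      obtain ⟨c, h2, h3⟩ := exists_scalar_of_pr_eq I.card (by norm_num) h1
      apply Subtype.ext
      apply ext_act
      -- `c = 1`
      have hc : ρ c = c := by
        obtain ⟨x, hx⟩ : ∃ x : Fin 6 → F, ac g.1 (tt A ρ x) ≠ 0 := by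
          refine ⟨Pi.single 0 1, fun h => ?_⟩
          have h6 := tt_injective A ρ (((act_eq_zero g.1).mp h).trans (tt_zero A ρ).symm)
          have h7 := congrFun h6 0
          rw [Pi.single_eq_same, Pi.zero_apply] at h7
          exact one_ne_zero h7
        have h4 := mem_Gam.mp h.2 x
        rw [h3, h3, tt_smul, ← mem_Gam.mp g.2] at h4
        have h5 := sub_eq_zero.mpr h4
        rw [← sub_smul] at h5
        exact (sub_eq_zero.mp ((smul_eq_zero.mp h5).resolve_right hx)).symm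
      have hc0 : c ≠ 0 := by
        rintro rfl
        rw [zero_mul] at h2
        exact zero_ne_one h2
      have hc1 : c = 1 := by
        rw [I.frob] at hc
        have h4 : c * (c - 1) = 0 := by linear_combination hc
        exact sub_eq_zero.mp ((mul_eq_zero.mp h4).resolve_left hc0)
      intro y
      rw [h3, hc1, one_smul]
    · rintro ⟨z, hz⟩
      obtain ⟨g, hg, rfl⟩ := exists_lift I hz
      exact ⟨⟨g, hg⟩, rfl⟩
  exact (Nat.card_congr (Equiv.ofBijective f hf)).symm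

end Row

/-- **The involutory automorphisms of `U₆(2)`.** -/
theorem psu_cases {F : Type*} [Field F] [Fintype F] (hF : Fintype.card F = 2 ^ 2) (α : MulAut (PSU 6 F 2))
    (hα : orderOf α = 2) :
    (∃ x, α = MulAut.conj x) ∨ ¬ 27 ∣ Nat.card (fx α) ∨ (2 ^ 9 ∣ Nat.card (fx α) ∧ ¬ 729 ∣ Nat.card (fx α)) := by
  have h1 : α * α = 1 := by
    have h2 := pow_orderOf_eq_one α
    rw [hα, pow_two] at h2
    exact h2
  obtain ⟨A, ρ, rfl⟩ := exists_toAut hF (by norm_num) (by norm_num) α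
  by_cases hρ : ρ = RingEquiv.refl F
  · subst hρ
    exact Or.inl (inner_of_refl hF h1)
  · have I := inv_of hF hρ h1
    right
    rw [card_fix I]
    by_cases h : ∀ x : V0 A ρ, lam I x = 0
    · exact Or.inr ⟨alt_case I h, not_729 I⟩
    · push Not at h
      obtain ⟨v, hv⟩ := h
      exact Or.inl (odd_case I hv)

open Subgroup Cfsg.Agent.OddHalf.Iface Cfsg.Agent.OddHalf.NI Cfsg.Agent.OddHalf.NI.Ex Cfsg.Agent.OddHalf.D9.Cut

universe u

theorem ct_u62 {X : Type u} [Group X] [Finite X] (hs : IsSimpleGroup X) (hna : ¬ IsMulCommutative X)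
    (h : XU62 X) : CT X := by
  obtain ⟨F, i, j, hF, ⟨e⟩⟩ := h
  have h2 := charP_two (F := F) (f := 2) (by rw [hF]; norm_num)
  exact CT.of_filt hs hna (Or.inr (Or.inr (Or.inl ⟨F, i, j, h2, 6, 2, by rw [hF]; norm_num, by norm_num, by norm_num,
    ⟨e⟩⟩)))

/-- the cases for `X ≃ U₆(2)` -/
theorem u62_cases {X : Type u} [Group X] (h : XU62 X) (α : MulAut X) (hα : orderOf α = 2) :
    (∃ x, α = MulAut.conj x) ∨ ¬ 27 ∣ Nat.card (fx α) ∨ (2 ^ 9 ∣ Nat.card (fx α) ∧ ¬ 729 ∣ Nat.card (fx α)) := by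
  obtain ⟨F, i, j, hF, ⟨e⟩⟩ := h
  have hα' : orderOf (MulAut.congr e α) = 2 := by
    rw [MulEquiv.orderOf_eq]; exact hα
  have hc : Nat.card (fx (MulAut.congr e α)) = Nat.card (fx α) := by
    rw [fix_congr]
    exact (Nat.card_congr ((fix α).equivMapOfInjective e.toMonoidHom e.injective).toEquiv).symm
  rcases psu_cases (by rw [hF]; norm_num) (MulAut.congr e α) hα' with ⟨x, hx⟩ | h | h
  · left
    refine ⟨e.symm x, ?_⟩
    ext y
    apply e.injective
    have h1 : e (α y) = (MulAut.congr e α) (e y) := by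
      change e (α y) = e (α (e.symm (e y)))
      rw [e.symm_apply_apply]
    rw [h1, hx, MulAut.conj_apply, MulAut.conj_apply, map_mul, map_mul, map_inv, e.apply_symm_apply]
  · rw [hc] at h
    exact Or.inr (Or.inl h)
  · rw [hc] at h
    exact Or.inr (Or.inr h)

/-- **The row `U₆(2)`.** -/
theorem no3_u62 {X : Type u} [Group X] [Finite X] (hs : IsSimpleGroup X) (hna : ¬ IsMulCommutative X)
    (h : XU62 X) : No3 X := by
  intro α hα J hJ h81 hr
  by_contra hg
  have C := ct_u62 hs hna h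
  have hd : Nat.card (↥J ⧸ center ↥J) ∣ Nat.card (fix α) := by
    refine dvd_trans ?_ (card_dvd_of_le hJ.le)
    rw [← (center ↥J).card_mul_index]
    exact Dvd.intro_left _ rfl
  rcases u62_cases h α hα with ⟨x, rfl⟩ | h1 | ⟨h1, h2⟩
  · exact inner_false C.char C.center hα hJ
  · exact h1 ((dvd_trans (by norm_num) h81).trans hd)
  · have hdX : Nat.card (↥J ⧸ center ↥J) ∣ 9196830720 := by
      rw [← D8.Fi22.OrdEven.card_u62 h]
      exact hd.trans (card_subgroup_dvd_card _)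
    have hα' : α * α = 1 := by rw [← pow_two, ← hα, pow_orderOf_eq_one]
    rcases Three.cases hr h81 hg with ⟨-, h3, h4⟩ | ⟨h3, h4⟩ | ⟨h3, h4⟩ | ⟨h3, h4⟩ | h3
    · have h5 := pow_dvd C.char C.center hα' hJ (by
        rw [← (center ↥J).card_mul_index]
        refine Dvd.dvd.mul_left ?_ _
        change 2 ∣ Nat.card (↥J ⧸ center ↥J)
        rw [h3]
        norm_num) h1
      rw [h4] at h5
      revert h5
      norm_num
    · rw [h3] at hdX
      revert hdX
      norm_num
    · exact h2 ((by rw [h3]; norm_num : 729 ∣ _).trans hd)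
    · rw [h3] at hdX
      revert hdX
      norm_num
    · have h4 := h3.trans hdX
      revert h4
      norm_num

end Cfsg.Agent.OddHalf.NI3.Ex.USix
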