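import Cfsg.Agent.OddHalf.NI3.Ex.Defs
import Cfsg.Agent.OddHalf.D8.Fi22.OrdEven
import Cfsg.Agent.MTwelveType.SylowModel
import Cfsg.Agent.SporadicA.MathieuRecog
import Cfsg.Agent.LeechPack.X100
import Cfsg.Agent.S1619
import Cfsg.Agent.S1627

/-!
# (EX3): the rows of order prime to 81 (helper5)
-/

set_option autoImplicit false

namespace Cfsg.Agent.OddHalf.NI3.Ex

open Subgroup Cfsg Cfsg.Agent.OddHalf.D9.Cut

universe u

variable {X : Type u} [Group X]

theorem no3_of_eq {n : ℕ} (h : Nat.card X = n) (hn : ¬ 81 ∣ n) : No3 X := No3.of_card (by rwa [h])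

theorem no3_g24 (h : XG24 X) : No3 X := no3_of_eq (D8.Fi22.OrdEven.card_g24 h) (by norm_num)

theorem no3_l34 (h : XL34 X) : No3 X := no3_of_eq (D8.Fi22.OrdEven.card_l34 h) (by norm_num)

theorem no3_sz (h : XSz X) : No3 X :=
  No3.of_card fun h' => D8.Fi22.OrdEven.sz h (dvd_trans (by norm_num) h')

theorem no3_m12 (h : Spor.IsoM12 X) : No3 X := by
  obtain ⟨e⟩ := h
  exact no3_of_eq ((Nat.card_congr e.toEquiv).trans MTwelveType.SylowModel.card_M12) (by norm_num)

theorem no3_m22 (h : Spor.IsoM22 X) : No3 X := by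
  obtain ⟨e⟩ := h
  exact no3_of_eq ((Nat.card_congr e.toEquiv).trans SporadicA.MathieuRecog.card_M22) (by norm_num)

theorem no3_j2 (h : Spor.IsoJ2 X) : No3 X := by
  obtain ⟨e⟩ := h
  exact no3_of_eq ((Nat.card_congr e.toEquiv).trans S1619.result.2.2.2) (by norm_num)

theorem no3_ru (h : Spor.IsoRu X) : No3 X := by
  obtain ⟨e⟩ := h
  exact no3_of_eq ((Nat.card_congr e.toEquiv).trans S1627.result.2.1) (by norm_num)

theorem no3_hs (h : Spor.IsoHS X) : No3 X := by
  obtain ⟨e⟩ := h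
  obtain ⟨f⟩ := LeechPack.X100.isoHS_G2
  exact no3_of_eq ((Nat.card_congr (e.trans f.symm).toEquiv).trans LeechPack.X100.card_G2) (by norm_num)

end Cfsg.Agent.OddHalf.NI3.Ex
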