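import Cfsg.Agent.OddHalf.NI3.Ex.Cut
import Cfsg.Agent.OddHalf.NI3.Ex.Void
import Cfsg.Agent.OddHalf.NI3.Ex.SpSix
import Cfsg.Agent.OddHalf.NI3.Ex.USixRow
import Cfsg.Agent.OddHalf.NI3.Ex.OEight
import Cfsg.Agent.OddHalf.NI3.Ex.FFourRow
import Cfsg.Agent.OddHalf.NI3.Ex.RowSuz
import Cfsg.Agent.OddHalf.NI3.Ex.RowCo1
import Cfsg.Agent.OddHalf.NI3.Ex.TwESix
import Cfsg.Agent.OddHalf.NI3.Ex.FiRow.Row

/-!
# (EX3): assembly of the rows (helper5)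

`rows3`: `Rows3` from the row `B`.
-/

set_option autoImplicit false

namespace Cfsg.Agent.OddHalf.NI3.Ex

open Subgroup Cfsg Cfsg.Agent.OddHalf.D9.Cut

universe u

/-- The open rows. -/
structure Rows3Open : Prop where
  b : XRow3.{u} (fun X _ => Spor.IsoB X)

/-- **The rows of (EX3).** -/
theorem rows3 (R : Rows3Open.{u}) : Rows3.{u} where
  u62 := fun _ _ _ hs hna h => USix.no3_u62 hs hna h
  sp62 := fun _ _ _ hs hna h => no3_sp62 hs hna h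
  o82 := fun _ _ _ hs hna h => no3_o82 hs hna h
  g24 := fun _ _ _ _ _ h => no3_g24 h
  f42 := FFour.f42'
  te62 := fun _ _ _ hs hna h => no3_te62 hs hna h
  m12 := fun _ _ _ _ _ h => no3_m12 h
  j2 := fun _ _ _ _ _ h => no3_j2 h
  hs := fun _ _ _ _ _ h => no3_hs h
  suz := fun _ _ _ _ _ h => RowSuz.no3_suz h
  ru := fun _ _ _ _ _ h => no3_ru h
  fi22 := FiRow.Row.fi22
  co1 := fun _ _ _ _ _ h => RowCo1.no3_co1 h
  b := R.b
  m22 := fun _ _ _ _ _ h => no3_m22 h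
  sz := fun _ _ _ _ _ h => no3_sz h
  l34 := fun _ _ _ _ _ h => no3_l34 h

end Cfsg.Agent.OddHalf.NI3.Ex
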