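import Cfsg.Agent.OddHalf.NI.Ex.Cut
import Cfsg.Agent.OddHalf.NI3.Props
import Cfsg.Agent.OddHalf.D8.Fi22.OrdEven
import Cfsg.Agent.OddHalf.D8.Fi22.OrdSpor
import Cfsg.Agent.OddHalf.D8.Fi22.OrdB

/-!
# (EX3b): `3^14` does not divide the order of an exotic component

`ex3b` : `EX3b`: a component `N ∋ y` of `C(y)` with `3^14 ∣ |N|` is of Lie type in odd characteristic.
-/

set_option autoImplicit false

namespace Cfsg.Agent.OddHalf.NI3.Ex.Big

open Subgroup Cfsg Cfsg.Agent.OddHalf.Iface Cfsg.Agent.OddHalf.LieOddFam Cfsg.Agent.OddHalf.D9.Cut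
open Cfsg.Agent.OddHalf.D3 (cj Comp)
open Cfsg.Agent.SignalizersComponents
open Cfsg.Agent.OddHalf.D8.Fi22.OrdEven

universe u

section Orders

variable {X : Type u} [Group X]

theorem te62 (h : X2E62 X) : ¬ 3 ^ 14 ∣ Nat.card X := by
  obtain ⟨F, _, _, hF, ⟨e⟩⟩ := h
  rw [Nat.card_congr e.toEquiv]
  have h := Cfsg.Agent.S1066.result (K := F) (q := 2) ⟨2, 1, Nat.prime_two.prime, one_pos, by norm_num⟩
    (by rw [hF]; norm_num)
  norm_num at h
  intro h1
  have h2 : 3 ^ 14 ∣ 3 * Nat.card ↥(Lie.twistedE6 F 2) := h1.mul_left 3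
  omega

theorem exc2 (h : Exc2 X) : ¬ 3 ^ 14 ∣ Nat.card X := by
  rcases h with h | h | h | h | h | h | h | h | h | h | h | h | h | h
  · rw [card_u62 h]; norm_num
  · rw [card_sp62 h]; norm_num
  · rw [card_o82 h]; norm_num
  · rw [card_g24 h]; norm_num
  · rw [card_f42 h]; norm_num
  · exact te62 h
  · obtain ⟨e⟩ := h
    rw [Nat.card_congr e.toEquiv, MTwelveType.SylowModel.card_M12]; norm_num
  · obtain ⟨e⟩ := h
    rw [Nat.card_congr e.toEquiv, S1619.result.2.2.2]; norm_num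
  · rw [KFacts.HS.card h]; norm_num
  · obtain ⟨e⟩ := h
    rw [Nat.card_congr e.toEquiv, S1694.result.2]; norm_num
  · obtain ⟨e⟩ := h
    rw [Nat.card_congr e.toEquiv, S1627.result.2.1]; norm_num
  · obtain ⟨e⟩ := h
    rw [Nat.card_congr e.toEquiv, R01.Fi22Facts.card]; norm_num
  · obtain ⟨e⟩ := h
    rw [Nat.card_congr e.toEquiv, S0399.result.2]; norm_num
  · obtain ⟨e⟩ := h
    rw [Nat.card_congr e.toEquiv, S1704.result.2]; norm_num

theorem exc4 (h : Exc4 X) : ¬ 3 ^ 14 ∣ Nat.card X := by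
  rcases h with h | h
  · rw [card_l34 h]; norm_num
  · obtain ⟨e⟩ := h
    rw [Nat.card_congr e.toEquiv, SporadicA.MathieuRecog.card_M22]; norm_num

theorem xsz (h : XSz X) : ¬ 3 ^ 14 ∣ Nat.card X := fun h1 => sz h ((by norm_num : 3 ∣ 3 ^ 14).trans h1)

end Orders

/-- **(EX3b).** -/
theorem ex3b (hGW : RankOne.GW.{u}) (P : Stmts.P1738.{u}) (hD5 : D5cover.{u}) (M : D9.Cut.Mult.{u}) : EX3b.{u} := by
  intro G _ C y N hy hN hyN hcard
  have := C.fin
  have := C.simple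
  have hc : CompOf y N := NI.Final.compOf_of_comp hN
  have hq : IsQuasisimple ↥N := hN.quasi
  have hz : IsPGroup 2 ↥(center ↥N) := Soft.CompOf.center_isPGroup (C.bal y hy) hc
  have hyZ : (⟨y, hyN⟩ : ↥N) ∈ center ↥N := by
    rw [mem_center_iff]
    intro g
    exact Subtype.ext (mem_centralizer_singleton_iff.mp (hN.le g.2))
  have hzne : center ↥N ≠ ⊥ := by
    intro h
    rw [h, mem_bot] at hyZ
    have h1 : y = 1 := congrArg Subtype.val hyZ
    rw [h1, orderOf_one] at hy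
    exact absurd hy (by decide)
  have hrk : ¬ PRankLE 2 1 ↥N := fun h => NI.Ex.rankOne_false hGW C hy hc hyN h
  have hna := Soft.quo_na hq
  have hNtop : N ≠ ⊤ := Soft.CompOf.ne_top C.na hy hc
  have hs : IsSimpleGroup (↥N ⧸ center ↥N) := hq.2
  have hK : IsKnownSimple' (↥N ⧸ center ↥N) := Known.known_quotient C.kproper N hNtop (center ↥N) hs hna
  by_contra hodd
  have halt : ¬ IsAlternating (↥N ⧸ center ↥N) := by
    rintro ⟨n, hn, f⟩
    obtain ⟨h8, hcov⟩ := hD5 ↥N inferInstance hq hz hzne hrk n hn f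
    exact NI.Ex.altCover_comp P C hy hc hyN n h8 hcov
  have hX : LieTwo (↥N ⧸ center ↥N) ∨ IsSporadicGroup (↥N ⧸ center ↥N) := by
    rcases Known.classify hna hK with h | h | h | h
    · exact absurd h halt
    · exact absurd h hodd
    · exact Or.inl ⟨h, halt, hodd⟩
    · exact Or.inr h
  have hcard' : 3 ^ 14 ∣ Nat.card (↥N ⧸ center ↥N) := by
    obtain ⟨k, hk⟩ := IsPGroup.iff_card.mp hz
    rw [Subgroup.card_eq_card_quotient_mul_card_subgroup (center ↥N), hk] at hcard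
    exact (Nat.Coprime.pow 14 k (by decide : Nat.Coprime 3 2)).dvd_of_dvd_mul_right hcard
  rcases NI.Ex.exc M hq hz hzne hX with h | h | h
  · exact exc2 h hcard'
  · exact exc4 h hcard'
  · exact xsz h hcard'

end Cfsg.Agent.OddHalf.NI3.Ex.Big
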