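import Cfsg.Agent.OddHalf.LongSL.Rk
import Cfsg.Agent.OddHalf.NI.FrameKill
import Cfsg.Agent.LFourR.QThreeSL
import Cfsg.Agent.LieClassical.Grun

/-!
# (EX3): a weak form of "long `SL₂(3)`" which lifts through central subgroups of odd order
(helper88)
-/

set_option autoImplicit false
set_option linter.style.haveILetI false

namespace Cfsg.Agent.OddHalf.NI3.Ex.LongW

open Subgroup Cfsg Cfsg.Agent.OddHalf.LongSL Cfsg.Agent.OddHalf.LieOddFam Cfsg.Agent.OddHalf.NI.OddQ
open Cfsg.Agent.OddHalf.NI.FrameKill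

universe u

/-- a subgroup like `SL₂(3)` which is subnormal in the centralizer of an involution -/
def WLong (K : Type*) [Group K] : Prop :=
  ∃ (j : K) (P T : Subgroup K) (y : K) (m : ℕ), orderOf j = 2 ∧ P ≤ centralizer ({j} : Set K) ∧
    (P.subgroupOf (centralizer ({j} : Set K))).IsSubnormal ∧ T ≤ P ∧ IsPGroup 2 T ∧
    (∀ p ∈ P, ∀ t ∈ T, p * t * p⁻¹ ∈ T) ∧ y ∈ P ∧ (∃ k : ℕ, y ^ 3 ^ k = 1) ∧ (∃ t ∈ T, y * t ≠ t * y) ∧
    (∀ c ∈ P, (∀ t ∈ T, c * t = t * c) → c ∈ T ∧ ∀ p ∈ P, c * p = p * c) ∧ Odd m ∧ Nat.card P ∣ 2 ^ 3 * m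

/-- the same with a weaker condition on the centralizer of `T` -/
def WLong' (K : Type*) [Group K] : Prop :=
  ∃ (j : K) (P T : Subgroup K) (y : K) (m : ℕ), orderOf j = 2 ∧ P ≤ centralizer ({j} : Set K) ∧
    (P.subgroupOf (centralizer ({j} : Set K))).IsSubnormal ∧ T ≤ P ∧ IsPGroup 2 T ∧
    (∀ p ∈ P, ∀ t ∈ T, p * t * p⁻¹ ∈ T) ∧ y ∈ P ∧ (∃ k : ℕ, y ^ 3 ^ k = 1) ∧ (∃ t ∈ T, y * t ≠ t * y) ∧
    (∀ c ∈ P, (∀ t ∈ T, c * t = t * c) → ∀ p ∈ P, c * p = p * c) ∧ Odd m ∧ Nat.card P ∣ 2 ^ 3 * m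

/-! ### `SL₂(3)` -/

section Tet

open Cfsg.Agent.LFourR.QThreeSL

variable {K : Type*} [Group K] {i j x : K}

/-- the quaternion subgroup -/
def quat (h : Tet i j x) : Subgroup K where
  carrier := {g | g ^ 4 = 1}
  mul_mem' := fun {a b} ha hb => h.mul4 a b ha hb
  one_mem' := one_pow 4
  inv_mem' := fun {a} ha => by
    change a⁻¹ ^ 4 = 1
    rw [inv_pow, show a ^ 4 = 1 from ha, inv_one]

theorem mem_quat (h : Tet i j x) {g : K} : g ∈ quat h ↔ g ^ 4 = 1 := Iff.rfl

theorem quat_normal (h : Tet i j x) : (quat h).Normal := by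
  refine ⟨fun n hn g => ?_⟩
  rw [mem_quat] at hn ⊢
  rw [conj_pow, hn, mul_one, mul_inv_cancel]

theorem i_mem (h : Tet i j x) : i ∈ quat h := by
  rw [mem_quat]
  have := h.i4
  calc i ^ 4 = i * i * (i * i) := by rw [← pow_two, ← pow_two, ← pow_mul]
    _ = 1 := this

theorem j_mem (h : Tet i j x) : j ∈ quat h := by
  have h1 := (quat_normal h).conj_mem _ (i_mem h) x
  rwa [h.xi] at h1

theorem card_quat [Finite K] (h : Tet i j x) : Nat.card (quat h) ∣ 2 ^ 3 := by
  haveI : Fact (Nat.Prime 2) := ⟨Nat.prime_two⟩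
  have h1 : IsPGroup 2 (quat h) := fun g => ⟨2, Subtype.ext (by
    change (g : K) ^ 2 ^ 2 = 1
    exact g.2)⟩
  obtain ⟨n, hn⟩ := IsPGroup.iff_card.1 h1
  have h2 : Nat.card (quat h) ≤ 8 := by
    let f : Fin 4 × Fin 2 → K := fun p => i ^ (p.1 : ℕ) * j ^ (p.2 : ℕ)
    have h3 : (quat h : Set K) ⊆ Set.range f := by
      intro g hg
      obtain ⟨a, b, hab⟩ := h.sq4 g hg
      exact ⟨(a, b), hab.symm⟩
    calc Nat.card (quat h) ≤ Nat.card (Set.range f) := Nat.card_mono (Set.finite_range f) h3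
      _ ≤ Nat.card (Fin 4 × Fin 2) := Finite.card_range_le f
      _ = 8 := by simp
  rw [hn] at h2 ⊢
  refine Nat.pow_dvd_pow 2 ?_
  by_contra hcon
  have : 2 ^ 4 ≤ 2 ^ n := Nat.pow_le_pow_right (by norm_num) (by omega)
  omega

theorem card_tet [Finite K] (h : Tet i j x) : Nat.card K ∣ 2 ^ 3 * 3 := by
  have hn := quat_normal h
  have h1 := card_eq_card_quotient_mul_card_subgroup (quat h)
  rw [h1, mul_comm]
  refine Nat.mul_dvd_mul (card_quat h) ?_
  -- the quotient is generated by `x`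
  set xb : K ⧸ quat h := (x : K ⧸ quat h) with hxb
  have h2 : zpowers xb = ⊤ := by
    rw [eq_top_iff]
    intro g _
    obtain ⟨g, rfl⟩ := QuotientGroup.mk_surjective g
    obtain ⟨a, b, c, rfl⟩ := h.gen g
    refine ⟨(c : ℕ), ?_⟩
    change xb ^ ((c : ℕ) : ℤ) = _
    rw [zpow_natCast, hxb, ← QuotientGroup.mk_pow, QuotientGroup.mk_mul]
    have h3 : ((i ^ (a : ℕ) * j ^ (b : ℕ) : K) : K ⧸ quat h) = 1 := by
      rw [QuotientGroup.eq_one_iff]
      exact mul_mem (pow_mem (i_mem h) _) (pow_mem (j_mem h) _)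
    rw [h3, one_mul]
  have h3 : Nat.card (K ⧸ quat h) = orderOf xb := by
    rw [← Nat.card_zpowers, h2, Subgroup.card_top]
  rw [h3]
  refine orderOf_dvd_of_pow_eq_one ?_
  rw [hxb, ← QuotientGroup.mk_pow, h.x3, QuotientGroup.mk_one]

end Tet

theorem of_hasLong {K : Type*} [Group K] [Finite K] (h : HasLong 3 K) : WLong K := by
  obtain ⟨j, J, hj1, hj2, hj3, hj4, F, i1, i2, hF, -, ⟨e⟩⟩ := h
  obtain ⟨a, b, x, ht⟩ := LFourR.QThreeSL.exists_tet hF e
  have hn := quat_normal ht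
  refine ⟨j, J, (quat ht).map J.subtype, x, 3, hj1, hj3, hj4, ?_, ?_, ?_, x.2, ⟨1, ?_⟩, ⟨a, ?_, ?_⟩, ?_, by decide,
    card_tet ht⟩
  · rintro _ ⟨y, -, rfl⟩
    exact y.2
  · have h1 : IsPGroup 2 (quat ht) := fun g => ⟨2, Subtype.ext (by
      change (g : ↥J) ^ 2 ^ 2 = 1
      exact g.2)⟩
    exact h1.map _
  · rintro p hp _ ⟨t, ht', rfl⟩
    exact ⟨⟨p, hp⟩ * t * ⟨p, hp⟩⁻¹, hn.conj_mem t ht' ⟨p, hp⟩, rfl⟩
  · rw [pow_one]
    exact congrArg Subtype.val ht.x3
  · exact ⟨a, i_mem ht, rfl⟩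
  · intro heq
    have h1 : x * a = a * x := Subtype.ext heq
    have h2 := ht.xi
    rw [h1, mul_inv_cancel_right] at h2
    have h3 := ht.xj
    rw [← h2, h1, mul_inv_cancel_right] at h3
    have h4 : a = 1 := by
      rw [left_eq_mul] at h3
      exact h3
    apply ht.ne
    rw [h4, one_mul]
  · intro c hc hct
    have h1 := ht.cen ⟨c, hc⟩ (Subtype.ext (hct a ⟨a, i_mem ht, rfl⟩)) (Subtype.ext (hct b ⟨b, j_mem ht, rfl⟩))
    have h2 : ∀ p : ↥J, p * (a * a) = a * a * p := by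
      intro p
      obtain ⟨k, l, n, rfl⟩ := ht.gen p
      have ha : Commute a (a * a) := (Commute.refl a).mul_right (Commute.refl a)
      have hb : Commute b (a * a) := by
        rw [← ht.jj]
        exact (Commute.refl b).mul_right (Commute.refl b)
      have hx : Commute x (a * a) := by
        have h3 : x * (a * a) * x⁻¹ = b * b := by
          rw [← ht.xi]; group
        rw [ht.jj] at h3
        exact mul_inv_eq_iff_eq_mul.1 h3
      exact ((ha.pow_left _).mul_left (hb.pow_left _)).mul_left (hx.pow_left _)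
    rcases h1 with h1 | h1
    · have h3 : c = 1 := congrArg Subtype.val h1
      rw [h3]
      exact ⟨one_mem _, fun p _ => by rw [one_mul, mul_one]⟩
    · have h3 : c = (a : K) * a := congrArg Subtype.val h1
      refine ⟨?_, fun p hp => ?_⟩
      · rw [h3]
        exact ⟨a * a, mul_mem (i_mem ht) (i_mem ht), rfl⟩
      · rw [h3]
        exact (congrArg Subtype.val (h2 ⟨p, hp⟩)).symm

/-! ### lifting -/

theorem lift {K X : Type*} [Group K] [Finite K] [Group X] {π : K →* X} (hπ : COdd π) (h : WLong X) : WLong' K := by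
  haveI : Finite X := Finite.of_surjective π hπ.surj
  haveI : Fact (Nat.Prime 2) := ⟨Nat.prime_two⟩
  obtain ⟨j, P, T, y, m, hj, hPj, hPs, hTP, hT2, hTn, hy, ⟨k, hk⟩, ⟨t, ht, hyt⟩, hc, hm, hcard⟩ := h
  have hjj : j * j = 1 := by rw [← pow_two, ← hj, pow_orderOf_eq_one]
  have hker : ∀ x : K, π x = 1 → x ^ Nat.card π.ker = 1 := by
    intro x hx
    have := pow_card_eq_one' (G := π.ker) (x := ⟨x, hx⟩)
    exact congrArg Subtype.val this
  have hcen : ∀ x : K, π x = 1 → ∀ y : K, y * x = x * y := fun x hx y => mem_center_iff.1 (hπ.cen hx) y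
  obtain ⟨n, hn⟩ := hπ.odd
  -- the involution
  obtain ⟨x0, hx0⟩ := hπ.surj j
  set x : K := x0 ^ Nat.card π.ker with hx
  have hπx : π x = j := by
    rw [hx, map_pow, hx0, hn, pow_succ, pow_mul, pow_two, hjj, one_pow, one_mul]
  have hxx : x * x = 1 := by
    rw [← pow_two, hx, ← pow_mul, mul_comm, pow_mul]
    apply hker
    rw [map_pow, hx0, pow_two, hjj]
  have hx1 : x ≠ 1 := by
    intro h1
    rw [h1, map_one] at hπx
    rw [← hπx, orderOf_one] at hj
    omega
  have hcx : ∀ g : K, π g * j = j * π g → g * x = x * g := by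
    intro g hg
    rw [← hπx] at hg
    exact (hπ.comm_iff hxx).1 hg
  have hPc : ∀ p ∈ P, p * j = j * p := fun p hp => mem_centralizer_singleton_iff.1 (hPj hp)
  -- the preimages
  set P' : Subgroup K := P.comap π with hP'
  set N : Subgroup K := T.comap π with hN
  have hkN : π.ker ≤ N := fun a ha => by
    change π a ∈ T
    rw [show π a = 1 from ha]
    exact one_mem _
  set A : Subgroup N := π.ker.subgroupOf N with hA
  have hAn : A.Normal := inferInstance
  have hAc : Nat.card A = Nat.card π.ker := Nat.card_congr (subgroupOfEquivOfLe hkN).toEquiv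
  have hidx : Nat.card (N ⧸ A) = Nat.card T := by
    let f : N →* T := (π.comp N.subtype).codRestrict T fun x => x.2
    have hf : Function.Surjective f := by
      rintro ⟨t, ht⟩
      obtain ⟨s, hs⟩ := hπ.surj t
      exact ⟨⟨s, by change π s ∈ T; rw [hs]; exact ht⟩, Subtype.ext hs⟩
    have hk : f.ker = A := by
      ext a
      rw [MonoidHom.mem_ker, hA, mem_subgroupOf, MonoidHom.mem_ker]
      exact ⟨fun h => congrArg Subtype.val h, fun h => Subtype.ext h⟩
    exact Nat.card_congr ((QuotientGroup.quotientMulEquivOfEq hk.symm).trans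
      (QuotientGroup.quotientKerEquivOfSurjective f hf)).toEquiv
  obtain ⟨tn, htn⟩ := IsPGroup.iff_card.1 hT2
  obtain ⟨H, hH⟩ := Subgroup.exists_right_complement'_of_coprime (N := A) (by
    rw [Subgroup.index, hidx, hAc, htn]
    exact (Nat.Coprime.pow_right _ (Nat.coprime_two_right.2 hπ.odd)))
  set T' : Subgroup K := H.map N.subtype with hT'
  have hHc : Nat.card H = Nat.card T := by
    rw [← hidx]
    have h1 := hH.card_mul_card
    have h2 := card_eq_card_quotient_mul_card_subgroup A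
    rw [h2, mul_comm] at h1
    exact Nat.eq_of_mul_eq_mul_right Nat.card_pos h1
  have hH2 : IsPGroup 2 H := IsPGroup.iff_card.2 ⟨tn, by rw [hHc, htn]⟩
  have hT'2 : IsPGroup 2 T' := hH2.map _
  have hT'N : T' ≤ N := by
    rintro _ ⟨g, -, rfl⟩
    exact g.2
  -- decomposition
  have hdec : ∀ g : K, π g ∈ T → ∃ a : K, π a = 1 ∧ ∃ h ∈ T', g = a * h := by
    intro g hg
    have h1 : (⟨g, hg⟩ : N) ∈ A ⊔ H := by rw [hH.sup_eq_top]; exact mem_top _
    rw [mem_sup_of_normal_left] at h1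
    obtain ⟨a, ha, h, hh, hah⟩ := h1
    exact ⟨a, ha, h, ⟨h, hh, rfl⟩, (congrArg Subtype.val hah).symm⟩
  have htriv : ∀ g ∈ T', π g = 1 → g = 1 := by
    rintro _ ⟨h, hh, rfl⟩ h1
    have h2 : h ∈ A ⊓ H := ⟨h1, hh⟩
    rw [hH.disjoint.eq_bot] at h2
    exact congrArg Subtype.val (mem_bot.1 h2)
  have hmem : ∀ g : K, π g ∈ T → (∃ l : ℕ, g ^ 2 ^ l = 1) → g ∈ T' := by
    rintro g hg ⟨l, hl⟩
    obtain ⟨a, ha, h, hh, rfl⟩ := hdec g hg
    have h1 : (a * h) ^ 2 ^ l = a ^ 2 ^ l * h ^ 2 ^ l := (Commute.mul_pow (hcen a ha h).symm _)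
    rw [h1] at hl
    have h2 : h ^ 2 ^ l = 1 := by
      apply htriv _ (pow_mem hh _)
      have h3 : h ^ 2 ^ l = (a ^ 2 ^ l)⁻¹ := (eq_inv_of_mul_eq_one_right hl)
      rw [h3, map_inv, map_pow, ha, one_pow, inv_one]
    rw [h2, mul_one] at hl
    have h4 : a = 1 := by
      have h5 : orderOf a = 1 := Nat.eq_one_of_dvd_coprimes (a := 2 ^ l) (b := Nat.card π.ker)
        (Nat.Coprime.pow_left _ (Nat.coprime_two_left.2 hπ.odd)) (orderOf_dvd_of_pow_eq_one hl)
        (orderOf_dvd_of_pow_eq_one (hker a ha))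
      exact orderOf_eq_one_iff.1 h5
    rw [h4, one_mul]
    exact hh
  have hTT : ∀ t ∈ T, ∃ h ∈ T', π h = t := by
    intro t ht
    obtain ⟨s, hs⟩ := hπ.surj t
    obtain ⟨a, ha, h, hh, rfl⟩ := hdec s (by rw [hs]; exact ht)
    refine ⟨h, hh, ?_⟩
    rw [← hs, map_mul, ha, one_mul]
  have hT'n : ∀ p ∈ P', ∀ t ∈ T', p * t * p⁻¹ ∈ T' := by
    intro p hp t ht
    refine hmem _ ?_ ?_
    · rw [map_mul, map_mul, map_inv]
      exact hTn _ hp _ (hT'N ht)
    · obtain ⟨l, hl⟩ := hT'2 ⟨t, ht⟩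
      refine ⟨l, ?_⟩
      have hl' : t ^ 2 ^ l = 1 := congrArg Subtype.val hl
      rw [conj_pow, hl', mul_one, mul_inv_cancel]
  -- the 3-element
  obtain ⟨y0, hy0⟩ := hπ.surj y
  obtain ⟨a, r, hr, hyo⟩ := Nat.exists_eq_pow_mul_and_not_dvd (orderOf_pos y0).ne' 3 (by norm_num)
  have hy3 : (y0 ^ r) ^ 3 ^ a = 1 := by
    rw [← pow_mul, mul_comm, ← hyo, pow_orderOf_eq_one]
  have hcr : Nat.Coprime (orderOf y) r := by
    refine Nat.Coprime.coprime_dvd_left (orderOf_dvd_of_pow_eq_one hk) ?_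
    exact Nat.Coprime.pow_left _ ((Nat.Prime.coprime_iff_not_dvd Nat.prime_three).2 hr)
  obtain ⟨s, hs⟩ := exists_pow_eq_self_of_coprime hcr.symm
  refine ⟨x, P', T', y0 ^ r, m * Nat.card π.ker, ?_, ?_, ?_, ?_, hT'2, hT'n, ?_, ⟨a, hy3⟩, ?_, ?_, hm.mul hπ.odd, ?_⟩
  · exact orderOf_eq_prime (by rw [pow_two, hxx]) hx1
  · intro p hp
    rw [mem_centralizer_singleton_iff]
    exact hcx p (hPc _ hp)
  · have hC : ∀ g : ↥(centralizer ({x} : Set K)), π g ∈ centralizer ({j} : Set X) := by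
      intro g
      rw [mem_centralizer_singleton_iff, ← hπx, ← map_mul, ← map_mul]
      exact congrArg π (mem_centralizer_singleton_iff.1 g.2)
    let f : ↥(centralizer ({x} : Set K)) →* ↥(centralizer ({j} : Set X)) :=
      (π.comp (centralizer ({x} : Set K)).subtype).codRestrict _ hC
    have h3 := hPs.comap f
    have h4 : (P.subgroupOf (centralizer ({j} : Set X))).comap f = P'.subgroupOf (centralizer ({x} : Set K)) := by
      ext g; rfl
    rwa [h4] at h3
  · intro g hg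
    exact hTP (hT'N hg)
  · change π (y0 ^ r) ∈ P
    rw [map_pow, hy0]
    exact pow_mem hy r
  · by_contra hcon
    push Not at hcon
    apply hyt
    obtain ⟨h, hh, rfl⟩ := hTT t ht
    have h1 := congrArg π (hcon h hh)
    rw [map_mul, map_mul, map_pow, hy0] at h1
    have h2 : Commute ((y ^ r) ^ s) (π h) := Commute.pow_left h1 s
    rwa [hs] at h2
  · intro c hc' hct p hp
    obtain ⟨h1, h2⟩ := hc (π c) hc' (fun t ht => by
      obtain ⟨h, hh, rfl⟩ := hTT t ht
      rw [← map_mul, ← map_mul, hct h hh])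
    obtain ⟨b, hb, h, hh, rfl⟩ := hdec c h1
    have h3 : p * h * p⁻¹ * h⁻¹ = 1 := by
      refine htriv _ (mul_mem (hT'n p hp h hh) (inv_mem hh)) ?_
      have h4 := h2 (π p) hp
      rw [map_mul, hb, one_mul] at h4
      rw [map_mul, map_mul, map_mul, map_inv, map_inv, ← h4]
      group
    have h4 : p * h = h * p := by
      rw [mul_inv_eq_one] at h3
      exact mul_inv_eq_iff_eq_mul.1 h3
    rw [mul_assoc, ← h4, ← mul_assoc, ← mul_assoc, hcen b hb p]
  · have h1 : Nat.card P' = Nat.card P * Nat.card π.ker := by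
      let f : P' →* P := (π.comp P'.subtype).codRestrict P fun x => x.2
      have hf : Function.Surjective f := by
        rintro ⟨t, ht⟩
        obtain ⟨s, hs⟩ := hπ.surj t
        exact ⟨⟨s, by change π s ∈ P; rw [hs]; exact ht⟩, Subtype.ext hs⟩
      have hk : f.ker = π.ker.subgroupOf P' := by
        ext a
        rw [MonoidHom.mem_ker, mem_subgroupOf, MonoidHom.mem_ker]
        exact ⟨fun h => congrArg Subtype.val h, fun h => Subtype.ext h⟩
      have hle : π.ker ≤ P' := fun a ha => by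
        change π a ∈ P
        rw [show π a = 1 from ha]
        exact one_mem _
      rw [card_eq_card_quotient_mul_card_subgroup f.ker,
        Nat.card_congr (QuotientGroup.quotientKerEquivOfSurjective f hf).toEquiv, hk,
        Nat.card_congr (subgroupOfEquivOfLe hle).toEquiv]
    rw [h1, ← mul_assoc]
    exact Nat.mul_dvd_mul_right hcard _

/-- Every component of type `Rk 3` contains such a subgroup. -/
theorem of_quasisimple {J : Type u} [Group J] [Finite J] (hq : IsQuasisimple J) (h : Rk (J ⧸ center J) 3) :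
    WLong' J := by
  have h3 : OddPow 3 := ⟨3, 1, Nat.prime_three, by norm_num, le_rfl, by norm_num⟩
  -- an involution
  obtain ⟨b, hb⟩ : ∃ b : J, orderOf b = 2 := by
    obtain ⟨j, -, hj, -⟩ := hasLong_of_rk h3 h
    haveI : Fact (Nat.Prime 2) := ⟨Nat.prime_two⟩
    apply exists_prime_orderOf_dvd_card'
    refine dvd_trans ?_ ((center J).card_quotient_dvd_card)
    rw [← hj]
    exact orderOf_dvd_natCard j
  have hc := cOdd_mk hq hb
  refine lift hc ?_
  have hbot : oddCore (J ⧸ oddCore J) = ⊥ := oddCore_eq_bot hc (by rw [QuotientGroup.ker_mk'])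
  apply of_hasLong
  refine hasLong_cover (center_two hbot) h3 ?_
  obtain ⟨e⟩ := LieClassical.Grun.quotient_center_equiv hq.1.commutator_eq_top (QuotientGroup.mk' (oddCore J)) hc.surj hc.cen
  exact rk_congr e h

end Cfsg.Agent.OddHalf.NI3.Ex.LongW
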