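import Cfsg.Agent.OddHalf.NI3.Ex.LongFix
import Cfsg.Agent.OddHalf.NI3.Ex.LongW
import Cfsg.Agent.OddHalf.NI3.Ex.Defs
import Cfsg.Agent.KFacts.AutLarge

/-!
# (EX3) for a group with a large extraspecial subgroup on which 3-elements act with large commutator
(helper88)
-/

set_option autoImplicit false
set_option linter.style.haveILetI false

namespace Cfsg.Agent.OddHalf.NI3.Ex.LongFixC

open scoped Pointwise
open Subgroup Cfsg Cfsg.Agent.OddHalf.NI Cfsg.Agent.OddHalf.NI.Ex Cfsg.Agent.OddHalf.LieOddFam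
open Cfsg.Agent.Co2Type.Quad Cfsg.Agent.OddHalf.NI3.Ex.LongFix

universe u

variable {X : Type u} [Group X]

/-- A 2-group of fixed points of the involutory automorphism `α` commutes with a conjugate of `z` fixed by `α`. -/
theorem exists_fixed_z [Finite X] {Q : Subgroup X} {z : X} (hL : Large Q z)
    (hodd : Odd (centralizer ({z} : Set X)).index) {α : MulAut X} (hα : α * α = 1) {S₀ : Subgroup X}
    (hS : IsPGroup 2 S₀) (hSα : ∀ s ∈ S₀, α s = s) :
    ∃ g : X, α (g * z * g⁻¹) = g * z * g⁻¹ ∧ ∀ s ∈ S₀, s * (g * z * g⁻¹) = g * z * g⁻¹ * s := by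
  haveI : Fact (Nat.Prime 2) := ⟨Nat.prime_two⟩
  have hαα : ∀ x, α (α x) = x := fun x => by rw [← MulAut.mul_apply, hα, MulAut.one_apply]
  -- the group generated by `α` and the conjugations
  set D1 : Subgroup (MulAut X) := S₀.map (MulAut.conj (G := X)) with hD1
  set D2 : Subgroup (MulAut X) := zpowers α with hD2
  have h1 : IsPGroup 2 D1 := hS.map _
  have h2 : IsPGroup 2 D2 := by
    rintro ⟨x, hx⟩
    obtain ⟨i, rfl⟩ := mem_zpowers_iff.1 hx
    refine ⟨1, Subtype.ext ?_⟩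
    change (α ^ i) ^ 2 ^ 1 = 1
    rw [pow_one, ← zpow_natCast, ← zpow_mul, mul_comm, zpow_mul, zpow_natCast, pow_two, hα, one_zpow]
  have hn : D2 ≤ normalizer (D1 : Set (MulAut X)) := by
    rw [hD2, zpowers_le, mem_normalizer_iff]
    have hc : ∀ s ∈ S₀, α * MulAut.conj s = MulAut.conj s * α := by
      intro s hs
      ext x
      change α (s * x * s⁻¹) = s * α x * s⁻¹
      rw [map_mul, map_mul, map_inv, hSα s hs]
    intro β
    constructor
    · rintro ⟨s, hs, rfl⟩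
      rw [hc s hs, mul_inv_cancel_right]
      exact ⟨s, hs, rfl⟩
    · rintro ⟨s, hs, hβ⟩
      have h3 : β = MulAut.conj s := by
        have h4 : β = α⁻¹ * (MulAut.conj s) * α := by rw [hβ]; group
        rw [h4, mul_assoc, ← hc s hs, inv_mul_cancel_left]
      rw [h3]
      exact ⟨s, hs, rfl⟩
  have h3 : IsPGroup 2 ↥(D1 ⊔ D2) := by
    rw [sup_comm]
    exact h2.to_sup_of_normal_right' h1 hn
  -- a fixed Sylow subgroup
  obtain ⟨T, hT⟩ := h3.nonempty_fixed_point_of_prime_not_dvd_card (Sylow 2 X) (not_dvd_card_sylow 2 X)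
  have hTα : ∀ x ∈ T, α x ∈ T := by
    intro x hx
    have h4 : α • T = T := hT ⟨α, (le_sup_right : D2 ≤ _) (mem_zpowers α)⟩
    have h5 : α • x ∈ (α • T : Sylow 2 X) := Subgroup.smul_mem_pointwise_smul x α (T : Subgroup X) hx
    rwa [h4] at h5
  have hST : S₀ ≤ T := by
    have hSN : S₀ ≤ normalizer ((T : Subgroup X) : Set X) := by
      intro s hs
      have h4 : MulAut.conj s • T = T := hT ⟨MulAut.conj s, (le_sup_left : D1 ≤ _) ⟨s, hs, rfl⟩⟩
      have h5 : ∀ x ∈ T, s * x * s⁻¹ ∈ T := by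
        intro x hx
        have h5 : MulAut.conj s • x ∈ (MulAut.conj s • T : Sylow 2 X) :=
          Subgroup.smul_mem_pointwise_smul x (MulAut.conj s) (T : Subgroup X) hx
        rwa [h4] at h5
      have h6 : MulAut.conj s⁻¹ • T = T := hT ⟨MulAut.conj s⁻¹, (le_sup_left : D1 ≤ _) ⟨s⁻¹, inv_mem hs, rfl⟩⟩
      rw [mem_normalizer_iff]
      intro x
      refine ⟨fun hx => h5 x hx, fun hx => ?_⟩
      have h7 : MulAut.conj s⁻¹ • (s * x * s⁻¹) ∈ (MulAut.conj s⁻¹ • T : Sylow 2 X) :=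
        Subgroup.smul_mem_pointwise_smul _ (MulAut.conj s⁻¹) (T : Subgroup X) hx
      rw [h6] at h7
      have h8 : MulAut.conj s⁻¹ • (s * x * s⁻¹) = x := by
        change s⁻¹ * (s * x * s⁻¹) * s⁻¹⁻¹ = x
        group
      rw [h8] at h7
      exact h7
    have h4 : IsPGroup 2 ↥((T : Subgroup X) ⊔ S₀) := by
      rw [sup_comm]
      exact hS.to_sup_of_normal_right' T.isPGroup' hSN
    have h5 := T.is_maximal' h4 le_sup_left
    rw [← h5]
    exact le_sup_right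
  -- the centre of `T`
  obtain ⟨S, hSz⟩ := KFacts.AutLarge.exists_sylow hodd
  have hQS := KFacts.AutLarge.le_sylow hL S hSz
  obtain ⟨g, hg⟩ := MulAction.exists_smul_eq X S T
  have hgT : ∀ x : X, x ∈ T ↔ g⁻¹ * x * g ∈ S := by
    intro x
    rw [← hg]
    change x ∈ (MulAut.conj g • (S : Subgroup X)) ↔ _
    rw [Subgroup.mem_pointwise_smul_iff_inv_smul_mem, ← map_inv, MulAut.smul_def, MulAut.conj_apply, inv_inv]
    rfl
  have hTu : ∀ t ∈ T, t * (g * z * g⁻¹) = g * z * g⁻¹ * t := by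
    intro t ht
    have h4 : g⁻¹ * t * g * z = z * (g⁻¹ * t * g) :=
      mem_centralizer_singleton_iff.1 (hSz ((hgT t).1 ht))
    calc t * (g * z * g⁻¹) = g * (g⁻¹ * t * g * z) * g⁻¹ := by group
      _ = g * (z * (g⁻¹ * t * g)) * g⁻¹ := by rw [h4]
      _ = _ := by group
  refine ⟨g, ?_, fun s hs => hTu s (hST hs)⟩
  set v := g * z * g⁻¹ with hv
  have hαv : ∀ t ∈ T, t * α v = α v * t := by
    intro t ht
    have h6 := congrArg α (hTu _ (hTα t ht))
    rwa [map_mul α (α t) v, map_mul α v (α t), hαα] at h6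
  have hzS : z ∈ (S : Subgroup X) := hQS hL.z_mem
  have hSx : ∀ x ∈ (S : Subgroup X), x * (g⁻¹ * α v * g) = (g⁻¹ * α v * g) * x := by
    intro x hx
    have h4 : g * x * g⁻¹ ∈ T := by
      rw [hgT]
      have e : g⁻¹ * (g * x * g⁻¹) * g = x := by group
      rw [e]; exact hx
    have h5 := hαv _ h4
    calc x * (g⁻¹ * α v * g) = g⁻¹ * (g * x * g⁻¹ * α v) * g := by group
      _ = g⁻¹ * (α v * (g * x * g⁻¹)) * g := by rw [h5]
      _ = _ := by group
  have h4 : g⁻¹ * α v * g ∈ Q := hL.self _ (hSx z hzS).symm fun x hx => (hSx x (hQS hx)).symm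
  rcases hL.cent _ h4 fun y hy => (hSx y (hQS hy)).symm with h5 | h5
  · exfalso
    have h6 : α v = 1 := by
      calc α v = g * (g⁻¹ * α v * g) * g⁻¹ := by group
        _ = 1 := by rw [h5]; group
    have h7 : v = 1 := by rw [← hαα v, h6, map_one]
    apply hL.z_ne
    calc z = g⁻¹ * v * g := by rw [hv]; group
      _ = 1 := by rw [h7]; group
  · calc α v = g * (g⁻¹ * α v * g) * g⁻¹ := by group
      _ = v := by rw [h5]

theorem Big.conj {Q : Subgroup X} {z w : X} (g : X) (h : Big Q z (g⁻¹ * w * g)) :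
    Big (Q.map (MulAut.conj g).toMonoidHom) (g * z * g⁻¹) w := by
  obtain ⟨A, h1, h2, h3, h4⟩ := h
  refine ⟨A.map (MulAut.conj g).toMonoidHom, map_mono h1, ⟨z, h2, rfl⟩, ?_, ?_⟩
  · rwa [← Nat.card_congr (A.equivMapOfInjective _ (MulAut.conj g).injective).toEquiv]
  · rintro _ ⟨a, ha, rfl⟩
    obtain ⟨q, hq, h5⟩ := h4 a ha
    refine ⟨g * q * g⁻¹, ⟨q, hq, rfl⟩, ?_⟩
    change g * a * g⁻¹ = _ ∨ g * a * g⁻¹ = _
    rcases h5 with h5 | h5
    · left; rw [h5]; group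
    · right; rw [h5]; group

/-- **The lemma**: no component of type `Rk 3`. -/
theorem no3 [Finite X] {Q : Subgroup X} {z : X} (hL : Large Q z) (hodd : Odd (centralizer ({z} : Set X)).index)
    (hQ : ∀ β : MulAut X, β z = z → ∀ q ∈ Q, β q ∈ Q)
    (hbig : ∀ w : X, w * z = z * w → (∃ k : ℕ, w ^ 3 ^ k = 1) → w ≠ 1 → Big Q z w)
    {α : MulAut X} (hα : orderOf α = 2) {J : Subgroup X} (hJ : CompIn (fix α) J)
    (hr : Rk (↥J ⧸ center ↥J) 3) : False := by
  haveI : Fact (Nat.Prime 2) := ⟨Nat.prime_two⟩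
  have hαα : α * α = 1 := by rw [← pow_two, ← hα, pow_orderOf_eq_one]
  obtain ⟨j, P0, T0, y0, m, hj, hPj, hPs, hTP, hT2, hTn, hy, ⟨k, hk⟩, ⟨t, ht, hyt⟩, hc, hm, hcard⟩ :=
    LongW.of_quasisimple hJ.quasi hr
  have hjj : (j : X) * j = 1 := by
    have : j * j = 1 := by rw [← pow_two, ← hj, pow_orderOf_eq_one]
    exact congrArg Subtype.val this
  have hJα : ∀ x ∈ J, α x = x := fun x hx => hJ.le hx
  obtain ⟨F, hF⟩ : ∃ F : Subgroup X, ∀ x, x ∈ F ↔ α x = x ∧ x * j = j * x :=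
    ⟨fix α ⊓ centralizer ({(j : X)} : Set X), fun x => ⟨fun h => ⟨h.1, mem_centralizer_singleton_iff.1 h.2⟩,
      fun h => ⟨h.1, mem_centralizer_singleton_iff.2 h.2⟩⟩⟩
  have hjF : (j : X) ∈ F := (hF _).2 ⟨hJα _ j.2, rfl⟩
  -- a Sylow 2-subgroup of `F`
  obtain ⟨S⟩ : Nonempty (Sylow 2 ↥F) := inferInstance
  have hn2 : (pCore 2 ↥F).Normal := Lib.Cores.pCore_normal 2
  have hS1 : pCore 2 ↥F ≤ S := by
    have h1 : IsPGroup 2 ↥((S : Subgroup ↥F) ⊔ pCore 2 ↥F) :=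
      S.isPGroup'.to_sup_of_normal_right (Lib.Cores.pCore_isPGroup 2)
    have h2 := S.is_maximal' h1 le_sup_left
    rw [← h2]
    exact le_sup_right
  have hj2 : (⟨j, hjF⟩ : ↥F) ∈ pCore 2 ↥F := by
    have hz : zpowers (⟨j, hjF⟩ : ↥F) ≤ pCore 2 ↥F := by
      apply Lib.Cores.le_pCore
      · refine ⟨fun n hn g => ?_⟩
        obtain ⟨i, rfl⟩ := mem_zpowers_iff.1 hn
        have h1 : g * (⟨j, hjF⟩ : ↥F) = ⟨j, hjF⟩ * g := Subtype.ext ((hF _).1 g.2).2
        have h2 : Commute g ((⟨j, hjF⟩ : ↥F) ^ i) := Commute.zpow_right h1 i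
        rw [h2.eq, mul_inv_cancel_right]
        exact zpow_mem (mem_zpowers _) i
      · rintro ⟨x, hx⟩
        obtain ⟨i, rfl⟩ := mem_zpowers_iff.1 hx
        refine ⟨1, Subtype.ext ?_⟩
        change ((⟨j, hjF⟩ : ↥F) ^ i) ^ 2 ^ 1 = 1
        rw [pow_one, ← zpow_natCast, ← zpow_mul, mul_comm, zpow_mul, zpow_natCast, pow_two,
          show (⟨j, hjF⟩ : ↥F) * ⟨j, hjF⟩ = 1 from Subtype.ext hjj, one_zpow]
    exact hz (mem_zpowers _)
  obtain ⟨g, hg1, hg2⟩ := exists_fixed_z hL hodd hαα (S₀ := (S : Subgroup ↥F).map F.subtype) (S.isPGroup'.map _) (by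
    rintro _ ⟨s, -, rfl⟩
    exact ((hF _).1 s.2).1)
  -- the subgroups
  have hPF : ∀ p ∈ P0, (p : X) ∈ F := by
    intro p hp
    refine (hF _).2 ⟨hJα _ p.2, ?_⟩
    exact congrArg Subtype.val (mem_centralizer_singleton_iff.1 (hPj hp))
  set P : Subgroup ↥F := (P0.map J.subtype).subgroupOf F with hP
  set T : Subgroup ↥F := (T0.map J.subtype).subgroupOf F with hT
  have hmP : ∀ x : ↥F, x ∈ P ↔ ∃ h : (x : X) ∈ J, (⟨x, h⟩ : ↥J) ∈ P0 := by
    intro x
    constructor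
    · rintro ⟨p, hp, hpx⟩
      have hpx' : (p : X) = x := hpx
      refine ⟨hpx' ▸ p.2, ?_⟩
      have : (⟨x, hpx' ▸ p.2⟩ : ↥J) = p := Subtype.ext hpx'.symm
      rw [this]; exact hp
    · rintro ⟨h, hp⟩
      exact ⟨_, hp, rfl⟩
  have hmT : ∀ x : ↥F, x ∈ T ↔ ∃ h : (x : X) ∈ J, (⟨x, h⟩ : ↥J) ∈ T0 := by
    intro x
    constructor
    · rintro ⟨p, hp, hpx⟩
      have hpx' : (p : X) = x := hpx
      refine ⟨hpx' ▸ p.2, ?_⟩
      have : (⟨x, hpx' ▸ p.2⟩ : ↥J) = p := Subtype.ext hpx'.symm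
      rw [this]; exact hp
    · rintro ⟨h, hp⟩
      exact ⟨_, hp, rfl⟩
  have hle : P0.map J.subtype ≤ F := by
    rintro _ ⟨p, hp, rfl⟩
    exact hPF p hp
  have hcardP : Nat.card P = Nat.card P0 := by
    rw [hP, Nat.card_congr (subgroupOfEquivOfLe hle).toEquiv,
      Nat.card_congr (P0.equivMapOfInjective _ J.subtype_injective).toEquiv]
  -- subnormality
  have hPsub : P.IsSubnormal := by
    set D : Subgroup ↥F := J.subgroupOf F with hD
    have hDs : D.IsSubnormal := by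
      have hFa : F ≤ fix α := fun x hx => ((hF x).1 hx).1
      have h1 := hJ.comp.1.comap (inclusion hFa)
      have h2 : (J.subgroupOf (fix α)).comap (inclusion hFa) = D := by
        ext x; rfl
      rwa [h2] at h1
    have hDC : ∀ x : ↥D, (⟨((x : ↥F) : X), x.2⟩ : ↥J) ∈ centralizer ({j} : Set ↥J) := by
      intro x
      rw [mem_centralizer_singleton_iff]
      exact Subtype.ext ((hF _).1 (x : ↥F).2).2
    let f : ↥D →* ↥(centralizer ({j} : Set ↥J)) :=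
      { toFun := fun x => ⟨⟨((x : ↥F) : X), x.2⟩, hDC x⟩
        map_one' := rfl
        map_mul' := fun _ _ => rfl }
    have h3 := hPs.comap f
    have h4 : (P0.subgroupOf (centralizer ({j} : Set ↥J))).comap f = P.subgroupOf D := by
      ext x
      rw [mem_comap, mem_subgroupOf, mem_subgroupOf, hmP]
      exact ⟨fun h => ⟨x.2, h⟩, fun ⟨_, h⟩ => h⟩
    rw [h4] at h3
    refine Subgroup.IsSubnormal.trans (K := D) ?_ h3 hDs
    intro x hx
    exact ((hmP x).1 hx).1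
  refine main (Q := Q.map (MulAut.conj g).toMonoidHom) (z := g * z * g⁻¹) (hL.conj g) ?_ ?_ hαα hg1 (j := (j : X)) hjj
    (hJα _ j.2) ?_ hF ?_ hPsub (T := T) ?_ ?_ ?_ (y := ⟨(y0 : X), hPF y0 hy⟩) ?_ ⟨k, ?_⟩ ?_ ?_ hm (by rw [hcardP]; exact hcard)
  · -- invariance of `Q`
    rintro β hβ _ ⟨q, hq, rfl⟩
    have h1 : ((MulAut.conj g)⁻¹ * β * MulAut.conj g) z = z := by
      change (MulAut.conj g)⁻¹ (β (g * z * g⁻¹)) = z
      rw [hβ, ← map_inv]
      change g⁻¹ * (g * z * g⁻¹) * g⁻¹⁻¹ = z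
      group
    refine ⟨_, hQ _ h1 q hq, ?_⟩
    change MulAut.conj g ((MulAut.conj g)⁻¹ (β (g * q * g⁻¹))) = β (g * q * g⁻¹)
    rw [← MulAut.mul_apply, mul_inv_cancel, MulAut.one_apply]
  · intro w hwz ⟨l, hl⟩ hw1
    refine Big.conj g (hbig _ ?_ ⟨l, ?_⟩ ?_)
    · calc g⁻¹ * w * g * z = g⁻¹ * (w * (g * z * g⁻¹)) * g := by group
        _ = g⁻¹ * (g * z * g⁻¹ * w) * g := by rw [hwz]
        _ = _ := by group
    · have h1 : g⁻¹ * w * g = g⁻¹ * w * g⁻¹⁻¹ := by rw [inv_inv]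
      rw [h1, conj_pow, hl, mul_one, mul_inv_cancel]
    · intro h1
      apply hw1
      calc w = g * (g⁻¹ * w * g) * g⁻¹ := by group
        _ = 1 := by rw [h1]; group
  · exact hg2 _ ⟨_, hS1 hj2, rfl⟩
  · intro x hx
    exact hg2 _ ⟨_, hS1 hx, rfl⟩
  · intro x hx
    obtain ⟨h1, h2⟩ := (hmT x).1 hx
    exact (hmP x).2 ⟨h1, hTP h2⟩
  · exact (hT2.map _).comap_of_injective _ F.subtype_injective
  · intro p hp t' ht'
    obtain ⟨h1, h2⟩ := (hmP p).1 hp
    obtain ⟨h3, h4⟩ := (hmT t').1 ht'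
    exact (hmT _).2 ⟨mul_mem (mul_mem h1 h3) (inv_mem h1), hTn _ h2 _ h4⟩
  · exact (hmP _).2 ⟨y0.2, hy⟩
  · exact Subtype.ext (congrArg (Subtype.val : ↥J → X) hk)
  · refine ⟨⟨(t : X), hPF t (hTP ht)⟩, (hmT _).2 ⟨t.2, ht⟩, fun h => hyt ?_⟩
    exact Subtype.ext (congrArg (Subtype.val : ↥F → X) h)
  · intro c hcP hct p hp
    obtain ⟨h1, h2⟩ := (hmP c).1 hcP
    obtain ⟨h3, h4⟩ := (hmP p).1 hp
    have h5 := hc _ h2 (fun t' ht' => by
      have h6 := hct ⟨(t' : X), hPF t' (hTP ht')⟩ ((hmT _).2 ⟨t'.2, ht'⟩)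
      exact Subtype.ext (congrArg (Subtype.val : ↥F → X) h6)) _ h4
    exact Subtype.ext (congrArg (Subtype.val : ↥J → X) h5)

end Cfsg.Agent.OddHalf.NI3.Ex.LongFixC
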