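import Cfsg.Agent.OddHalf.NI3.Ex.PackM
import Cfsg.Agent.OddHalf.NI3.Ex.LongFixC
import Cfsg.Agent.KFacts.Baby.Inst

/-!
# The action of `C(z)` on `Q / ⟨z⟩` in the Baby Monster, by packed matrices
(helper88)
-/

set_option autoImplicit false
set_option linter.style.haveILetI false

namespace Cfsg.Agent.OddHalf.NI3.Ex.BabyMat

open Cfsg.Agent.Monster Cfsg.Agent.Monster.VecEngine Cfsg.Agent.Monster.VecSpace
open Cfsg.Agent.Monster.PauliBasic Cfsg.Agent.Monster.PauliRep Cfsg.Agent.Monster.PauliClif Cfsg.Agent.Monster.PauliBits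
open Cfsg.Agent.BabyM Cfsg.Agent.BabyM.QAct Cfsg.Agent.BabyM.Model Cfsg.Agent.BabyM.Conc Cfsg.Agent.BabyM.KTab
open Cfsg.Agent.BabyM.KRow Cfsg.Agent.BabyM.KQ Cfsg.Agent.BabyM.KRowData Cfsg.Agent.BabyM.QIrrInst
open Cfsg.Agent.BabyU.ClosLane (Act v v_xor v_inj v_land add_self' A R_mem_Q z_R exists_aut)
open Cfsg.Agent.OddHalf.NI3.Ex.PackM (fd ID mulM apN rk dfs leafR leafN fd_ID fd_mulM apN_lt fd_lt fd_xor rk_sound)
open Cfsg.Agent.BabyU.ClosModel (mem_PP zz)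
open Cfsg.Agent.Co2Type.Quad

/-- the subgroup `Q` -/
local notation "QQ" => Cfsg.Agent.BabyU.ClosModel.PP Inst.M

theorem ab_inv (x : Pauli 11) : ab x⁻¹ = ab x := by
  have h1 : ab x⁻¹ + ab x = 0 := by
    rw [← ab_mul, inv_mul_cancel]; rfl
  calc ab x⁻¹ = ab x⁻¹ + (ab x + ab x) := by rw [add_self', add_zero]
    _ = ab x := by rw [← add_assoc, h1, zero_add]

theorem Act.xor {g : V ≃ₗ[ℚ] V} {m n m' n' : ℕ} (h : Act g m n) (h' : Act g m' n') :
    Act g (m ^^^ m') (n ^^^ n') := by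
  intro x hx
  obtain ⟨y1, hy1, e1⟩ := h (dec 11 m) rfl
  obtain ⟨y2, hy2, e2⟩ := h' ((dec 11 m)⁻¹ * x) (by
    rw [ab_mul, ab_inv, hx, v_xor, ← add_assoc]
    change v m + v m + v m' = v m'
    rw [add_self', zero_add])
  refine ⟨y1 * y2, by rw [ab_mul, hy1, hy2, v_xor], ?_⟩
  rw [map_mul, ← e1, ← e2, map_mul, map_inv]
  group

/-- `g` acts as the matrix `A` -/
def Rep (g : V ≃ₗ[ℚ] V) (A : ℕ) : Prop := ∀ k < 22, Act g (2 ^ k) (fd A k) ∧ fd A k < 2 ^ 22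

theorem Rep.zero {g : V ≃ₗ[ℚ] V} {A : ℕ} (h : Rep g A) : Act g 0 0 := by
  have h1 := (h 0 (by norm_num)).1
  have h2 := Act.xor h1 h1
  rwa [Nat.xor_self, Nat.xor_self] at h2

theorem Rep.act {g : V ≃ₗ[ℚ] V} {A : ℕ} (h : Rep g A) {m : ℕ} (hm : m < 2 ^ 22) : Act g m (apN A m 22) := by
  have key : ∀ n ≤ 22, Act g (m % 2 ^ n) (apN A m n) := by
    intro n
    induction n with
    | zero =>
      intro _
      rw [pow_zero, Nat.mod_one]
      exact h.zero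
    | succ n ih =>
      intro hn
      have h1 : m % 2 ^ (n + 1) = (m % 2 ^ n) ^^^ (if m.testBit n = true then 2 ^ n else 0) := by
        apply Nat.eq_of_testBit_eq
        intro i
        rw [Nat.testBit_xor, Nat.testBit_mod_two_pow, Nat.testBit_mod_two_pow]
        by_cases hb : m.testBit n = true
        · rw [if_pos hb, Nat.testBit_two_pow]
          rcases lt_trichotomy i n with h2 | rfl | h2
          · simp [h2, (show i < n + 1 by omega), (show ¬ n = i by omega)]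
          · simp [hb]
          · simp [(show ¬ i < n + 1 by omega), (show ¬ i < n by omega), (show ¬ n = i by omega)]
        · rw [if_neg hb, Nat.zero_testBit, Bool.xor_false]
          rcases lt_trichotomy i n with h2 | rfl | h2
          · simp [h2, (show i < n + 1 by omega)]
          · simp [hb]
          · simp [(show ¬ i < n + 1 by omega), (show ¬ i < n by omega)]
      rw [h1, apN]
      refine Act.xor (ih (by omega)) ?_
      split_ifs
      · exact (h n (by omega)).1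
      · exact h.zero
  have h2 := key 22 le_rfl
  rwa [Nat.mod_eq_of_lt hm] at h2

theorem Rep.mul {g h : V ≃ₗ[ℚ] V} {A B : ℕ} (hg : Rep g A) (hh : Rep h B) : Rep (g * h) (mulM A B) := by
  intro k hk
  rw [fd_mulM A B hk]
  exact ⟨BabyU.ClosLane.Act.mul (hg.act (hh k hk).2) (hh k hk).1, apN_lt (fun k hk => (hg k hk).2) _ 22 le_rfl⟩

theorem rep_one : Rep 1 ID := by
  intro k hk
  rw [fd_ID k hk]
  exact ⟨fun x hx => ⟨x, hx, by rw [one_mul, inv_one, mul_one]⟩, Nat.pow_lt_pow_right (by norm_num) hk⟩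

theorem Rep.mulR {g : V ≃ₗ[ℚ] V} {A : ℕ} (hg : Rep g A) (y : Pauli 11) : Rep (g * Cd.R y) A := fun k hk =>
  ⟨BabyU.ClosLane.Act.mul (hg k hk).1 (BabyU.ClosLane.Act.R y _), (hg k hk).2⟩

theorem rep_R (y : Pauli 11) : Rep (Cd.R y) ID := by
  have := rep_one.mulR y
  rwa [one_mul] at this

theorem Rep.unique {g : V ≃ₗ[ℚ] V} {A A' : ℕ} (h : Rep g A) (h' : Rep g A') : ∀ k < 22, fd A k = fd A' k := by
  intro k hk
  obtain ⟨y, hy, e⟩ := (h k hk).1 (dec 11 (2 ^ k)) rfl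
  obtain ⟨y', hy', e'⟩ := (h' k hk).1 (dec 11 (2 ^ k)) rfl
  rw [e] at e'
  have h1 := Cd.R_injective e'
  rw [h1, hy'] at hy
  exact (v_inj (h' k hk).2 (h k hk).2 hy).symm

/-- the matrix of a letter -/
noncomputable def mat (I : ℕ) : ℕ := Nat.land I (nat_lit 219673485843489874814166095374771918722369837236109311795375249264689912499574893000142363221111095346339197113290403632270456258744163816313098903881789734911)

theorem rep_of {l : Ltr} {I A : ℕ} (hrel : ∀ k < 22, E l * Cd.R (dec 11 (2 ^ k)) = Cd.R (dec 11 (im I k)) * E l)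
    (hA : ∀ k < 22, fd A k = Nat.land (im I k) 0x3fffff) : Rep (E l) A := by
  obtain ⟨α, hα⟩ := KCore.exists_aut Cd.R Cd.R_injective (E l) closure_gens (by
    rintro x ⟨k, hk, rfl⟩
    exact ⟨_, hrel k hk⟩)
  have hα' : ∀ k < 22, α (dec 11 (2 ^ k)) = dec 11 (im I k) := by
    intro k hk
    apply Cd.R_injective
    exact mul_right_cancel ((hα _).symm.trans (hrel k hk))
  intro k hk
  refine ⟨fun x hx => ⟨α x, ?_, ?_⟩, ?_⟩
  · rw [ab_aut_congr α (show ab x = ab (dec 11 (2 ^ k)) from hx), hα' k hk, hA k hk, v_land]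
    rfl
  · rw [hα x, mul_inv_cancel_right]
  · rw [hA k hk]
    have h : Nat.land (im I k) 0x3fffff = (im I k) &&& (2 ^ 22 - 1) := rfl
    rw [h, Nat.and_two_pow_sub_one_eq_mod]
    exact Nat.mod_lt _ (by norm_num)

/-! ### elements of `C` -/

theorem exists_R {q : Inst.M.G} (hq : q ∈ QQ) : ∃ x : Pauli 11, (q : V ≃ₗ[ℚ] V) = Cd.R x := by
  obtain ⟨x, hx⟩ := KLink.link.mem_Q.1 (mem_PP.1 hq)
  exact ⟨x, hx.symm⟩

theorem zz_R : ((zz A : Inst.M.G) : V ≃ₗ[ℚ] V) = Cd.R (Pauli.z 11) := z_R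

theorem mem_C {g : Inst.M.G} (hg : g * zz A = zz A * g) : (g : V ≃ₗ[ℚ] V) ∈ Inst.M.C :=
  (KFacts.Baby.Inst.mem_cen A).1 (Subgroup.mem_centralizer_singleton_iff.2 hg)

/-- An element of `C` which acts trivially lies in `Q`. -/
theorem mem_of_id {g : Inst.M.G} (hg : g * zz A = zz A * g) (hr : Rep (g : V ≃ₗ[ℚ] V) ID) : g ∈ QQ := by
  haveI := A.finite_G
  have hL := KFacts.Baby.Inst.large A
  obtain ⟨α, hα, -⟩ := exists_aut (mem_C hg)
  have hab : ∀ x : Pauli 11, ab (α x) = ab x := by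
    intro x
    have hx : x ∈ Subgroup.closure {x : Pauli 11 | ∃ k < 22, x = dec 11 (2 ^ k)} := by
      rw [closure_gens]; exact Subgroup.mem_top _
    induction hx using Subgroup.closure_induction with
    | mem x hx =>
      obtain ⟨k, hk, rfl⟩ := hx
      obtain ⟨y, hy, e⟩ := (hr k hk).1 (dec 11 (2 ^ k)) rfl
      rw [hα] at e
      rw [Cd.R_injective e, hy, fd_ID k hk]
      rfl
    | one => rw [map_one]
    | mul x y _ _ hx hy => rw [map_mul, ab_mul, ab_mul, hx, hy]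
    | inv x _ hx => rw [map_inv, ab_inv, ab_inv, hx]
  have hgc : g ∈ Subgroup.centralizer ({zz A} : Set Inst.M.G) := Subgroup.mem_centralizer_singleton_iff.2 hg
  refine hL.mem_of_act ⟨g, hgc⟩ ?_
  apply LinearEquiv.ext
  intro w
  obtain ⟨q, rfl⟩ := hL.pr_surjective w
  rw [hL.act_pr]
  change hL.pr _ = hL.pr q
  rw [hL.pr_eq_pr, hL.conjQ_coe]
  obtain ⟨x, hx⟩ := exists_R q.2
  have h1 : (g : V ≃ₗ[ℚ] V) * ((q : Inst.M.G) : V ≃ₗ[ℚ] V) * (g : V ≃ₗ[ℚ] V)⁻¹ = Cd.R (α x) := by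
    rw [hx, hα]
  rcases (ab_eq_iff _ _).1 (hab x) with h2 | h2
  · left
    apply Subtype.ext
    change (g : V ≃ₗ[ℚ] V) * ((q : Inst.M.G) : V ≃ₗ[ℚ] V) * (g : V ≃ₗ[ℚ] V)⁻¹ = _
    rw [h1, h2, ← hx]
  · right
    apply Subtype.ext
    change (g : V ≃ₗ[ℚ] V) * ((q : Inst.M.G) : V ≃ₗ[ℚ] V) * (g : V ≃ₗ[ℚ] V)⁻¹ = _
    rw [h1, h2, map_mul]
    have h3 := hL.comm_z q q.2
    rw [h3]
    change _ = ((zz A : Inst.M.G) : V ≃ₗ[ℚ] V) * ((q : Inst.M.G) : V ≃ₗ[ℚ] V)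
    rw [zz_R, hx]

/-- Two elements of `C` with the same matrix differ by an element of `Q`. -/
theorem mem_of_eq {g h : Inst.M.G} (hg : g * zz A = zz A * g) (hh : h * zz A = zz A * h) {M M' : ℕ}
    (hr : Rep (g : V ≃ₗ[ℚ] V) M) (hr' : Rep (h : V ≃ₗ[ℚ] V) M') (he : M = M') : g⁻¹ * h ∈ QQ := by
  subst he
  have hcz : (g⁻¹ * h) * zz A = zz A * (g⁻¹ * h) := by
    have h1 : g⁻¹ * zz A = zz A * g⁻¹ := by
      rw [inv_mul_eq_iff_eq_mul, ← mul_assoc, hg, mul_inv_cancel_right]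
    rw [mul_assoc, hh, ← mul_assoc, h1, mul_assoc]
  refine mem_of_id hcz fun k hk => ⟨?_, (rep_one k hk).2⟩
  intro x hx
  obtain ⟨y, hy, e⟩ := (hr' k hk).1 x hx
  obtain ⟨y', hy', e'⟩ := (hr k hk).1 x hx
  -- `g x g⁻¹ = y'`, `h x h⁻¹ = y = y' z^ε`
  refine ⟨(if y = y' then x else Pauli.z 11 * x), ?_, ?_⟩
  · rw [fd_ID k hk]
    split_ifs
    · exact hx
    · rw [← hx]
      exact ((ab_eq_iff _ _).2 (Or.inr rfl))
  · change (((g⁻¹ * h : Inst.M.G)) : V ≃ₗ[ℚ] V) * Cd.R x * (((g⁻¹ * h : Inst.M.G)) : V ≃ₗ[ℚ] V)⁻¹ = _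
    have h1 : (((g⁻¹ * h : Inst.M.G)) : V ≃ₗ[ℚ] V) = (g : V ≃ₗ[ℚ] V)⁻¹ * h := rfl
    rw [h1]
    have h2 : (g : V ≃ₗ[ℚ] V)⁻¹ * h * Cd.R x * ((g : V ≃ₗ[ℚ] V)⁻¹ * h)⁻¹ =
        (g : V ≃ₗ[ℚ] V)⁻¹ * (h * Cd.R x * (h : V ≃ₗ[ℚ] V)⁻¹) * g := by group
    have h3 : Cd.R x = (g : V ≃ₗ[ℚ] V)⁻¹ * Cd.R y' * g := by rw [← e']; group
    rw [h2, e]
    by_cases hyy : y = y'
    · rw [if_pos hyy, hyy, ← h3]
    · rw [if_neg hyy]
      rcases (ab_eq_iff y y').1 (hy.trans hy'.symm) with h4 | h4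
      · exact absurd h4 hyy
      · rw [h4, map_mul, map_mul, ← zz_R]
        have h5 : (g : V ≃ₗ[ℚ] V)⁻¹ * ((zz A : Inst.M.G) : V ≃ₗ[ℚ] V) = ((zz A : Inst.M.G) : V ≃ₗ[ℚ] V) * (g : V ≃ₗ[ℚ] V)⁻¹ := by
          have h6 : (g : V ≃ₗ[ℚ] V) * ((zz A : Inst.M.G) : V ≃ₗ[ℚ] V) = ((zz A : Inst.M.G) : V ≃ₗ[ℚ] V) * (g : V ≃ₗ[ℚ] V) :=
            congrArg Subtype.val hg
          rw [inv_mul_eq_iff_eq_mul, ← mul_assoc, h6, mul_inv_cancel_right]
        rw [← mul_assoc, h5, mul_assoc, mul_assoc, ← mul_assoc _ (Cd.R y'), ← h3]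

/-! ### the rank -/

open Cfsg.Agent.OddHalf.NI3.Ex.LongFix (Big kap kap_apply quo_comm)

theorem card_ge {B' : Subgroup Inst.M.G} {D n : ℕ} (hz : zz A ∈ B') (hD : ∀ k < 22, fd D k < 2 ^ 22)
    (hB : ∀ k < 22, ∀ x : Pauli 11, ab x = v (fd D k) → (⟨Cd.R x, A.C_le_G (A.grp.Q_le (R_mem_Q x))⟩ : Inst.M.G) ∈ B')
    (hrk : rk 22 D n = true) : 2 ^ (n + 1) ≤ Nat.card B' := by
  classical
  haveI := A.finite_G
  have hRG : ∀ x : Pauli 11, Cd.R x ∈ Inst.M.G := fun x => A.C_le_G (A.grp.Q_le (R_mem_Q x))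
  have hRm : ∀ x y : Pauli 11, (⟨Cd.R (x * y), hRG _⟩ : Inst.M.G) = ⟨Cd.R x, hRG x⟩ * ⟨Cd.R y, hRG y⟩ :=
    fun x y => Subtype.ext (map_mul _ _ _)
  set T : Finset ℕ := (Finset.range (2 ^ 22)).filter (fun m => ∀ x : Pauli 11, ab x = v m →
    (⟨Cd.R x, hRG x⟩ : Inst.M.G) ∈ B') with hT
  have hmT : ∀ m, m ∈ T ↔ m < 2 ^ 22 ∧ ∀ x : Pauli 11, ab x = v m → (⟨Cd.R x, hRG x⟩ : Inst.M.G) ∈ B' := by
    intro m
    rw [hT, Finset.mem_filter, Finset.mem_range]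
  have h1 : 2 ^ n ≤ T.card := by
    refine rk_sound 22 le_rfl D n hrk T ?_ ?_
    · intro a ha b hb
      rw [hmT] at ha hb ⊢
      refine ⟨Nat.xor_lt_two_pow ha.1 hb.1, fun x hx => ?_⟩
      have h2 : x = dec 11 a * ((dec 11 a)⁻¹ * x) := by rw [mul_inv_cancel_left]
      rw [h2, hRm]
      refine mul_mem (ha.2 _ rfl) (hb.2 _ ?_)
      rw [ab_mul, ab_inv, hx, v_xor, ← add_assoc]
      change v a + v a + v b = v b
      rw [add_self', zero_add]
    · intro k hk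
      rw [hmT]
      exact ⟨hD k hk, hB k hk⟩
  have hz2 : (⟨Cd.R (Pauli.z 11), hRG _⟩ : Inst.M.G) ∈ B' := by
    have : (⟨Cd.R (Pauli.z 11), hRG _⟩ : Inst.M.G) = zz A := Subtype.ext zz_R.symm
    rw [this]; exact hz
  have habz : ∀ x : Pauli 11, ab (Pauli.z 11 * x) = ab x := fun x => (ab_eq_iff _ _).2 (Or.inr rfl)
  let f : T × Bool → B' := fun p => ⟨⟨Cd.R (if p.2 = true then Pauli.z 11 * dec 11 p.1 else dec 11 p.1), hRG _⟩, by
    have h3 := (hmT p.1.1).1 p.1.2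
    split_ifs
    · rw [hRm]
      exact mul_mem hz2 (h3.2 _ rfl)
    · exact h3.2 _ rfl⟩
  have hf : Function.Injective f := by
    rintro ⟨a, b⟩ ⟨a', b'⟩ h
    have h3 := Cd.R_injective (congrArg (fun x : B' => ((x : Inst.M.G) : V ≃ₗ[ℚ] V)) h)
    dsimp only at h3
    have h4 := congrArg ab h3
    have h5 : ∀ (b : Bool) (m : ℕ), ab (if b = true then Pauli.z 11 * dec 11 m else dec 11 m) = v m := by
      intro b m
      split_ifs
      · rw [habz]; rfl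
      · rfl
    rw [h5, h5] at h4
    have h6 : a = a' := Subtype.ext (v_inj ((hmT _).1 a.2).1 ((hmT _).1 a'.2).1 h4)
    subst h6
    have h7 : b = b' := by
      cases b <;> cases b'
      · rfl
      · exfalso
        simp only [if_true, Bool.false_eq_true, if_false] at h3
        exact Pauli.z_ne_one (mul_eq_right.1 h3.symm)
      · exfalso
        simp only [if_true, Bool.false_eq_true, if_false] at h3
        exact Pauli.z_ne_one (mul_eq_right.1 h3)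
      · rfl
    rw [h7]
  have h3 := Nat.card_le_card_of_injective f hf
  have h4 : Nat.card (T × Bool) = T.card * 2 := by
    rw [Nat.card_prod, Nat.card_eq_fintype_card, Nat.card_eq_fintype_card, Fintype.card_coe, Fintype.card_bool]
  rw [h4] at h3
  rw [pow_succ]
  omega

/-- an element whose matrix minus one has rank at least 10 -/
theorem big {w : Inst.M.G} (hw : w * zz A = zz A * w) {M : ℕ} (hr : Rep (w : V ≃ₗ[ℚ] V) M)
    (hrk : rk 22 (Nat.xor M ID) 10 = true) : Big QQ (zz A) w := by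
  haveI := A.finite_G
  have hL := KFacts.Baby.Inst.large A
  -- the subgroup
  have hcomm : ∀ a ∈ QQ, ∀ b ∈ QQ, ∃ e : Inst.M.G, (e = 1 ∨ e = zz A) ∧ a * b = b * a * e := by
    intro a ha b hb
    rcases hL.comm a ha b hb with h | h
    · exact ⟨1, Or.inl rfl, by rw [h, mul_one]⟩
    · exact ⟨zz A, Or.inr rfl, h⟩
  let B' : Subgroup Inst.M.G :=
    { carrier := {a | a ∈ QQ ∧ ∃ q ∈ QQ, ∃ e : Inst.M.G, (e = 1 ∨ e = zz A) ∧ a = q⁻¹ * (w * q * w⁻¹) * e}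
      one_mem' := ⟨one_mem _, 1, one_mem _, 1, Or.inl rfl, by group⟩
      mul_mem' := by
        rintro a b ⟨ha, q, hq, e, he, h1⟩ ⟨hb, q', hq', e', he', h2⟩
        refine ⟨mul_mem ha hb, q * q', mul_mem hq hq', ?_⟩
        have hx := mul_mem (inv_mem hq) (hL.conj_mem w hw q hq)
        obtain ⟨e2, he2, h3⟩ := hcomm _ hx _ (inv_mem hq')
        have hcen : ∀ {e : Inst.M.G}, (e = 1 ∨ e = zz A) → ∀ y ∈ QQ, y * e = e * y := by
          rintro e (rfl | rfl) y hy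
          · rw [one_mul, mul_one]
          · exact hL.comm_z y hy
        have hprod : ∀ {e e' : Inst.M.G}, (e = 1 ∨ e = zz A) → (e' = 1 ∨ e' = zz A) → (e * e' = 1 ∨ e * e' = zz A) := by
          rintro e e' (rfl | rfl) (rfl | rfl)
          · left; rw [one_mul]
          · right; rw [one_mul]
          · right; rw [mul_one]
          · left; exact hL.z_sq
        have hinv : ∀ {e : Inst.M.G}, (e = 1 ∨ e = zz A) → (e⁻¹ = 1 ∨ e⁻¹ = zz A) := by
          rintro e (rfl | rfl)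
          · left; rw [inv_one]
          · right; exact hL.z_inv
        have hx' := mul_mem (inv_mem hq') (hL.conj_mem w hw q' hq')
        refine ⟨e2 * (e * e'), hprod he2 (hprod he he'), ?_⟩
        have e1 := hcen he _ hx'
        have e2' := hcen he2 _ (hL.conj_mem w hw q' hq')
        -- `κ(q) q'⁻¹ = q'⁻¹ κ(q) e₂`
        calc a * b = (q⁻¹ * (w * q * w⁻¹)) * (e * (q'⁻¹ * (w * q' * w⁻¹))) * e' := by rw [h1, h2]; group
          _ = (q⁻¹ * (w * q * w⁻¹)) * ((q'⁻¹ * (w * q' * w⁻¹)) * e) * e' := by rw [e1]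
          _ = ((q⁻¹ * (w * q * w⁻¹)) * q'⁻¹) * (w * q' * w⁻¹) * (e * e') := by group
          _ = (q'⁻¹ * (q⁻¹ * (w * q * w⁻¹)) * e2) * (w * q' * w⁻¹) * (e * e') := by rw [h3]
          _ = (q'⁻¹ * (q⁻¹ * (w * q * w⁻¹))) * (e2 * (w * q' * w⁻¹)) * (e * e') := by group
          _ = (q'⁻¹ * (q⁻¹ * (w * q * w⁻¹))) * ((w * q' * w⁻¹) * e2) * (e * e') := by rw [e2']
          _ = _ := by group
      inv_mem' := by
        rintro a ⟨ha, q, hq, e, he, h1⟩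
        refine ⟨inv_mem ha, q⁻¹, inv_mem hq, ?_⟩
        have hc := hL.conj_mem w hw q hq
        obtain ⟨e2, he2, h3⟩ := hcomm _ (inv_mem hc) _ hq
        rcases he with rfl | rfl
        · refine ⟨e2, he2, ?_⟩
          calc a⁻¹ = (w * q * w⁻¹)⁻¹ * q := by rw [h1]; group
            _ = q * (w * q * w⁻¹)⁻¹ * e2 := h3
            _ = _ := by group
        · refine ⟨e2 * zz A, ?_, ?_⟩
          · rcases he2 with rfl | rfl
            · right; rw [one_mul]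
            · left; exact hL.z_sq
          · have h4 : a⁻¹ = (zz A)⁻¹ * ((w * q * w⁻¹)⁻¹ * q) := by rw [h1]; group
            have h5 := hL.comm_z _ (mul_mem (inv_mem hc) hq)
            rw [h4, hL.z_inv, ← h5, h3]
            group }
  have hB' : ∀ a, a ∈ B' ↔ a ∈ QQ ∧ ∃ q ∈ QQ, ∃ e : Inst.M.G, (e = 1 ∨ e = zz A) ∧ a = q⁻¹ * (w * q * w⁻¹) * e :=
    fun _ => Iff.rfl
  have hzB : zz A ∈ B' := (hB' _).2 ⟨hL.z_mem, 1, one_mem _, zz A, Or.inr rfl, by group⟩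
  refine ⟨B', fun a ha => ((hB' a).1 ha).1, hzB, ?_, ?_⟩
  · refine card_ge hzB (D := Nat.xor M ID) ?_ ?_ hrk
    · intro k hk
      rw [fd_xor]
      exact Nat.xor_lt_two_pow (hr k hk).2 (rep_one k hk).2
    · intro k hk x hx
      rw [fd_xor, v_xor, fd_ID k hk] at hx
      obtain ⟨y, hy, e⟩ := (hr k hk).1 (dec 11 (2 ^ k)) rfl
      have hRG : ∀ x : Pauli 11, Cd.R x ∈ Inst.M.G := fun x => A.C_le_G (A.grp.Q_le (R_mem_Q x))
      have hRQ : ∀ x : Pauli 11, (⟨Cd.R x, hRG x⟩ : Inst.M.G) ∈ QQ := fun x => mem_PP.2 (R_mem_Q x)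
      rw [hB']
      refine ⟨hRQ x, ⟨Cd.R (dec 11 (2 ^ k)), hRG _⟩, hRQ _, ?_⟩
      have h1 : ab x = ab ((dec 11 (2 ^ k))⁻¹ * y) := by
        rw [ab_mul, ab_inv, hy, hx, add_comm]
        rfl
      rcases (ab_eq_iff _ _).1 h1 with h2 | h2
      · refine ⟨1, Or.inl rfl, ?_⟩
        apply Subtype.ext
        change Cd.R x = (Cd.R (dec 11 (2 ^ k)))⁻¹ * ((w : V ≃ₗ[ℚ] V) * Cd.R (dec 11 (2 ^ k)) * (w : V ≃ₗ[ℚ] V)⁻¹) * 1
        rw [e, h2, map_mul, map_inv, mul_one]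
      · refine ⟨zz A, Or.inr rfl, ?_⟩
        apply Subtype.ext
        change Cd.R x = (Cd.R (dec 11 (2 ^ k)))⁻¹ * ((w : V ≃ₗ[ℚ] V) * Cd.R (dec 11 (2 ^ k)) * (w : V ≃ₗ[ℚ] V)⁻¹) *
          ((zz A : Inst.M.G) : V ≃ₗ[ℚ] V)
        rw [e, h2, map_mul, zz_R, ← map_inv, ← map_mul, ← map_mul, ← map_mul]
        exact congrArg (fun x => Cd.R x)
          (Subgroup.mem_center_iff.1 ((Pauli.mem_center_iff' _).2 (Or.inr rfl)) _).symm
  · intro a ha
    obtain ⟨-, q, hq, e, he, h⟩ := (hB' a).1 ha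
    refine ⟨q, hq, ?_⟩
    rcases he with rfl | rfl
    · left; rw [h, mul_one]
    · right; exact h

end Cfsg.Agent.OddHalf.NI3.Ex.BabyMat
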