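import Cfsg.Agent.OddHalf.NI3.Ex.BabySyl

/-!
# The 3-elements of `C(z)` in the Baby Monster have commutators of dimension at least 10 on `Q / ⟨z⟩`
(helper88)
-/

set_option autoImplicit false
set_option linter.style.haveILetI false

namespace Cfsg.Agent.OddHalf.NI3.Ex.BabyStage

open Cfsg.Agent.BabyM Cfsg.Agent.BabyM.Model Cfsg.Agent.BabyM.Conc
open Cfsg.Agent.OddHalf.NI3.Ex.PackM Cfsg.Agent.OddHalf.NI3.Ex.BabyMat Cfsg.Agent.OddHalf.NI3.Ex.BabySyl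
open Cfsg.Agent.BabyU.ClosModel (mem_PP zz)
open Cfsg.Agent.BabyU.ClosLane (A)
open Cfsg.Agent.Co2Type.Quad

/-- the subgroup `Q` -/
local notation "QQ" => Cfsg.Agent.BabyU.ClosModel.PP Inst.M

/-- `H` is the preimage of a group of matrices which are the products of the list `l`. -/
structure Stage (l : List ℕ) (n : ℕ) (H : Subgroup Inst.M.G) : Prop where
  cen : ∀ h ∈ H, h * zz A = zz A * h
  Qle : QQ ≤ H
  card : Nat.card H = 3 ^ n * Nat.card QQ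
  dfs : ∀ (leaf : ℕ → Bool) (P : ℕ), dfs leaf l P = true → ∀ g : V ≃ₗ[ℚ] V, Rep g P → ∀ x ∈ H,
    ∃ M, Rep (g * (x : V ≃ₗ[ℚ] V)) M ∧ leaf M = true

theorem stage_nil : Stage [] 0 QQ where
  cen := (KFacts.Baby.Inst.large A).comm_z
  Qle := le_rfl
  card := by rw [pow_zero, one_mul]
  dfs := by
    intro leaf P h g hg x hx
    obtain ⟨y, hy⟩ := exists_R hx
    refine ⟨P, ?_, by rwa [dfs_nil] at h⟩
    rw [hy]
    exact hg.mulR y

theorem Stage.step {l : List ℕ} {n : ℕ} {H : Subgroup Inst.M.G} (S : Stage l n H) {w : Inst.M.G}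
    (hw : w * zz A = zz A * w) {B : ℕ} (hr : Rep (w : V ≃ₗ[ℚ] V) B) (hn : ∀ h ∈ H, w * h * w⁻¹ ∈ H)
    (h3 : mulM (mulM B B) B = ID) (hnot : PackM.dfs (leafN B) l ID = true) :
    ∃ H' : Subgroup Inst.M.G, Stage (B :: l) (n + 1) H' ∧ H ≤ H' ∧ w ∈ H' ∧
      ∀ K : Subgroup Inst.M.G, H ≤ K → w ∈ K → H' ≤ K := by
  haveI := A.finite_G
  have hw3 : w * w * w ∈ H := by
    apply S.Qle
    refine mem_of_id ?_ ?_
    · have hc : Commute w (zz A) := hw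
      exact ((hc.mul_left hc).mul_left hc)
    · rw [← h3]
      exact (hr.mul hr).mul hr
  have hwH : w ∉ H := by
    intro hwH
    obtain ⟨M, hM, hl⟩ := S.dfs _ _ hnot 1 rep_one w hwH
    rw [one_mul] at hM
    exact leafN_spec hl (hM.unique hr)
  obtain ⟨H', h1, h2, h4, h5, h6⟩ := ChainThree.step hn hw3 hwH
  refine ⟨H', ⟨?_, S.Qle.trans h1, ?_, ?_⟩, h1, h2, h6⟩
  · have hC : H' ≤ Subgroup.centralizer ({zz A} : Set Inst.M.G) := by
      refine h6 _ (fun h hh => Subgroup.mem_centralizer_singleton_iff.2 (S.cen h hh)) ?_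
      exact Subgroup.mem_centralizer_singleton_iff.2 hw
    exact fun h hh => Subgroup.mem_centralizer_singleton_iff.1 (hC hh)
  · rw [h4, S.card, pow_succ]; ring
  · intro leaf P h g hg x hx
    rw [dfs_cons, Bool.and_eq_true, Bool.and_eq_true] at h
    obtain ⟨k, hk, h7 | h7 | h7⟩ := h5 x hx
    · obtain ⟨M, hM, hl⟩ := S.dfs leaf P h.1 g hg k hk
      exact ⟨M, by rw [h7]; exact hM, hl⟩
    · obtain ⟨M, hM, hl⟩ := S.dfs leaf _ h.2.1 (g * (w : V ≃ₗ[ℚ] V)) (hg.mul hr) k hk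
      refine ⟨M, ?_, hl⟩
      rw [h7]
      have e : g * ((w * k : Inst.M.G) : V ≃ₗ[ℚ] V) = g * (w : V ≃ₗ[ℚ] V) * k := (mul_assoc _ _ _).symm
      rwa [e]
    · obtain ⟨M, hM, hl⟩ := S.dfs leaf _ h.2.2 (g * (w : V ≃ₗ[ℚ] V) * (w : V ≃ₗ[ℚ] V)) ((hg.mul hr).mul hr) k hk
      refine ⟨M, ?_, hl⟩
      rw [h7]
      have e : g * ((w * w * k : Inst.M.G) : V ≃ₗ[ℚ] V) = g * (w : V ≃ₗ[ℚ] V) * w * k := by
        change g * ((w : V ≃ₗ[ℚ] V) * w * k) = _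
        group
      rwa [e]

/-- the matrices of the elements of `H` -/
def In (H : Subgroup Inst.M.G) (U : ℕ) : Prop := ∃ u ∈ H, Rep (u : V ≃ₗ[ℚ] V) U

theorem In.mul {H : Subgroup Inst.M.G} {U U' : ℕ} (h : In H U) (h' : In H U') : In H (mulM U U') := by
  obtain ⟨u, hu, hr⟩ := h
  obtain ⟨u', hu', hr'⟩ := h'
  exact ⟨u * u', mul_mem hu hu', hr.mul hr'⟩

theorem Stage.conj {l : List ℕ} {n : ℕ} {H : Subgroup Inst.M.G} (S : Stage l n H) {w w' : Inst.M.G}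
    (hw : w * zz A = zz A * w) (hw' : w' * zz A = zz A * w') {B B' U : ℕ} (hr : Rep (w : V ≃ₗ[ℚ] V) B)
    (hr' : Rep (w' : V ≃ₗ[ℚ] V) B') (hU : In H U) (he : mulM B B' = mulM U B) : w * w' * w⁻¹ ∈ H := by
  obtain ⟨u, hu, hru⟩ := hU
  have hL := KFacts.Baby.Inst.large A
  have hm : ∀ {a b : Inst.M.G}, a * zz A = zz A * a → b * zz A = zz A * b → (a * b) * zz A = zz A * (a * b) := by
    intro a b ha hb
    rw [mul_assoc, hb, ← mul_assoc, ha, mul_assoc]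
  have h1 : (u * w)⁻¹ * (w * w') ∈ QQ := mem_of_eq (hm (S.cen u hu) hw) (hm hw hw') (hru.mul hr) (hr.mul hr') he.symm
  have h2 := hL.conj_mem w hw _ h1
  have e : w * w' * w⁻¹ = u * (w * ((u * w)⁻¹ * (w * w')) * w⁻¹) := by group
  rw [e]
  exact mul_mem hu (S.Qle h2)

/-- the normalizer as a condition -/
theorem conj_le {H K : Subgroup Inst.M.G} (w : Inst.M.G) (h : H ≤ K.comap (MulAut.conj w).toMonoidHom) :
    ∀ x ∈ H, w * x * w⁻¹ ∈ K := fun _ hx => h hx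

theorem el_cen {l : List Ltr} (h : l.all ok = true) : el l h * zz A = zz A * el l h :=
  Subgroup.mem_centralizer_singleton_iff.1 ((KFacts.Baby.Inst.mem_cen A).2 (wd_C h))

theorem cube1 : mulM (mulM W1 W1) W1 = ID := by decide +kernel

theorem cube2 : mulM (mulM W2 W2) W2 = ID := by decide +kernel

theorem cube3 : mulM (mulM W3 W3) W3 = ID := by decide +kernel

theorem cube4 : mulM (mulM W4 W4) W4 = ID := by decide +kernel

theorem cube5 : mulM (mulM W5 W5) W5 = ID := by decide +kernel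

theorem cube6 : mulM (mulM W6 W6) W6 = ID := by decide +kernel

theorem not1 : PackM.dfs (leafN W1) [W2, W3, W4, W5, W6] ID = true := by decide +kernel

theorem not2 : PackM.dfs (leafN W2) [W3, W4, W5, W6] ID = true := by decide +kernel

theorem not3 : PackM.dfs (leafN W3) [W4, W5, W6] ID = true := by decide +kernel

theorem not4 : PackM.dfs (leafN W4) [W5, W6] ID = true := by decide +kernel

theorem not5 : PackM.dfs (leafN W5) [W6] ID = true := by decide +kernel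

theorem not6 : PackM.dfs (leafN W6) [] ID = true := by decide +kernel

theorem rel56 : mulM W5 W6 = mulM W6 W5 := by decide +kernel

theorem rel46 : mulM W4 W6 = mulM W6 W4 := by decide +kernel

theorem rel45 : mulM W4 W5 = mulM (mulM W5 (mulM W6 W6)) W4 := by decide +kernel

theorem rel36 : mulM W3 W6 = mulM W6 W3 := by decide +kernel

theorem rel35 : mulM W3 W5 = mulM (mulM W5 W6) W3 := by decide +kernel

theorem rel34 : mulM W3 W4 = mulM W4 W3 := by decide +kernel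

theorem rel26 : mulM W2 W6 = mulM W6 W2 := by decide +kernel

theorem rel25 : mulM W2 W5 = mulM W5 W2 := by decide +kernel

theorem rel24 : mulM W2 W4 = mulM (mulM W4 (mulM W5 (mulM W6 W6))) W2 := by decide +kernel

theorem rel23 : mulM W2 W3 = mulM (mulM W3 (mulM (mulM W5 W5) (mulM W6 W6))) W2 := by decide +kernel

theorem rel16 : mulM W1 W6 = mulM W6 W1 := by decide +kernel

theorem rel15 : mulM W1 W5 = mulM W5 W1 := by decide +kernel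

theorem rel14 : mulM W1 W4 = mulM (mulM W4 W6) W1 := by decide +kernel

theorem rel13 : mulM W1 W3 = mulM W3 W1 := by decide +kernel

theorem rel12 : mulM W1 W2 = mulM (mulM (mulM W2 W3) (mulM W4 W6)) W1 := by decide +kernel

/-- **The Sylow 3-subgroup.** -/
theorem exists_top : ∃ H : Subgroup Inst.M.G, Stage [W1, W2, W3, W4, W5, W6] 6 H := by
  have hL := KFacts.Baby.Inst.large A
  obtain ⟨w1, c1, r1⟩ : ∃ w : Inst.M.G, w * zz A = zz A * w ∧ Rep (w : V ≃ₗ[ℚ] V) W1 := ⟨el L1 ok1, el_cen ok1, rep1⟩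
  obtain ⟨w2, c2, r2⟩ : ∃ w : Inst.M.G, w * zz A = zz A * w ∧ Rep (w : V ≃ₗ[ℚ] V) W2 := ⟨el L2 ok2, el_cen ok2, rep2⟩
  obtain ⟨w3, c3, r3⟩ : ∃ w : Inst.M.G, w * zz A = zz A * w ∧ Rep (w : V ≃ₗ[ℚ] V) W3 := ⟨el L3 ok3, el_cen ok3, rep3⟩
  obtain ⟨w4, c4, r4⟩ : ∃ w : Inst.M.G, w * zz A = zz A * w ∧ Rep (w : V ≃ₗ[ℚ] V) W4 := ⟨el L4 ok4, el_cen ok4, rep4⟩
  obtain ⟨w5, c5, r5⟩ : ∃ w : Inst.M.G, w * zz A = zz A * w ∧ Rep (w : V ≃ₗ[ℚ] V) W5 := ⟨el L5 ok5, el_cen ok5, rep5⟩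
  obtain ⟨w6, c6, r6⟩ : ∃ w : Inst.M.G, w * zz A = zz A * w ∧ Rep (w : V ≃ₗ[ℚ] V) W6 := ⟨el L6 ok6, el_cen ok6, rep6⟩
  obtain ⟨H6, S6, -, m6, g6⟩ := stage_nil.step c6 r6 (hL.conj_mem _ c6) cube6 not6
  have hQ6 : ∀ w : Inst.M.G, w * zz A = zz A * w → QQ ≤ H6.comap (MulAut.conj w).toMonoidHom :=
    fun w hw x hx => S6.Qle (hL.conj_mem w hw x hx)
  have i66 : In H6 W6 := ⟨w6, m6, r6⟩
  -- w5
  obtain ⟨H5, S5, l56, m5, g5⟩ := S6.step c5 r5 (conj_le _ (g6 _ (hQ6 _ c5)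
    (S6.conj c5 c6 r5 r6 i66 rel56))) cube5 not5
  have hQ5 : ∀ w : Inst.M.G, w * zz A = zz A * w → QQ ≤ H5.comap (MulAut.conj w).toMonoidHom :=
    fun w hw x hx => S5.Qle (hL.conj_mem w hw x hx)
  have i56 : In H5 W6 := ⟨w6, l56 m6, r6⟩
  have i55 : In H5 W5 := ⟨w5, m5, r5⟩
  -- w4
  obtain ⟨H4, S4, l45, m4, g4⟩ := S5.step c4 r4 (conj_le _ (g5 _ (g6 _ (hQ5 _ c4)
      (S5.conj c4 c6 r4 r6 i56 rel46))
      (S5.conj c4 c5 r4 r5 (i55.mul (i56.mul i56)) rel45))) cube4 not4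
  have hQ4 : ∀ w : Inst.M.G, w * zz A = zz A * w → QQ ≤ H4.comap (MulAut.conj w).toMonoidHom :=
    fun w hw x hx => S4.Qle (hL.conj_mem w hw x hx)
  have i46 : In H4 W6 := ⟨w6, l45 (l56 m6), r6⟩
  have i45 : In H4 W5 := ⟨w5, l45 m5, r5⟩
  have i44 : In H4 W4 := ⟨w4, m4, r4⟩
  -- w3
  obtain ⟨H3, S3, l34, m3, g3⟩ := S4.step c3 r3 (conj_le _ (g4 _ (g5 _ (g6 _ (hQ4 _ c3)
      (S4.conj c3 c6 r3 r6 i46 rel36))
      (S4.conj c3 c5 r3 r5 (i45.mul i46) rel35))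
      (S4.conj c3 c4 r3 r4 i44 rel34))) cube3 not3
  have hQ3 : ∀ w : Inst.M.G, w * zz A = zz A * w → QQ ≤ H3.comap (MulAut.conj w).toMonoidHom :=
    fun w hw x hx => S3.Qle (hL.conj_mem w hw x hx)
  have i36 : In H3 W6 := ⟨w6, l34 (l45 (l56 m6)), r6⟩
  have i35 : In H3 W5 := ⟨w5, l34 (l45 m5), r5⟩
  have i34 : In H3 W4 := ⟨w4, l34 m4, r4⟩
  have i33 : In H3 W3 := ⟨w3, m3, r3⟩
  -- w2
  obtain ⟨H2, S2, l23, m2, g2⟩ := S3.step c2 r2 (conj_le _ (g3 _ (g4 _ (g5 _ (g6 _ (hQ3 _ c2)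
      (S3.conj c2 c6 r2 r6 i36 rel26))
      (S3.conj c2 c5 r2 r5 i35 rel25))
      (S3.conj c2 c4 r2 r4 (i34.mul (i35.mul (i36.mul i36))) rel24))
      (S3.conj c2 c3 r2 r3 (i33.mul ((i35.mul i35).mul (i36.mul i36))) rel23)))
      cube2 not2
  have hQ2 : ∀ w : Inst.M.G, w * zz A = zz A * w → QQ ≤ H2.comap (MulAut.conj w).toMonoidHom :=
    fun w hw x hx => S2.Qle (hL.conj_mem w hw x hx)
  have i26 : In H2 W6 := ⟨w6, l23 (l34 (l45 (l56 m6))), r6⟩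
  have i25 : In H2 W5 := ⟨w5, l23 (l34 (l45 m5)), r5⟩
  have i24 : In H2 W4 := ⟨w4, l23 (l34 m4), r4⟩
  have i23 : In H2 W3 := ⟨w3, l23 m3, r3⟩
  have i22 : In H2 W2 := ⟨w2, m2, r2⟩
  -- w1
  obtain ⟨H1, S1, -, -, -⟩ := S2.step c1 r1 (conj_le _ (g2 _ (g3 _ (g4 _ (g5 _ (g6 _ (hQ2 _ c1)
      (S2.conj c1 c6 r1 r6 i26 rel16))
      (S2.conj c1 c5 r1 r5 i25 rel15))
      (S2.conj c1 c4 r1 r4 (i24.mul i26) rel14))
      (S2.conj c1 c3 r1 r3 i23 rel13))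
      (S2.conj c1 c2 r1 r2 ((i22.mul i23).mul (i24.mul i26)) rel12)))
      cube1 not1
  exact ⟨H1, S1⟩

/-- **The ranks.** -/
theorem ranks : dfs leafR [W1, W2, W3, W4, W5, W6] ID = true := by decide +kernel

end Cfsg.Agent.OddHalf.NI3.Ex.BabyStage
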