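import Mathlib

/-!
# Adding an element of order 3 modulo a subgroup (helper88)
-/

set_option autoImplicit false
set_option linter.style.haveILetI false

namespace Cfsg.Agent.OddHalf.NI3.Ex.ChainThree

open Subgroup

variable {G : Type*} [Group G]

theorem conj_inv_mem [Finite G] {H : Subgroup G} {w : G} (hn : ∀ h ∈ H, w * h * w⁻¹ ∈ H) : ∀ h ∈ H, w⁻¹ * h * w ∈ H := by
  have h1 : ∀ n : ℕ, ∀ h ∈ H, w ^ n * h * (w ^ n)⁻¹ ∈ H := by
    intro n
    induction n with
    | zero => intro h hh; simpa using hh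
    | succ n ih =>
      intro h hh
      have := hn _ (ih h hh)
      have e : w ^ (n + 1) * h * (w ^ (n + 1))⁻¹ = w * (w ^ n * h * (w ^ n)⁻¹) * w⁻¹ := by
        rw [pow_succ', mul_inv_rev]; group
      rwa [e]
  intro h hh
  have h2 : w⁻¹ = w ^ (orderOf w - 1) := by
    have h3 := orderOf_pos w
    rw [inv_eq_iff_mul_eq_one, ← pow_succ', Nat.sub_add_cancel h3, pow_orderOf_eq_one]
  have h4 := h1 (orderOf w - 1) h hh
  rwa [← h2, inv_inv] at h4

theorem step [Finite G] {H : Subgroup G} {w : G} (hn : ∀ h ∈ H, w * h * w⁻¹ ∈ H) (h3 : w * w * w ∈ H) (hw : w ∉ H) :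
    ∃ H' : Subgroup G, H ≤ H' ∧ w ∈ H' ∧ Nat.card H' = 3 * Nat.card H ∧
      (∀ x ∈ H', ∃ h ∈ H, x = h ∨ x = w * h ∨ x = w * w * h) ∧ ∀ K : Subgroup G, H ≤ K → w ∈ K → H' ≤ K := by
  have hn' := conj_inv_mem hn
  have hw2 : w * w ∉ H := fun h => hw (by
    have := mul_mem h3 (inv_mem h)
    have e : w * w * w * (w * w)⁻¹ = w := by group
    rwa [e] at this)
  -- moving `w` to the left
  have hmv : ∀ h ∈ H, ∃ h' ∈ H, h * w = w * h' := fun h hh => ⟨w⁻¹ * h * w, hn' h hh, by group⟩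
  have hmv2 : ∀ h ∈ H, ∃ h' ∈ H, h * (w * w) = w * w * h' := fun h hh =>
    ⟨w⁻¹ * (w⁻¹ * h * w) * w, hn' _ (hn' h hh), by group⟩
  let H' : Subgroup G :=
    { carrier := {x | ∃ h ∈ H, x = h ∨ x = w * h ∨ x = w * w * h}
      one_mem' := ⟨1, one_mem _, Or.inl rfl⟩
      mul_mem' := by
        rintro x y ⟨a, ha, e1⟩ ⟨b, hb, e2⟩
        rcases e1 with e1 | e1 | e1 <;> rcases e2 with e2 | e2 | e2 <;> rw [e1, e2]
        · exact ⟨_, mul_mem ha hb, Or.inl rfl⟩
        · obtain ⟨c, hc, e⟩ := hmv a ha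
          exact ⟨_, mul_mem hc hb, Or.inr (Or.inl (by rw [← mul_assoc, e, mul_assoc]))⟩
        · obtain ⟨c, hc, e⟩ := hmv2 a ha
          exact ⟨_, mul_mem hc hb, Or.inr (Or.inr (by rw [← mul_assoc, e, mul_assoc]))⟩
        · exact ⟨_, mul_mem ha hb, Or.inr (Or.inl (by rw [mul_assoc]))⟩
        · obtain ⟨c, hc, e⟩ := hmv a ha
          exact ⟨_, mul_mem hc hb, Or.inr (Or.inr (by
            calc w * a * (w * b) = w * (a * w) * b := by group
              _ = w * w * (c * b) := by rw [e]; group))⟩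
        · obtain ⟨c, hc, e⟩ := hmv2 a ha
          exact ⟨_, mul_mem (mul_mem h3 hc) hb, Or.inl (by
            calc w * a * (w * w * b) = w * (a * (w * w)) * b := by group
              _ = w * w * w * c * b := by rw [e]; group)⟩
        · exact ⟨_, mul_mem ha hb, Or.inr (Or.inr (by rw [mul_assoc (w * w)]))⟩
        · obtain ⟨c, hc, e⟩ := hmv a ha
          exact ⟨_, mul_mem (mul_mem h3 hc) hb, Or.inl (by
            calc w * w * a * (w * b) = w * w * (a * w) * b := by group
              _ = w * w * w * c * b := by rw [e]; group)⟩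
        · obtain ⟨c, hc, e⟩ := hmv2 a ha
          exact ⟨_, mul_mem (mul_mem h3 hc) hb, Or.inr (Or.inl (by
            calc w * w * a * (w * w * b) = w * w * (a * (w * w)) * b := by group
              _ = w * (w * w * w * c * b) := by rw [e]; group))⟩
      inv_mem' := by
        rintro x ⟨a, ha, e1⟩
        rcases e1 with e1 | e1 | e1 <;> rw [e1]
        · exact ⟨_, inv_mem ha, Or.inl rfl⟩
        · refine ⟨(w⁻¹ * (w⁻¹ * a⁻¹ * w) * w) * (w * w * w)⁻¹, mul_mem (hn' _ (hn' _ (inv_mem ha))) (inv_mem h3),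
            Or.inr (Or.inr (by group))⟩
        · refine ⟨(w⁻¹ * a⁻¹ * w) * (w * w * w)⁻¹, mul_mem (hn' _ (inv_mem ha)) (inv_mem h3),
            Or.inr (Or.inl (by group))⟩ }
  have hmem : ∀ x, x ∈ H' ↔ ∃ h ∈ H, x = h ∨ x = w * h ∨ x = w * w * h := fun _ => Iff.rfl
  refine ⟨H', fun x hx => ⟨x, hx, Or.inl rfl⟩, ⟨1, one_mem _, Or.inr (Or.inl (mul_one _).symm)⟩, ?_,
    fun x hx => hx, ?_⟩
  · let f : Fin 3 × H → H' := fun p => ⟨w ^ (p.1 : ℕ) * p.2, by
      rw [hmem]
      refine ⟨p.2, p.2.2, ?_⟩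
      obtain ⟨i, h⟩ := p
      fin_cases i
      · left; simp
      · right; left; simp
      · right; right
        change w ^ 2 * (h : G) = _
        rw [pow_two]⟩
    have hf : Function.Bijective f := by
      constructor
      · rintro ⟨i, a⟩ ⟨j, b⟩ h
        have h4 : w ^ (i : ℕ) * (a : G) = w ^ (j : ℕ) * b := congrArg Subtype.val h
        have key : ∀ (i j : ℕ) (a b : H), i < j → j < 3 → w ^ i * (a : G) = w ^ j * b → False := by
          intro i j a b hij hj h
          have h5 : w ^ (j - i) * (b : G) = a := by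
            have h6 : w ^ j = w ^ i * w ^ (j - i) := by rw [← pow_add]; congr 1; omega
            rw [h6, mul_assoc] at h
            exact (mul_left_cancel h).symm
          have h6 : w ^ (j - i) ∈ H := by
            have : w ^ (j - i) = a * (b : G)⁻¹ := by rw [← h5]; group
            rw [this]
            exact mul_mem a.2 (inv_mem b.2)
          have h7 : j - i = 1 ∨ j - i = 2 := by omega
          rcases h7 with h7 | h7
          · rw [h7, pow_one] at h6; exact hw h6
          · rw [h7, pow_two] at h6; exact hw2 h6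
        rcases lt_trichotomy (i : ℕ) j with h5 | h5 | h5
        · exact (key _ _ a b h5 j.2 h4).elim
        · rw [h5] at h4
          have h6 : a = b := Subtype.ext (mul_left_cancel h4)
          have h7 : i = j := Fin.ext h5
          rw [h6, h7]
        · exact (key _ _ b a h5 i.2 h4.symm).elim
      · rintro ⟨x, hx⟩
        obtain ⟨h, hh, rfl | rfl | rfl⟩ := hx
        · exact ⟨(0, ⟨_, hh⟩), Subtype.ext (by simp [f])⟩
        · exact ⟨(1, ⟨_, hh⟩), Subtype.ext (by simp [f])⟩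
        · exact ⟨(2, ⟨_, hh⟩), Subtype.ext (by
            change w ^ 2 * h = _
            rw [pow_two])⟩
    rw [← Nat.card_congr (Equiv.ofBijective f hf), Nat.card_prod, Nat.card_eq_fintype_card, Fintype.card_fin]
  · rintro K hK hwK _ ⟨h, hh, rfl | rfl | rfl⟩
    · exact hK hh
    · exact mul_mem hwK (hK hh)
    · exact mul_mem (mul_mem hwK hwK) (hK hh)

/-- A `p`-element has a conjugate in every subgroup of index not divisible by `p`. -/
theorem exists_conj {C : Type*} [Group C] [Finite C] {p : ℕ} [Fact p.Prime] {H : Subgroup C} (hi : ¬ p ∣ H.index) {w : C}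
    (hw : ∃ k : ℕ, w ^ p ^ k = 1) : ∃ c : C, c⁻¹ * w * c ∈ H := by
  have hp : IsPGroup p (zpowers w) := by
    obtain ⟨k, hk⟩ := hw
    rintro ⟨x, hx⟩
    obtain ⟨i, rfl⟩ := mem_zpowers_iff.1 hx
    refine ⟨k, Subtype.ext ?_⟩
    change (w ^ i) ^ p ^ k = 1
    rw [← zpow_natCast, ← zpow_mul, mul_comm, zpow_mul, zpow_natCast, hk, one_zpow]
  obtain ⟨a, ha⟩ := hp.nonempty_fixed_point_of_prime_not_dvd_card (C ⧸ H) (by rwa [← Subgroup.index_eq_card])
  obtain ⟨g, rfl⟩ := QuotientGroup.mk_surjective a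
  have h1 := ha ⟨w, mem_zpowers w⟩
  have h2 : (QuotientGroup.mk (w * g) : C ⧸ H) = QuotientGroup.mk g := h1
  rw [QuotientGroup.eq] at h2
  refine ⟨g, ?_⟩
  have h3 := inv_mem h2
  have e : ((w * g)⁻¹ * g)⁻¹ = g⁻¹ * w * g := by group
  rwa [← e]

end Cfsg.Agent.OddHalf.NI3.Ex.ChainThree
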