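import Cfsg.Agent.OddHalf.NI3.Ex.BabyMat
import Cfsg.Agent.OddHalf.NI3.Ex.ChainThree

/-!
# Six elements of `C(z)` in the Baby Monster which generate a Sylow 3-subgroup modulo `Q`
(helper88)
-/

set_option autoImplicit false
set_option linter.style.haveILetI false

namespace Cfsg.Agent.OddHalf.NI3.Ex.BabySyl

open Cfsg.Agent.Monster Cfsg.Agent.Monster.VecEngine Cfsg.Agent.Monster.VecSpace
open Cfsg.Agent.Monster.PauliBasic Cfsg.Agent.Monster.PauliRep Cfsg.Agent.Monster.PauliClif Cfsg.Agent.Monster.PauliBits
open Cfsg.Agent.BabyM Cfsg.Agent.BabyM.QAct Cfsg.Agent.BabyM.Model Cfsg.Agent.BabyM.Conc Cfsg.Agent.BabyM.KTab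
open Cfsg.Agent.BabyM.KRow Cfsg.Agent.BabyM.KQ Cfsg.Agent.BabyM.KRowData Cfsg.Agent.BabyM.QIrrInst
open Cfsg.Agent.OddHalf.NI3.Ex.PackM Cfsg.Agent.OddHalf.NI3.Ex.BabyMat

/-- the matrix of `y1` -/
def M_y1 : ℕ := nat_lit 109944028300512093524711912799965480114279835906812985667707731869144910403008891331745394370759175016072146763517064223817997725468259586724808483337020638209

/-- the matrix of `y2` -/
def M_y2 : ℕ := nat_lit 110051290762674839060325295889016582164113180839952567552982583648471167631031075362622902674737846782208218203486609488259097089214935542885057885755792162817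

/-- the matrix of `y3` -/
def M_y3 : ℕ := nat_lit 110265920438546609650350048376223336129744232611135035128364887804402350327196338449946335482506086764719326203004471869529541212005139637201686423669020033025

/-- the matrix of `y4` -/
def M_y4 : ℕ := nat_lit 110694865543149752801884469058232593283991817521277929649386395011423726903918145180395369520239898053204818728060420251732999773853956598235769254549074739201

/-- the matrix of `y5` -/
def M_y5 : ℕ := nat_lit 111552965251540168723290609990778586775580860548326584594904509603533595676385971929315667020039966887530572645113041734251560826689537997377930912569963315201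

/-- the matrix of `y6` -/
def M_y6 : ℕ := nat_lit 113269583659577915714251078348384581343737808324839682385862084843249551675834945202734897721159950913760847523218364453524887752094996109017134009493057699841

/-- the matrix of `y7` -/
def M_y7 : ℕ := nat_lit 116702401484065589059532307055405306870865769841693303039015633279743408005365535479577083622236608687465198853014686347816109608399371467393143517977178537985

/-- the matrix of `y8` -/
def M_y8 : ℕ := nat_lit 123566361155944593985163122865580409388464501237154701839395253382563146574994386350656160542579463906587036869874869927476658727112655502640860252429193576449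

/-- the matrix of `y9` -/
def M_y9 : ℕ := nat_lit 137295956476068456469981627093770232206469826331053226456732472622842076876960898092016793140971693130372001458796945312881959706264563457178590731212249104385

/-- the matrix of `y10` -/
def M_y10 : ℕ := nat_lit 164755199490775064952529999834626742606884062508416975939440325474300073085225477167470757483992330089334750007904113404978518864743214054644940477114995441665

/-- the matrix of `p` -/
def M_p : ℕ := nat_lit 109836768509945064975648331154295350794880538614961813687938266340586730206969649145896364432278066356866899369033732754369920584103804228411399185567846498635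

/-- the matrix of `p10` -/
def M_p10 : ℕ := nat_lit 109836762743201324809755043721667570295019481826632637997213091290562016797059180895907246803984946306365627211859164990308083604224478889723534532338092343328

/-- the matrix of `h` -/
def M_h : ℕ := nat_lit 109836763010260471214545054239974697033142183047012852872371578004404254590637158389601062353400748078729534078097018219715274374269341170614161778936008146945

/-- the matrix of `xi` -/
def M_xi : ℕ := nat_lit 163719076612060811426398255171961626540111062561129828884102984022672649909620749443203898331902156870148611476241262798050079923045850909049243079981306720955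

theorem rep_y1 : Rep (E .y1) M_y1 := rep_of KRelY1.rel_y1 (by decide +kernel)

theorem rep_y2 : Rep (E .y2) M_y2 := rep_of KRelY1.rel_y2 (by decide +kernel)

theorem rep_y3 : Rep (E .y3) M_y3 := rep_of KRelY1.rel_y3 (by decide +kernel)

theorem rep_y4 : Rep (E .y4) M_y4 := rep_of KRelY1.rel_y4 (by decide +kernel)

theorem rep_y5 : Rep (E .y5) M_y5 := rep_of KRelY1.rel_y5 (by decide +kernel)

theorem rep_y6 : Rep (E .y6) M_y6 := rep_of KRelY2.rel_y6 (by decide +kernel)

theorem rep_y7 : Rep (E .y7) M_y7 := rep_of KRelY2.rel_y7 (by decide +kernel)

theorem rep_y8 : Rep (E .y8) M_y8 := rep_of KRelY2.rel_y8 (by decide +kernel)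

theorem rep_y9 : Rep (E .y9) M_y9 := rep_of KRelY2.rel_y9 (by decide +kernel)

theorem rep_y10 : Rep (E .y10) M_y10 := rep_of KRelY2.rel_y10 (by decide +kernel)

theorem rep_p : Rep (E .p) M_p := rep_of KRelP.rel_p (by decide +kernel)

theorem rep_h : Rep (E .h) M_h := rep_of KRelP.rel_h (by decide +kernel)

theorem rep_xi : Rep (E .xi) M_xi := rep_of KRelXi.rel_xi (by decide +kernel)

/-- powers -/
noncomputable def mpow (A n : ℕ) : ℕ := Nat.rec ID (fun _ ih => mulM A ih) n

theorem rep_pow {g : V ≃ₗ[ℚ] V} {A : ℕ} (h : Rep g A) (n : ℕ) : Rep (g ^ n) (mpow A n) := by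
  induction n with
  | zero => rw [pow_zero]; exact rep_one
  | succ n ih => rw [pow_succ']; exact h.mul ih

theorem M_p10_eq : mpow M_p 10 = M_p10 := by decide +kernel

theorem rep_p10 : Rep (E .p10) M_p10 := by
  rw [TransInv.pow_ten, ← M_p10_eq]
  exact rep_pow rep_p 10

/-- the letters -/
def ok : Ltr → Bool

  | .y1 => true
  | .y2 => true
  | .y3 => true
  | .y4 => true
  | .y5 => true
  | .y6 => true
  | .y7 => true
  | .y8 => true
  | .y9 => true
  | .y10 => true
  | .p => true
  | .p10 => true
  | .h => true
  | .xi => true
  | _ => false

/-- the matrix of a letter -/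
def mat : Ltr → ℕ
  | .y1 => M_y1
  | .y2 => M_y2
  | .y3 => M_y3
  | .y4 => M_y4
  | .y5 => M_y5
  | .y6 => M_y6
  | .y7 => M_y7
  | .y8 => M_y8
  | .y9 => M_y9
  | .y10 => M_y10
  | .p => M_p
  | .p10 => M_p10
  | .h => M_h
  | .xi => M_xi
  | _ => nat_lit 0

theorem rep_mat {l : Ltr} (h : ok l = true) : Rep (E l) (mat l) := by
  cases l <;> first
    | exact absurd (show false = true from h) (by simp)
    | exact rep_y1
    | exact rep_y2
    | exact rep_y3
    | exact rep_y4
    | exact rep_y5
    | exact rep_y6
    | exact rep_y7
    | exact rep_y8
    | exact rep_y9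
    | exact rep_y10
    | exact rep_p
    | exact rep_p10
    | exact rep_h
    | exact rep_xi

theorem okC {l : Ltr} (h : ok l = true) : ConcGrp.inC l = true := by
  cases l <;> first
    | rfl
    | exact absurd (show false = true from h) (by simp)

/-- the product of the letters -/
noncomputable def wd (l : List Ltr) : V ≃ₗ[ℚ] V := (l.map E).prod

/-- the product of the matrices -/
noncomputable def ml (l : List Ltr) : ℕ := List.rec ID (fun a _ ih => mulM (mat a) ih) l

theorem rep_wd {l : List Ltr} (h : l.all ok = true) : Rep (wd l) (ml l) := by
  induction l with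
  | nil => exact rep_one
  | cons a l ih =>
    rw [List.all_cons, Bool.and_eq_true] at h
    have h1 : wd (a :: l) = E a * wd l := by
      unfold wd; rw [List.map_cons, List.prod_cons]
    rw [h1]
    exact (rep_mat h.1).mul (ih h.2)

theorem wd_C {l : List Ltr} (h : l.all ok = true) : wd l ∈ Inst.M.C := by
  induction l with
  | nil => exact one_mem _
  | cons a l ih =>
    rw [List.all_cons, Bool.and_eq_true] at h
    have h1 : wd (a :: l) = E a * wd l := by
      unfold wd; rw [List.map_cons, List.prod_cons]
    rw [h1]
    exact mul_mem (ConcGrp.mem_C (okC h.1)) (ih h.2)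

/-- the element of `Inst.M.G` -/
noncomputable def el (l : List Ltr) (h : l.all ok = true) : Inst.M.G := ⟨wd l, BabyU.ClosLane.A.C_le_G (wd_C h)⟩

/-- the word -/
def L1 : List Ltr := [.y2, .y10, .xi, .p, .p, .y1, .p, .h, .p10, .h, .p10, .p10, .y9, .xi, .y2]

/-- the matrix -/
def W1 : ℕ := nat_lit 114264011055206554852911017290973543310888908108480924517880017800273892185096889566022764581924991045266234953237525074796190604204650751901063188373219312051

theorem ok1 : L1.all ok = true := by decide +kernel

theorem ml1 : ml L1 = W1 := by decide +kernel

theorem rep1 : Rep (el L1 ok1 : V ≃ₗ[ℚ] V) W1 := by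
  rw [← ml1]; exact rep_wd ok1

/-- the word -/
def L2 : List Ltr := [.y8, .xi, .p10, .y7, .y10, .xi, .p10, .y2, .p10, .p10, .xi, .y3, .p, .xi, .h, .y6, .y4]

/-- the matrix -/
def W2 : ℕ := nat_lit 111985419430734497848749413542331393096576810674428083301445245162747759789378630218630853325265525705802980771823374103397882575120114768956818017095350484993

theorem ok2 : L2.all ok = true := by decide +kernel

theorem ml2 : ml L2 = W2 := by decide +kernel

theorem rep2 : Rep (el L2 ok2 : V ≃ₗ[ℚ] V) W2 := by
  rw [← ml2]; exact rep_wd ok2

/-- the word -/
def L3 : List Ltr := [.y2, .y10, .xi, .y8, .p10, .y7, .h, .xi, .y8, .p, .y9, .xi, .h, .y10, .xi, .y3]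

/-- the matrix -/
def W3 : ℕ := nat_lit 114264020785684737030317885361829776289247675190325860062788770827518610843387965589120058961011969666528984274218269831164497260679909865744277343101718493881

theorem ok3 : L3.all ok = true := by decide +kernel

theorem ml3 : ml L3 = W3 := by decide +kernel

theorem rep3 : Rep (el L3 ok3 : V ≃ₗ[ℚ] V) W3 := by
  rw [← ml3]; exact rep_wd ok3

/-- the word -/
def L4 : List Ltr := [.y1, .h, .y10, .p, .p, .xi, .p, .y4, .xi, .p10, .xi, .p10, .y10, .h, .xi, .p, .y1]

/-- the matrix -/
def W4 : ℕ := nat_lit 138159144951303452561585071349421734788534749673734824218408659069127531212793714496265644351607752805773355558723709434032185251582761033966426882993547836774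

theorem ok4 : L4.all ok = true := by decide +kernel

theorem ml4 : ml L4 = W4 := by decide +kernel

theorem rep4 : Rep (el L4 ok4 : V ≃ₗ[ℚ] V) W4 := by
  rw [← ml4]; exact rep_wd ok4

/-- the word -/
def L5 : List Ltr := [.p10, .xi, .y5, .y10, .xi, .p10, .y10, .p10, .h, .p10, .p10, .h, .p, .h, .y1]

/-- the matrix -/
def W5 : ℕ := nat_lit 137295953215711054283412791394661585646873615263081220289498684941572139190707445802457658988474769893656566869372630027973092085007546831085535839163286290464

theorem ok5 : L5.all ok = true := by decide +kernel

theorem ml5 : ml L5 = W5 := by decide +kernel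

theorem rep5 : Rep (el L5 ok5 : V ≃ₗ[ℚ] V) W5 := by
  rw [← ml5]; exact rep_wd ok5

/-- the word -/
def L6 : List Ltr := [.y1, .y3, .xi, .y3, .y8, .p10, .xi, .p10, .xi, .y3, .p10, .xi, .y7, .h, .y8, .xi, .y9, .y5]

/-- the matrix -/
def W6 : ℕ := nat_lit 78719078144281185491703168508175661331935390229040105909940811682361981525893811208119279073761710974370292623311986863935942475474689105213477733026520610348

theorem ok6 : L6.all ok = true := by decide +kernel

theorem ml6 : ml L6 = W6 := by decide +kernel

theorem rep6 : Rep (el L6 ok6 : V ≃ₗ[ℚ] V) W6 := by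
  rw [← ml6]; exact rep_wd ok6

end Cfsg.Agent.OddHalf.NI3.Ex.BabySyl
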