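import Cfsg.Agent.OddHalf.NI.Ex.Defs

/-!
# Fixed points of an automorphism on the centralizer of an involution with a large extraspecial subgroup

`pow_dvd_fix`: `γ² = 1`, `Q ≤ H` invariant under `γ`, `Q` normal in `H`, `|Q| ≥ 2^(2n+1)`, `q² ∈ {1, z}` for `q ∈ Q` with
`z` central in `Q`, `|H : Q|` even: `2^(n+1)` divides `|C(γ)|`.
-/

set_option autoImplicit false

namespace Cfsg.Agent.OddHalf.NI3.Ex

open Subgroup Cfsg.Agent.OddHalf.NI.Ex

variable {G : Type*} [Group G]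

/-- An involutory automorphism of a group of even order has an even number of fixed points. -/
theorem two_dvd_fix [Finite G] {γ : MulAut G} (hγ : γ * γ = 1) (h2 : 2 ∣ Nat.card G) : 2 ∣ Nat.card ↥(fix γ) := by
  classical
  have := Fintype.ofFinite G
  have : Fact (Nat.Prime 2) := ⟨Nat.prime_two⟩
  obtain ⟨f, hf⟩ : ∃ f : Function.End G, ∀ g, f g = γ g := ⟨fun g => γ g, fun _ => rfl⟩
  have hf2 : f ^ 2 ^ 1 = 1 := by
    rw [pow_one, pow_two]
    funext g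
    show f (f g) = g
    rw [hf, hf, ← MulAut.mul_apply, hγ, MulAut.one_apply]
  have h1 := Equiv.Perm.card_fixedPoints_modEq (p := 2) (n := 1) hf2
  rw [← Nat.card_eq_fintype_card] at h1
  have h3 : Fintype.card ↥(Function.fixedPoints f) = Nat.card ↥(fix γ) := by
    rw [← Nat.card_eq_fintype_card]
    exact Nat.card_congr (Equiv.subtypeEquivRight fun g => by
      rw [mem_fix, ← hf]
      exact Iff.rfl)
  have h4 : Nat.card G ≡ Nat.card ↥(fix γ) [MOD 2] := by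
    refine h1.trans ?_
    have h5 : ∀ a b : ℕ, a = b → a ≡ b [MOD 2] := fun a b e => e ▸ Nat.ModEq.refl a
    exact h5 _ _ h3
  exact Nat.modEq_zero_iff_dvd.1 (h4.symm.trans (Nat.modEq_zero_iff_dvd.2 h2))

section Main

variable {γ : MulAut G} {Q H : Subgroup G} {z : G}

/-- `q γ(q)⁻¹` -/
def dl (γ : MulAut G) (q : G) : G := q * (γ q)⁻¹

theorem dl_inv (hγ : ∀ g, γ (γ g) = g) (q : G) : γ (dl γ q) = (dl γ q)⁻¹ := by
  unfold dl
  rw [map_mul, map_inv, hγ]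
  group

theorem dl_eq_iff {a b : G} : dl γ a = dl γ b ↔ a⁻¹ * b ∈ fix γ := by
  unfold dl
  rw [mem_fix, map_mul, map_inv]
  constructor
  · intro h
    calc (γ a)⁻¹ * γ b = a⁻¹ * (a * (γ a)⁻¹) * γ b := by group
      _ = a⁻¹ * (b * (γ b)⁻¹) * γ b := by rw [h]
      _ = a⁻¹ * b := by group
  · intro h
    calc a * (γ a)⁻¹ = a * ((γ a)⁻¹ * γ b) * (γ b)⁻¹ := by group
      _ = a * (a⁻¹ * b) * (γ b)⁻¹ := by rw [h]
      _ = b * (γ b)⁻¹ := by group

/-- the elements of `Q` inverted by `γ` -/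
def Iv (γ : MulAut G) (Q : Subgroup G) : Set G := {q | q ∈ Q ∧ γ q = q⁻¹}

theorem card_Q [Finite G] (Q : Subgroup G) (γ : MulAut G) :
    Nat.card ↥Q = Nat.card ↥(fix γ ⊓ Q) * (dl γ '' (Q : Set G)).ncard := by
  have h1 : Nat.card ↥Q = Nat.card ↥((fix γ).subgroupOf Q) * ((fix γ).subgroupOf Q).index :=
    (card_mul_index _).symm
  have h2 : Nat.card ↥((fix γ).subgroupOf Q) = Nat.card ↥(fix γ ⊓ Q) := by
    rw [← inf_subgroupOf_right]
    exact Nat.card_congr (subgroupOfEquivOfLe inf_le_right).toEquiv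
  rw [h1, h2]
  congr 1
  rw [← Nat.card_coe_set_eq]
  refine Nat.card_congr (Equiv.ofBijective (Quotient.lift (fun q : ↥Q => (⟨dl γ q, q, q.2, rfl⟩ :
    ↥(dl γ '' (Q : Set G)))) ?_) ⟨?_, ?_⟩)
  · intro a b hab
    have h3 := QuotientGroup.leftRel_apply.1 hab
    exact Subtype.ext (dl_eq_iff.2 (mem_subgroupOf.1 h3))
  · intro a b
    induction a using Quotient.inductionOn with | _ a
    induction b using Quotient.inductionOn with | _ b
    intro h
    apply Quotient.sound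
    apply QuotientGroup.leftRel_apply.2
    rw [mem_subgroupOf]
    exact dl_eq_iff.1 (congrArg Subtype.val h)
  · rintro ⟨_, q, hq, rfl⟩
    exact ⟨Quotient.mk _ ⟨q, hq⟩, rfl⟩

theorem card_Iv_le [Finite G] (hcz : ∀ q ∈ Q, q * z = z * q) (hsq : ∀ q ∈ Q, q * q = 1 ∨ q * q = z)
    (hzz : z * z = 1) : (Iv γ Q).ncard ≤ 2 * Nat.card ↥(fix γ ⊓ Q) := by
  have hC : ((fix γ ⊓ Q : Subgroup G) : Set G).ncard = Nat.card ↥(fix γ ⊓ Q) := (Nat.card_coe_set_eq _).symm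
  have key : ∀ q ∈ Iv γ Q, γ q = q ∨ γ q = q * z := by
    rintro q ⟨hq, h⟩
    rcases hsq q hq with h1 | h1
    · left
      rw [h]
      exact inv_eq_of_mul_eq_one_left h1
    · right
      rw [h]
      apply inv_eq_of_mul_eq_one_left
      rw [mul_assoc, ← hcz q hq, ← mul_assoc, h1, hzz]
  by_cases hw : ∃ w ∈ Iv γ Q, γ w ≠ w
  · obtain ⟨w, hw, hne⟩ := hw
    have hw1 := (key w hw).resolve_left hne
    have h1 : Iv γ Q ⊆ ((fix γ ⊓ Q : Subgroup G) : Set G) ∪ (fun c => w * c) '' ((fix γ ⊓ Q : Subgroup G) : Set G) := by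
      intro q hq
      rcases key q hq with h | h
      · exact Or.inl (mem_inf.2 ⟨h, hq.1⟩)
      · right
        refine ⟨w⁻¹ * q, mem_inf.2 ⟨?_, mul_mem (inv_mem hw.1) hq.1⟩, by group⟩
        show γ (w⁻¹ * q) = w⁻¹ * q
        rw [map_mul, map_inv, hw1, h, hcz w hw.1, hcz q hq.1]
        group
    calc (Iv γ Q).ncard ≤ _ := Set.ncard_le_ncard h1 (Set.toFinite _)
      _ ≤ _ := Set.ncard_union_le _ _
      _ ≤ Nat.card ↥(fix γ ⊓ Q) + Nat.card ↥(fix γ ⊓ Q) := by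
        refine Nat.add_le_add hC.le ?_
        rw [← hC]
        exact Set.ncard_image_le (Set.toFinite _)
      _ = 2 * Nat.card ↥(fix γ ⊓ Q) := by ring
  · push Not at hw
    have h1 : Iv γ Q ⊆ ((fix γ ⊓ Q : Subgroup G) : Set G) := fun q hq => mem_inf.2 ⟨hw q hq, hq.1⟩
    calc (Iv γ Q).ncard ≤ _ := Set.ncard_le_ncard h1 (Set.toFinite _)
      _ = Nat.card ↥(fix γ ⊓ Q) := hC
      _ ≤ _ := by omega

theorem pow_dvd_fix [Finite G] (hγ : γ * γ = 1) {n : ℕ} (hQH : Q ≤ H) (hn : ∀ h ∈ H, ∀ q ∈ Q, h * q * h⁻¹ ∈ Q)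
    (hγQ : ∀ q ∈ Q, γ q ∈ Q) (hγH : ∀ h ∈ H, γ h ∈ H) (hcz : ∀ q ∈ Q, q * z = z * q)
    (hsq : ∀ q ∈ Q, q * q = 1 ∨ q * q = z) (hzz : z * z = 1) (hcard : 2 ^ (2 * n + 1) ≤ Nat.card ↥Q)
    (heven : 2 ∣ Q.relIndex H) : 2 ^ (n + 1) ∣ Nat.card ↥(fix γ) := by
  have : Fact (Nat.Prime 2) := ⟨Nat.prime_two⟩
  have hγγ : ∀ g, γ (γ g) = g := fun g => by rw [← MulAut.mul_apply, hγ, MulAut.one_apply]
  have hC2 : IsPGroup 2 ↥(fix γ ⊓ Q) := by
    rintro ⟨c, hc⟩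
    refine ⟨2, Subtype.ext ?_⟩
    show c ^ (2 ^ 2) = 1
    have h1 : c ^ (2 ^ 2) = (c * c) * (c * c) := by
      rw [← pow_two, ← pow_two, ← pow_mul]
      norm_num
    rw [h1]
    rcases hsq c (mem_inf.1 hc).2 with h | h
    · rw [h, one_mul]
    · rw [h, hzz]
  obtain ⟨k, hk⟩ := IsPGroup.iff_card.1 hC2
  have h1 := card_Q Q γ
  have h2 : dl γ '' (Q : Set G) ⊆ Iv γ Q := by
    rintro _ ⟨q, hq, rfl⟩
    exact ⟨mul_mem hq (inv_mem (hγQ q hq)), dl_inv hγγ q⟩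
  have h3 : (dl γ '' (Q : Set G)).ncard ≤ (Iv γ Q).ncard := Set.ncard_le_ncard h2 (Set.toFinite _)
  have h4 := card_Iv_le (γ := γ) hcz hsq hzz
  rw [hk] at h1 h4
  by_cases hkn : n + 1 ≤ k
  · refine (pow_dvd_pow 2 hkn).trans ?_
    rw [← hk]
    exact card_dvd_of_le inf_le_left
  rw [not_le] at hkn
  have h5 : 2 ^ (2 * n + 1) ≤ 2 ^ k * (2 * 2 ^ k) := by
    calc 2 ^ (2 * n + 1) ≤ _ := hcard
      _ = _ := h1
      _ ≤ _ := Nat.mul_le_mul_left _ (h3.trans h4)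
  have h6 : 2 ^ k * (2 * 2 ^ k) = 2 ^ (2 * k + 1) := by ring
  rw [h6] at h5
  have h7 := (Nat.pow_le_pow_iff_right (a := 2) (by norm_num)).1 h5
  have h8 : k = n := by omega
  subst h8
  -- equality: every inverted element of `Q` is a `dl γ q`
  have h9 : dl γ '' (Q : Set G) = Iv γ Q := by
    apply Set.eq_of_subset_of_ncard_le h2 _ (Set.toFinite _)
    have h10 : 2 ^ k * (2 * 2 ^ k) ≤ 2 ^ k * (dl γ '' (Q : Set G)).ncard := by
      rw [h6, ← h1]
      exact hcard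
    exact h4.trans (Nat.le_of_mul_le_mul_left h10 (by positivity))
  -- the quotient
  have hN : (Q.subgroupOf H).Normal := by
    refine ⟨fun q hq h => ?_⟩
    rw [mem_subgroupOf] at hq ⊢
    exact hn h h.2 q hq
  let γH : ↥H ≃* ↥H :=
    { toFun := fun h => ⟨γ h, hγH h h.2⟩
      invFun := fun h => ⟨γ h, hγH h h.2⟩
      left_inv := fun h => Subtype.ext (hγγ h)
      right_inv := fun h => Subtype.ext (hγγ h)
      map_mul' := fun a b => Subtype.ext (map_mul γ (a : G) b) }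
  have hmap : (Q.subgroupOf H).map γH.toMonoidHom = Q.subgroupOf H := by
    ext h
    constructor
    · rintro ⟨q, hq, rfl⟩
      exact hγQ _ hq
    · intro hh
      exact ⟨γH h, hγQ _ hh, Subtype.ext (hγγ h)⟩
  let γL : MulAut (↥H ⧸ Q.subgroupOf H) := QuotientGroup.congr _ _ γH hmap
  have hγL : ∀ h : ↥H, γL (QuotientGroup.mk' (Q.subgroupOf H) h) = QuotientGroup.mk' (Q.subgroupOf H) (γH h) :=
    fun h => rfl
  have hγL2 : γL * γL = 1 := by
    ext x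
    obtain ⟨h, rfl⟩ := QuotientGroup.mk'_surjective _ x
    rw [MulAut.mul_apply, hγL, hγL]
    rw [show γH (γH h) = h from Subtype.ext (hγγ h)]
    rfl
  have h10 : 2 ∣ Nat.card ↥(fix γL) := two_dvd_fix hγL2 heven
  let π : ↥(fix γ ⊓ H) →* ↥H ⧸ Q.subgroupOf H :=
    (QuotientGroup.mk' (Q.subgroupOf H)).comp (inclusion inf_le_right)
  have hr : π.range = fix γL := by
    ext x
    constructor
    · rintro ⟨d, rfl⟩
      show γL (π d) = π d
      have : γL (π d) = QuotientGroup.mk' (Q.subgroupOf H) (γH (inclusion inf_le_right d)) := rfl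
      rw [this]
      exact congrArg (QuotientGroup.mk' (Q.subgroupOf H)) (Subtype.ext (mem_inf.1 d.2).1 :
        γH (inclusion inf_le_right d) = inclusion inf_le_right d)
    · intro hx
      obtain ⟨h, rfl⟩ := QuotientGroup.mk'_surjective _ x
      have h11 : γL (QuotientGroup.mk' (Q.subgroupOf H) h) = QuotientGroup.mk' (Q.subgroupOf H) h := hx
      rw [hγL] at h11
      have h12 : (h : G)⁻¹ * γ h ∈ Q := (QuotientGroup.eq (s := Q.subgroupOf H) (a := h) (b := γH h)).1 h11.symm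
      have h13 : (h : G)⁻¹ * γ h ∈ Iv γ Q := ⟨h12, by rw [map_mul, map_inv, hγγ]; group⟩
      rw [← h9] at h13
      obtain ⟨q, hq, e⟩ := h13
      have hq' : q ∈ Q := hq
      have h14 : γ ((h : G) * q) = h * q := by
        have e' : q * (γ q)⁻¹ = (h : G)⁻¹ * γ h := e
        rw [map_mul]
        calc γ h * γ q = h * ((h : G)⁻¹ * γ h) * γ q := by group
          _ = h * (q * (γ q)⁻¹) * γ q := by rw [e']
          _ = h * q := by group
      refine ⟨⟨(h : G) * q, mem_inf.2 ⟨h14, mul_mem h.2 (hQH hq')⟩⟩, ?_⟩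
      show QuotientGroup.mk' (Q.subgroupOf H) _ = _
      apply QuotientGroup.eq.2
      rw [mem_subgroupOf]
      have h15 : (((inclusion (inf_le_right : fix γ ⊓ H ≤ H) ⟨(h : G) * q, mem_inf.2 ⟨h14, mul_mem h.2 (hQH hq')⟩⟩)⁻¹ *
          h : ↥H) : G) = q⁻¹ := by
        show ((h : G) * q)⁻¹ * h = q⁻¹
        group
      rw [h15]
      exact inv_mem hq'
  have hker : Nat.card ↥π.ker = 2 ^ k := by
    rw [← hk]
    refine Nat.card_congr ⟨fun d => ⟨(d : ↥(fix γ ⊓ H)), mem_inf.2 ⟨(mem_inf.1 d.1.2).1, ?_⟩⟩,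
      fun c => ⟨⟨c, mem_inf.2 ⟨(mem_inf.1 c.2).1, hQH (mem_inf.1 c.2).2⟩⟩, ?_⟩, fun d => rfl, fun c => rfl⟩
    · have h11 : (inclusion (inf_le_right : fix γ ⊓ H ≤ H) (d : ↥(fix γ ⊓ H))) ∈ Q.subgroupOf H :=
        (QuotientGroup.eq_one_iff _).1 d.2
      exact h11
    · apply (QuotientGroup.eq_one_iff _).2
      rw [mem_subgroupOf]
      exact (mem_inf.1 c.2).2
  have h11 : Nat.card ↥(fix γ ⊓ H) = 2 ^ k * Nat.card ↥(fix γL) := by
    rw [← hr, ← hker, ← π.ker.card_mul_index, Subgroup.index_ker]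
  refine Dvd.dvd.trans ?_ (card_dvd_of_le (inf_le_left : fix γ ⊓ H ≤ fix γ))
  rw [h11, pow_succ]
  exact Nat.mul_dvd_mul_left _ h10

end Main

end Cfsg.Agent.OddHalf.NI3.Ex
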