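import Cfsg.Agent.FourTwo.AutF4
import Cfsg.Agent.FourTwo.Perf
import Cfsg.Agent.OddHalf.NI.Ex.Defs

/-!
# (EX), (EX3): outer involutory automorphisms of `F₄(2)` (helper233)

* `card_ge`: `α² = 1`, `α(S) = S`, `A ≤ S`, `A ∩ α(A) = 1`, `|A|² = |S|` imply `|A| ≤ |C_S(α)|`;
* `exists_conj`: an involutory automorphism normalises a Sylow 2-subgroup;
* `pow_dvd_outer`: `2 ^ 12` divides `|C_L(α)|`, `L = F₄(2)`, `α` an outer automorphism of order 2.
-/

set_option autoImplicit false

namespace Cfsg.Agent.OddHalf.NI3.Ex.FFour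

open Subgroup Cfsg.Agent.OddHalf.NI.Ex

section general

variable {G : Type*} [Group G]

/-- `A B = S` for subgroups with trivial intersection and `|A| |B| = |S|` -/
theorem exists_mul [Finite G] {S A B : Subgroup G} (hA : A ≤ S) (hB : B ≤ S) (hd : ∀ x ∈ A, x ∈ B → x = 1)
    (hc : Nat.card A * Nat.card B = Nat.card S) {s : G} (hs : s ∈ S) : ∃ a ∈ A, ∃ b ∈ B, s = a * b := by
  classical
  let f : A × B → S := fun p => ⟨p.1 * p.2, mul_mem (hA p.1.2) (hB p.2.2)⟩
  have hf : Function.Injective f := by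
    rintro ⟨a, b⟩ ⟨c, d⟩ h
    have h1 : (a : G) * b = c * d := congrArg Subtype.val h
    have h2 : (c : G)⁻¹ * a = d * (b : G)⁻¹ := by
      calc (c : G)⁻¹ * a = (c : G)⁻¹ * (a * b) * (b : G)⁻¹ := by group
        _ = d * (b : G)⁻¹ := by rw [h1]; group
    have h3 : (c : G)⁻¹ * a = 1 := hd _ (mul_mem (inv_mem c.2) a.2) (by
      rw [h2]; exact mul_mem d.2 (inv_mem b.2))
    have h4 : (a : G) = c := by
      have := congrArg (fun y => (c : G) * y) h3
      simpa using this
    have h5 : (b : G) = d := by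
      rw [h4] at h1
      exact mul_left_cancel h1
    exact Prod.ext (Subtype.ext h4) (Subtype.ext h5)
  have hb : Function.Bijective f := by
    rw [Nat.bijective_iff_injective_and_card]
    exact ⟨hf, by rw [Nat.card_prod, hc]⟩
  obtain ⟨⟨a, b⟩, h⟩ := hb.2 ⟨s, hs⟩
  exact ⟨a, a.2, b, b.2, (congrArg Subtype.val h).symm⟩

theorem card_ge [Finite G] {α : MulAut G} (hα : α * α = 1) {S A : Subgroup G} (hS : ∀ s ∈ S, α s ∈ S) (hA : A ≤ S)
    (hd : ∀ x ∈ A, α x ∈ A → x = 1) (hc : Nat.card A * Nat.card A = Nat.card S) :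
    Nat.card A ≤ Nat.card ↥(S ⊓ fix α) := by
  classical
  have hαα : ∀ x, α (α x) = x := fun x => by
    rw [← MulAut.mul_apply, hα, MulAut.one_apply]
  set B : Subgroup G := A.map α.toMonoidHom with hB
  have hmB : ∀ x, x ∈ B ↔ α x ∈ A := by
    intro x
    constructor
    · rintro ⟨a, ha, rfl⟩
      show α (α a) ∈ A
      rw [hαα]; exact ha
    · intro h
      exact ⟨α x, h, hαα x⟩
  have hcB : Nat.card B = Nat.card A := card_map_of_injective α.injective
  have hBS : B ≤ S := by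
    rintro _ ⟨a, ha, rfl⟩
    exact hS a (hA ha)
  have hd' : ∀ x ∈ A, x ∈ B → x = 1 := fun x hx h => hd x hx ((hmB x).1 h)
  -- the elements inverted by `α`
  let T : Set G := {s | s ∈ S ∧ α s = s⁻¹}
  have hT : ∀ s ∈ T, ∃ a ∈ A, s = a * (α a)⁻¹ := by
    rintro s ⟨hs, h1⟩
    obtain ⟨a, ha, b, hb, rfl⟩ := exists_mul hA hBS hd' (by rw [hcB, hc]) hs
    refine ⟨a, ha, ?_⟩
    rw [map_mul, mul_inv_rev] at h1
    have h2 : b * α a = a⁻¹ * (α b)⁻¹ := by
      calc b * α a = b * (α a * α b) * (α b)⁻¹ := by group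
        _ = a⁻¹ * (α b)⁻¹ := by rw [h1]; group
    have h3 : b * α a = 1 := by
      apply hd'
      · rw [h2]
        exact mul_mem (inv_mem ha) (inv_mem ((hmB b).1 hb))
      · exact mul_mem hb ((hmB _).2 (by rw [hαα]; exact ha))
    rw [eq_inv_of_mul_eq_one_left h3]
  have hTA : Nat.card T ≤ Nat.card A := by
    let f : T → A := fun s => ⟨(hT s s.2).choose, (hT s s.2).choose_spec.1⟩
    have hf : Function.Injective f := by
      intro s s' h
      have h1 := (hT s s.2).choose_spec.2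
      have h2 := (hT s' s'.2).choose_spec.2
      have h3 : (hT s s.2).choose = (hT s' s'.2).choose := congrArg Subtype.val h
      apply Subtype.ext
      rw [h1, h2, h3]
    exact Nat.card_le_card_of_injective f hf
  -- cosets
  have h1 : Nat.card (↥S ⧸ (fix α).subgroupOf S) ≤ Nat.card T := by
    let f : ↥S ⧸ (fix α).subgroupOf S → T := Quotient.lift
      (fun s : ↥S => (⟨(s : G) * (α (s : G))⁻¹, mul_mem s.2 (inv_mem (hS _ s.2)), by
        rw [map_mul, map_inv, hαα]; group⟩ : T)) (by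
        intro s s' h
        have h1 : s⁻¹ * s' ∈ (fix α).subgroupOf S := QuotientGroup.leftRel_apply.1 h
        have h2 : α ((s : G)⁻¹ * s') = (s : G)⁻¹ * s' := h1
        rw [map_mul, map_inv] at h2
        apply Subtype.ext
        show (s : G) * (α (s : G))⁻¹ = (s' : G) * (α (s' : G))⁻¹
        have h3 : α (s' : G) = α (s : G) * ((s : G)⁻¹ * s') := by rw [← h2]; group
        rw [h3]; group)
    have hf : Function.Injective f := by
      intro a b
      obtain ⟨s, rfl⟩ := QuotientGroup.mk_surjective a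
      obtain ⟨s', rfl⟩ := QuotientGroup.mk_surjective b
      intro h
      have h1 : (s : G) * (α (s : G))⁻¹ = (s' : G) * (α (s' : G))⁻¹ := congrArg Subtype.val h
      apply QuotientGroup.eq.2
      show α ((s : G)⁻¹ * s') = (s : G)⁻¹ * s'
      rw [map_mul, map_inv]
      have h2 : (s' : G) = (s : G) * (α (s : G))⁻¹ * α (s' : G) := by rw [h1]; group
      conv_rhs => rw [h2]
      group
    exact Nat.card_le_card_of_injective f hf
  have h2 : Nat.card ↥S = Nat.card (↥S ⧸ (fix α).subgroupOf S) * Nat.card ↥((fix α).subgroupOf S) :=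
    Subgroup.card_eq_card_quotient_mul_card_subgroup _
  have h3 : Nat.card ↥((fix α).subgroupOf S) = Nat.card ↥(S ⊓ fix α) := by
    rw [← inf_subgroupOf_left]
    exact Nat.card_congr (subgroupOfEquivOfLe inf_le_left).toEquiv
  rw [h3] at h2
  have h4 : Nat.card A * Nat.card A ≤ Nat.card A * Nat.card ↥(S ⊓ fix α) := by
    rw [hc, h2]
    exact Nat.mul_le_mul_right _ (h1.trans hTA)
  exact Nat.le_of_mul_le_mul_left h4 Nat.card_pos

/-- an involutory automorphism normalises a Sylow 2-subgroup -/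
theorem exists_conj [Finite G] (P : Sylow 2 G) {α : MulAut G} (hα : α * α = 1) :
    ∃ g : G, ∀ s ∈ (P : Subgroup G), g⁻¹ * α (g * s * g⁻¹) * g ∈ (P : Subgroup G) := by
  classical
  have : Fact (Nat.Prime 2) := ⟨Nat.prime_two⟩
  have hp : IsPGroup 2 (zpowers α) := by
    rintro ⟨a, ha⟩
    obtain ⟨i, rfl⟩ := mem_zpowers_iff.1 ha
    refine ⟨1, Subtype.ext ?_⟩
    show (α ^ i) ^ (2 ^ 1) = 1
    rw [pow_one, pow_two, ← (Commute.refl α).mul_zpow, hα, one_zpow]
  have hodd : ¬ 2 ∣ Nat.card (Sylow 2 G) := by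
    have h := card_sylow_modEq_one 2 G
    intro h2
    have h4 : 1 ≡ 0 [MOD 2] := h.symm.trans (Nat.modEq_zero_iff_dvd.2 h2)
    exact absurd h4 (by decide)
  obtain ⟨Q, hQ⟩ := hp.nonempty_fixed_point_of_prime_not_dvd_card (α := Sylow 2 G) hodd
  have hQ1 : α • Q = Q := hQ ⟨α, mem_zpowers α⟩
  obtain ⟨g, hg⟩ := MulAction.exists_smul_eq G P Q
  refine ⟨g, fun s hs => ?_⟩
  have h1 : g * s * g⁻¹ ∈ (Q : Subgroup G) := by
    rw [← hg, Sylow.coe_subgroup_smul, mem_pointwise_smul_iff_inv_smul_mem]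
    have e : (MulAut.conj g)⁻¹ • (g * s * g⁻¹) = s := by
      rw [← map_inv, MulAut.smul_def, MulAut.conj_apply]; group
    rw [e]; exact hs
  have h2 : α (g * s * g⁻¹) ∈ (Q : Subgroup G) := by
    rw [← hQ1, Sylow.pointwise_smul_def]
    exact smul_mem_pointwise_smul _ _ _ h1
  rw [← hg, Sylow.coe_subgroup_smul, mem_pointwise_smul_iff_inv_smul_mem] at h2
  have e : (MulAut.conj g)⁻¹ • (α (g * s * g⁻¹)) = g⁻¹ * α (g * s * g⁻¹) * g := by
    rw [← map_inv, MulAut.smul_def, MulAut.conj_apply, inv_inv]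
  rwa [e] at h2

/-- the conjugate `g⁻¹ α g` -/
theorem conj_aut (α : MulAut G) (hα : α * α = 1) (g : G) : ∃ β : MulAut G, β * β = 1 ∧
    (∀ h, β h = g⁻¹ * α (g * h * g⁻¹) * g) ∧ Nat.card ↥(fix α) = Nat.card ↥(fix β) := by
  have hβ : ∀ h, ((MulAut.conj g)⁻¹ * α * MulAut.conj g) h = g⁻¹ * α (g * h * g⁻¹) * g := fun h => by
    rw [MulAut.mul_apply, MulAut.mul_apply, ← map_inv, MulAut.conj_apply, MulAut.conj_apply, inv_inv]
  refine ⟨(MulAut.conj g)⁻¹ * α * MulAut.conj g, ?_, hβ, ?_⟩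
  · calc (MulAut.conj g)⁻¹ * α * MulAut.conj g * ((MulAut.conj g)⁻¹ * α * MulAut.conj g)
        = (MulAut.conj g)⁻¹ * (α * α) * MulAut.conj g := by group
      _ = 1 := by rw [hα]; group
  · set β := (MulAut.conj g)⁻¹ * α * MulAut.conj g
    have h4 : fix α = (fix β).map (MulAut.conj g).toMonoidHom := by
      ext y
      constructor
      · intro hy
        refine ⟨g⁻¹ * y * g, ?_, ?_⟩
        · show β _ = _
          rw [hβ]
          have e : g * (g⁻¹ * y * g) * g⁻¹ = y := by group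
          rw [e, show α y = y from hy]
        · show g * (g⁻¹ * y * g) * g⁻¹ = y
          group
      · rintro ⟨y, hy, rfl⟩
        have h5 : β y = y := hy
        rw [hβ] at h5
        show α (g * y * g⁻¹) = g * y * g⁻¹
        calc α (g * y * g⁻¹) = g * (g⁻¹ * α (g * y * g⁻¹) * g) * g⁻¹ := by group
          _ = _ := by rw [h5]
    rw [h4, card_map_of_injective (MulAut.conj g).injective]

/-- `2 ^ 12` divides the orders of the centralizers of the outer involutory automorphisms -/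
def Outer12 (X : Type*) [Group X] : Prop :=
  ∀ α : MulAut X, α * α = 1 → (¬ ∃ l : X, ∀ h, α h = l * h * l⁻¹) → 2 ^ 12 ∣ Nat.card ↥(fix α)

theorem outer12 [Finite G] (gam : G ≃* G) (P : Sylow 2 G) {A B : Subgroup G} (hA : A ≤ (P : Subgroup G))
    (hB : B ≤ (P : Subgroup G)) (hAB : ∀ x ∈ A, x ∈ B → x = 1) (hcA : Nat.card A = 2 ^ 12) (hcB : Nat.card B = 2 ^ 12)
    (hcP : Nat.card (P : Subgroup G) = 2 ^ 24) (hgam : ∀ x ∈ A, gam x ∈ B)
    (ho : ∀ α : MulAut G, (∀ g, α g ∈ (P : Subgroup G) ↔ g ∈ (P : Subgroup G)) →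
      (¬ ∃ l : G, ∀ h, α h = l * h * l⁻¹) → ∃ u ∈ (P : Subgroup G), ∀ h, α h = u * gam h * u⁻¹) : Outer12 G := by
  intro α hα hno
  have : Fact (Nat.Prime 2) := ⟨Nat.prime_two⟩
  obtain ⟨g, hg⟩ := exists_conj P hα
  -- the conjugate of `α` which normalises `P`
  obtain ⟨β, hββ, hβ, hcard⟩ := conj_aut α hα g
  have hβb : ∀ h, β (β h) = h := fun h => by rw [← MulAut.mul_apply, hββ, MulAut.one_apply]
  have hβU : ∀ s ∈ (P : Subgroup G), β s ∈ (P : Subgroup G) := fun s hs => by rw [hβ]; exact hg s hs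
  have hβo : ¬ ∃ l : G, ∀ h, β h = l * h * l⁻¹ := by
    rintro ⟨l, hl⟩
    refine hno ⟨g * l * g⁻¹, fun h => ?_⟩
    have h1 := hl (g⁻¹ * h * g)
    rw [hβ] at h1
    have e : g * (g⁻¹ * h * g) * g⁻¹ = h := by group
    rw [e] at h1
    calc α h = g * (g⁻¹ * α h * g) * g⁻¹ := by group
      _ = _ := by rw [h1]; group
  obtain ⟨u, hu, hu'⟩ := ho β (fun s => ⟨fun h => by
    have := hβU _ h
    rwa [hβb] at this, hβU s⟩) hβo
  have hcU : Nat.card A * Nat.card B = Nat.card (P : Subgroup G) := by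
    rw [hcA, hcB, hcP]; norm_num
  have hd : ∀ y ∈ A, β y ∈ A → y = 1 := by
    intro y hy hy'
    obtain ⟨a, ha, b, hb, rfl⟩ := exists_mul hA hB hAB hcU hu
    rw [hu'] at hy'
    have h1 : b * gam y * b⁻¹ ∈ B := mul_mem (mul_mem hb (hgam y hy)) (inv_mem hb)
    have h2 : b * gam y * b⁻¹ ∈ A := by
      have h3 : b * gam y * b⁻¹ = a⁻¹ * (a * b * gam y * (a * b)⁻¹) * a := by group
      rw [h3]
      exact mul_mem (mul_mem (inv_mem ha) hy') ha
    have h4 := hAB _ h2 h1
    have h5 : gam y = 1 := by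
      have : gam y = b⁻¹ * (b * gam y * b⁻¹) * b := by group
      rw [this, h4]; group
    exact (map_eq_one_iff gam gam.injective).1 h5
  have h1 := card_ge hββ hβU hA hd (by rw [← hcU, hcA, hcB])
  rw [hcA] at h1
  -- a 2-group
  have h2 : IsPGroup 2 ↥((P : Subgroup G) ⊓ fix β) := (IsPGroup.of_card hcP).to_le inf_le_left
  obtain ⟨n, hn⟩ := IsPGroup.iff_card.1 h2
  rw [hn] at h1
  rw [hcard]
  refine (pow_dvd_pow 2 ((Nat.pow_le_pow_iff_right (by norm_num)).1 h1)).trans ?_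
  rw [← hn]
  exact card_dvd_of_le inf_le_right

end general

section f4

open Cfsg.Lie
open Cfsg.Agent.FourTwo.Base hiding bar_lt
open Cfsg.Agent.FourTwo.BN Cfsg.Agent.FourTwo.Par Cfsg.Agent.FourTwo.Cent
open Cfsg.Agent.FourTwo.AutF4 (gam gam_x gam_mem_U aut_gam_U)
open Cfsg.Agent.ChevalleyStructure.TwF4.Tables Cfsg.Agent.ChevalleyStructure.F4TwU

/-- the positive long roots -/
def lng (r : ℕ) : Bool := [24, 25, 26, 30, 31, 32, 41, 42, 43, 45, 46, 47].contains r

/-- the positive short roots -/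
def sht (r : ℕ) : Bool := [27, 28, 29, 33, 34, 35, 36, 37, 38, 39, 40, 44].contains r

theorem closed_lng : closedB lng = true := by decide +kernel

theorem closed_sht : closedB sht = true := by decide +kernel

theorem bar_lng : ∀ r < 48, lng r = true → sht (bar r) = true := by decide +kernel

theorem bar_sht : ∀ r < 48, sht r = true → lng (bar r) = true := by decide +kernel

theorem disj : ∀ r < 48, lng r = true → sht r = true → False := by decide +kernel

theorem card_A : Nat.card (RG lng) = 2 ^ 12 := by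
  rw [card_RG closed_lng]
  rfl

theorem card_B : Nat.card (RG sht) = 2 ^ 12 := by
  rw [card_RG closed_sht]
  rfl

theorem inf_eq {g : LL} (h : g ∈ RG lng) (h' : g ∈ RG sht) : g = 1 := by
  obtain ⟨S, hS⟩ := nf_RG closed_lng h
  rw [hS, mem_RG_iff closed_sht] at h'
  have h1 : ((posList 24).filter fun r => lng r && S r) = [] := by
    rw [List.filter_eq_nil_iff]
    intro r hr hr'
    rw [Bool.and_eq_true] at hr'
    have h2 := mem_posList.1 hr
    exact disj r h2.2 hr'.1 (h' r h2.1 h2.2 (by rw [Bool.and_eq_true]; exact hr'))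
  rw [hS, h1]
  rfl

theorem gam_lng {g : LL} (h : g ∈ RG lng) : gam g ∈ RG sht := by
  have h1 : RG lng ≤ (RG sht).comap gam.toMonoidHom := RG_le fun r hr hr' => by
    rw [mem_comap]
    show gam (x r) ∈ RG sht
    rw [gam_x hr]
    exact x_mem_RG (Cfsg.Agent.FourTwo.Base.bar_lt hr) (bar_lng r hr hr')
  exact h1 h

theorem gam_outer {α : MulAut LL} (hU : ∀ g, α g ∈ U ↔ g ∈ U) (ho : ¬ ∃ l : LL, ∀ h, α h = l * h * l⁻¹) :
    ∃ u ∈ U, ∀ h, α h = u * gam h * u⁻¹ := by
  obtain ⟨u, hu, h1 | h1⟩ := aut_gam_U hU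
  · exact absurd ⟨u, h1⟩ ho
  · exact ⟨u, hu, h1⟩

/-- **`2 ^ 12` divides the order of the centralizer of an outer involutory automorphism of `F₄(2)`.** -/
theorem pow_dvd_outer : Outer12 LL := by
  have hA : RG lng ≤ U := RG_le_U closed_lng
  have hB : RG sht ≤ U := RG_le_U closed_sht
  have hcU : Nat.card (RG lng) * Nat.card (RG sht) = Nat.card U := by
    rw [card_A, card_B, Cfsg.Agent.FourTwo.Perf.card_U]; rfl
  refine outer12 (G := LL) gam Cfsg.Agent.FourTwo.Perf.sylU hA hB (fun g h h' => inf_eq h h') card_A card_B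
    Cfsg.Agent.FourTwo.Perf.card_U (fun g h => gam_lng h) fun α hα ho => ?_
  exact gam_outer hα ho

end f4

end Cfsg.Agent.OddHalf.NI3.Ex.FFour
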