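import Cfsg.Agent.SporadicA.OctadFix
import Cfsg.Agent.SporadicStructure.M24Frame
import Cfsg.Agent.SporadicA.Co1Simple
import Cfsg.Agent.Leech.Trans64
import Cfsg.Agent.MonsterU.SmallComm
import Cfsg.Agent.OddHalf.D4.Spor.LatTwo

/-!
# The fixed points of an element of order 3 of `Co0` on `Λ/2Λ` (helper865)

* `fix_le_six` : an element of order 3 of `M24` has at most 6 fixed points;
* `exists_norm64` : a subgroup `H ≥ 2Λ` of `Λ` with `|H/2Λ| ≥ 2^7` contains a vector of norm 64;
* `card_le` : `g ∈ Co0`, `g³ = 1 ≠ g`: `|C_{Λ/2Λ}(g)| < 2^13`;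
* `relIndex_ge` : moreover `g l = l`, `l` minimal: `|[evn l / rad l, g]| ≥ 2^10`.
-/

set_option autoImplicit false

namespace Cfsg.Agent.OddHalf.NI3.Ex.LatThree

open Cfsg Cfsg.Agent.SporadicA.GolayBase Cfsg.Agent.SporadicA.OctadFix Cfsg.Agent.Leech.Code
open scoped Pointwise

section Perm

theorem fix_octad_card {g : Equiv.Perm GolayPt} (hg : g ∈ M24) (h3 : g * g * g = 1) (h1 : g ≠ 1)
    {O : Finset GolayPt} (hO : O ∈ octads) (hgO : ∀ x ∈ O, g x ∈ O) :
    (O.filter fun x => g x = x).card ≤ 5 := by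
  by_contra hcon
  push Not at hcon
  have hg3 : ∀ x, g (g (g x)) = x := fun x => by
    have := congrArg (fun k : Equiv.Perm GolayPt => k x) h3
    exact this
  by_cases hall : ∀ x ∈ O, g x = x
  · have h2 := fixOct_sq hO (mem_fixOct.2 ⟨hg, hall⟩)
    apply h1
    rw [h2, one_mul] at h3
    exact h3
  · push Not at hall
    obtain ⟨x, hx, hxg⟩ := hall
    have h4 : g (g x) ≠ g x := fun h => hxg (g.injective h)
    have h5 : g (g x) ≠ x := fun h => by
      have h6 := hg3 x
      rw [h] at h6
      exact hxg h6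
    have h6 : ({x, g x, g (g x)} : Finset GolayPt).card = 3 := by
      rw [Finset.card_insert_of_notMem, Finset.card_insert_of_notMem, Finset.card_singleton]
      · rw [Finset.mem_singleton]; exact h4.symm
      · rw [Finset.mem_insert, Finset.mem_singleton, not_or]
        exact ⟨fun h => hxg h.symm, fun h => h5 h.symm⟩
    have hd : Disjoint (O.filter fun x => g x = x) ({x, g x, g (g x)} : Finset GolayPt) := by
      rw [Finset.disjoint_left]
      intro y hy hy'
      have hyg := (Finset.mem_filter.1 hy).2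
      rw [Finset.mem_insert, Finset.mem_insert, Finset.mem_singleton] at hy'
      rcases hy' with rfl | rfl | rfl
      · exact hxg hyg
      · exact h4 hyg
      · apply hxg
        have h7 : g (g (g x)) = g (g x) := hyg
        exact g.injective (g.injective h7)
    have h7 : (O.filter fun x => g x = x) ∪ {x, g x, g (g x)} ⊆ O := by
      apply Finset.union_subset (Finset.filter_subset _ _)
      intro y hy
      rw [Finset.mem_insert, Finset.mem_insert, Finset.mem_singleton] at hy
      rcases hy with rfl | rfl | rfl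
      · exact hx
      · exact hgO _ hx
      · exact hgO _ (hgO _ hx)
    have h8 := Finset.card_le_card h7
    rw [Finset.card_union_of_disjoint hd, h6, octad_card hO] at h8
    omega

/-- An element of order 3 of `M24` has at most 6 fixed points. -/
theorem fix_le_six {g : Equiv.Perm GolayPt} (hg : g ∈ M24) (h3 : g * g * g = 1) (h1 : g ≠ 1)
    {s : Finset GolayPt} (hs : ∀ x ∈ s, g x = x) : s.card ≤ 6 := by
  classical
  by_contra hcon
  push Not at hcon
  obtain ⟨X, hXs, hX5⟩ := Finset.exists_subset_card_eq (show 5 ≤ s.card by omega)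
  obtain ⟨Y, hYX, hY3⟩ := Finset.exists_subset_card_eq (show 3 ≤ X.card by omega)
  obtain ⟨Z, hZs, hZ2⟩ := Finset.exists_subset_card_eq (show 2 ≤ (s \ X).card by
    rw [Finset.card_sdiff_of_subset hXs]; omega)
  have hd : Disjoint X Z := by
    rw [Finset.disjoint_left]
    intro x hx hz
    exact (Finset.mem_sdiff.1 (hZs hz)).2 hx
  have hYZ : (Y ∪ Z).card = 5 := by
    rw [Finset.card_union_of_disjoint (Finset.disjoint_of_subset_left hYX hd), hY3, hZ2]
  obtain ⟨O, ⟨hO, hXO⟩, -⟩ := steiner.2 X hX5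
  obtain ⟨O', ⟨hO', hXO'⟩, -⟩ := steiner.2 (Y ∪ Z) hYZ
  have hfX : ∀ x ∈ X, g x = x := fun x hx => hs x (hXs hx)
  have hfY : ∀ x ∈ Y ∪ Z, g x = x := by
    intro x hx
    rcases Finset.mem_union.1 hx with h | h
    · exact hfX x (hYX h)
    · exact hs x (Finset.mem_sdiff.1 (hZs h)).1
  have hst : ∀ {P W : Finset GolayPt}, P ∈ octads → W ⊆ P → W.card = 5 → (∀ x ∈ W, g x = x) →
      ∀ x ∈ P, g x ∈ P := by
    intro P W hP hWP hW hf x hx
    have h := Cfsg.Agent.SporadicStructure.M24Frame.smul_octad_eq_of_five hg hP hP hWP hW.ge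
      (fun z hz => by rw [hf z hz]; exact hWP hz)
    rw [← h]
    exact Finset.smul_mem_smul_finset hx
  have hgO := hst hO hXO hX5 hfX
  have hgO' := hst hO' hXO' hYZ hfY
  have e1 : O.filter (fun x => g x = x) = X := by
    symm
    apply Finset.eq_of_subset_of_card_le
    · intro x hx
      exact Finset.mem_filter.2 ⟨hXO hx, hfX x hx⟩
    · rw [hX5]; exact fix_octad_card hg h3 h1 hO hgO
  have e2 : O'.filter (fun x => g x = x) = Y ∪ Z := by
    symm
    apply Finset.eq_of_subset_of_card_le
    · intro x hx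
      exact Finset.mem_filter.2 ⟨hXO' hx, hfY x hx⟩
    · rw [hYZ]; exact fix_octad_card hg h3 h1 hO' hgO'
  have hne : O ≠ O' := by
    rintro rfl
    rw [e1] at e2
    have h5 : Z ⊆ X := by rw [e2]; exact Finset.subset_union_right
    have h6 : Z = ∅ := by
      rw [Finset.eq_empty_iff_forall_notMem]
      intro z hz
      exact (Finset.disjoint_left.1 hd) (h5 hz) hz
    rw [h6, Finset.card_empty] at hZ2
    omega
  have h4 : (O ∩ O').card ≤ 4 := by
    by_contra hc
    exact hne (octad_unique hO hO' (by omega))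
  have hev : Even (O ∩ O').card := even_inter hO.1 hO'.1
  have hYO : Y ⊆ O ∩ O' := by
    intro y hy
    exact Finset.mem_inter.2 ⟨hXO (hYX hy), hXO' (Finset.mem_union_left _ hy)⟩
  have h5 := Finset.card_le_card hYO
  obtain ⟨p, hp, hpY⟩ : ∃ p ∈ O ∩ O', p ∉ Y := by
    by_contra hc
    push Not at hc
    have h6 : (O ∩ O').card ≤ Y.card := Finset.card_le_card hc
    have h7 : (O ∩ O').card = 3 := by omega
    rw [h7] at hev
    exact absurd hev (by decide)
  have hpO := (Finset.mem_inter.1 hp).1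
  have hpO' := (Finset.mem_inter.1 hp).2
  have hpg : g p ≠ p := by
    intro h
    have h6 : p ∈ X := by rw [← e1]; exact Finset.mem_filter.2 ⟨hpO, h⟩
    have h7 : p ∈ Y ∪ Z := by rw [← e2]; exact Finset.mem_filter.2 ⟨hpO', h⟩
    rcases Finset.mem_union.1 h7 with h8 | h8
    · exact hpY h8
    · exact (Finset.disjoint_left.1 hd) h6 h8
  have hgpY : g p ∉ Y := by
    intro h
    have h6 := hfX _ (hYX h)
    exact hpg (g.injective h6)
  have h6 : (insert (g p) (insert p Y)).card = 5 := by
    rw [Finset.card_insert_of_notMem, Finset.card_insert_of_notMem hpY, hY3]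
    rw [Finset.mem_insert, not_or]
    exact ⟨hpg, hgpY⟩
  have h7 : insert (g p) (insert p Y) ⊆ O ∩ O' := by
    intro y hy
    rw [Finset.mem_insert, Finset.mem_insert] at hy
    rcases hy with rfl | rfl | hy
    · exact Finset.mem_inter.2 ⟨hgO _ hpO, hgO' _ hpO'⟩
    · exact hp
    · exact hYO hy
  have h8 := Finset.card_le_card h7
  omega

/-- the least points of the orbits -/
def tr (g : Equiv.Perm GolayPt) : Finset GolayPt :=
  Finset.univ.filter fun i => idx i ≤ idx (g i) ∧ idx i ≤ idx (g (g i))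

theorem mem_tr {g : Equiv.Perm GolayPt} {i : GolayPt} : i ∈ tr g ↔ idx i ≤ idx (g i) ∧ idx i ≤ idx (g (g i)) := by
  unfold tr
  rw [Finset.mem_filter]
  exact ⟨fun h => h.2, fun h => ⟨Finset.mem_univ _, h⟩⟩

theorem tr_cover {g : Equiv.Perm GolayPt} (h3 : g * g * g = 1) (i : GolayPt) :
    i ∈ tr g ∨ g i ∈ tr g ∨ g (g i) ∈ tr g := by
  have hg3 : g (g (g i)) = i := congrArg (fun k : Equiv.Perm GolayPt => k i) h3
  rw [mem_tr, mem_tr, mem_tr, hg3]
  omega

theorem card_tr {g : Equiv.Perm GolayPt} (hg : g ∈ M24) (h3 : g * g * g = 1) (h1 : g ≠ 1) : (tr g).card ≤ 12 := by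
  classical
  have hg3 : ∀ x, g (g (g x)) = x := fun x => congrArg (fun k : Equiv.Perm GolayPt => k x) h3
  have h6 := fix_le_six hg h3 h1 (s := Finset.univ.filter fun x => g x = x) (fun x hx => (Finset.mem_filter.1 hx).2)
  have e1 : (tr g).card = ∑ i : GolayPt, if i ∈ tr g then 1 else 0 := by
    rw [Finset.sum_boole, Finset.filter_univ_mem]; rfl
  have e2 : (tr g).card = ∑ i : GolayPt, if g i ∈ tr g then 1 else 0 := by
    rw [e1]
    exact (Equiv.sum_comp g (fun i => if i ∈ tr g then 1 else 0)).symm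
  have e3 : (tr g).card = ∑ i : GolayPt, if g (g i) ∈ tr g then 1 else 0 := by
    rw [e2]
    exact (Equiv.sum_comp g (fun i => if g i ∈ tr g then 1 else 0)).symm
  have e4 : (Finset.univ.filter fun x => g x = x).card = ∑ i : GolayPt, if g i = i then 1 else 0 := by
    rw [Finset.sum_boole]; rfl
  have e5 : (tr g).card + (tr g).card + (tr g).card ≤ ∑ i : GolayPt, (1 + 2 * if g i = i then 1 else 0) := by
    nth_rewrite 1 [e1]
    nth_rewrite 1 [e2]
    rw [e3, ← Finset.sum_add_distrib, ← Finset.sum_add_distrib]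
    apply Finset.sum_le_sum
    intro i _
    by_cases h : g i = i
    · rw [if_pos h, h, h]
      by_cases h' : i ∈ tr g
      · rw [if_pos h']
      · rw [if_neg h']; norm_num
    · rw [if_neg h]
      have k1 : ¬ (i ∈ tr g ∧ g i ∈ tr g) := by
        rw [mem_tr, mem_tr, hg3]
        rintro ⟨⟨h4, h5⟩, h6, h7⟩
        exact h (idx_injective (by omega))
      have k2 : ¬ (i ∈ tr g ∧ g (g i) ∈ tr g) := by
        rw [mem_tr, mem_tr, hg3]
        rintro ⟨⟨h4, h5⟩, h6, h7⟩
        have h8 : g (g i) = i := idx_injective (by omega)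
        apply h
        have h9 := hg3 i
        rw [h8] at h9
        exact h9
      have k3 : ¬ (g i ∈ tr g ∧ g (g i) ∈ tr g) := by
        rw [mem_tr, mem_tr, hg3]
        rintro ⟨⟨h4, h5⟩, h6, h7⟩
        exact h (g.injective (idx_injective (by omega)))
      by_cases a1 : i ∈ tr g <;> by_cases a2 : g i ∈ tr g <;> by_cases a3 : g (g i) ∈ tr g <;>
        simp only [a1, a2, a3, if_true, if_false] <;> first | omega | tauto
  rw [Finset.sum_add_distrib, ← Finset.mul_sum, ← e4, Finset.sum_const, Finset.card_univ, card_golayPt] at e5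
  simp only [smul_eq_mul] at e5
  omega

end Perm

end Cfsg.Agent.OddHalf.NI3.Ex.LatThree
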