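import Cfsg.Agent.OddHalf.NI3.Ex.LatThree
import Cfsg.Agent.S1570
import Cfsg.Agent.S1573

/-!
# The fixed points of an element of order 3 of `Co0` on `Λ/2Λ`, II (helper865)

* `exists_norm64` : a subgroup `H ≥ 2Λ` of `Λ` with `|H/2Λ| ≥ 2^7` contains a vector of norm 64;
* `card_le` : `g ∈ Co0`, `g³ = 1 ≠ g`: `|C_{Λ/2Λ}(g)| ≤ 2^12`;
* `relIndex_ge` : moreover `g l = l`, `l` minimal: `|[evn l / rad l, g]| ≥ 2^10`.
-/

set_option autoImplicit false

namespace Cfsg.Agent.OddHalf.NI3.Ex.LatThree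

open Cfsg Cfsg.Agent Cfsg.Agent.BabyM.CoTwoMod Cfsg.Agent.SporadicStructure.Co2RankThree
open Cfsg.Agent.SporadicA Cfsg.Agent.SporadicA.Co0Mono Cfsg.Agent.SporadicA.Co1Simple
open Cfsg.Agent.MonsterU.SmallComm (Fx mem_Fx two mem_two index_two two_le index_conj)
open Cfsg.Agent.OddHalf.D4.Spor.LatTwo

local notation "e8" => Cfsg.Agent.SporadicA.Co0Basic.e8

/-! ### Vectors of norm 64 -/

theorem dvd_norm (v : leechLattice) : (16 : ℤ) ∣ dt v v := by
  rw [← norm_eq]
  exact Cfsg.Agent.Leech.Basic.sixteen_dvd_sqNorm v.2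

/-- a representative of a singular class -/
theorem exists_rep {y : leechLattice} (hy : y ∉ two) (h32 : (32 : ℤ) ∣ dt y y) :
    ∃ v x : leechLattice, y = v + 2 • x ∧ (dt v v = 32 ∨ dt v v = 64) := by
  obtain ⟨v, hv, hvn, x, hx, h⟩ := Cfsg.Agent.S1570.result y y.2
  refine ⟨⟨v, hv⟩, ⟨x, hx⟩, ?_, ?_⟩
  · apply Subtype.ext
    rw [AddSubgroup.coe_add, AddSubgroup.coe_nsmul, ← h]
    exact (add_sub_cancel _ _).symm
  · set v' : leechLattice := ⟨v, hv⟩
    set x' : leechLattice := ⟨x, hx⟩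
    have e : y = v' + 2 • x' := by
      apply Subtype.ext
      rw [AddSubgroup.coe_add, AddSubgroup.coe_nsmul, ← h]
      exact (add_sub_cancel _ _).symm
    have h0 : v' ≠ 0 := by
      intro h0
      apply hy
      rw [mem_two]
      exact ⟨x', by rw [e, h0, zero_add]⟩
    have h1 := le_dt h0
    have h2 : dt v' v' ≤ 64 := by rw [← norm_eq]; exact hvn
    have h3 : dt y y = dt v' v' + 4 * dt v' x' + 4 * dt x' x' := by
      rw [e, dt_add_left, dt_add_right, dt_add_right, dt_two, dt_two_smul_right, dt_comm (2 • x') v',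
        dt_two_smul_right]
      ring
    obtain ⟨a, ha⟩ := h32
    obtain ⟨b, hb⟩ := eight_dvd_dt v' x'
    obtain ⟨c, hc⟩ := dvd_norm x'
    obtain ⟨d, hd⟩ := dvd_norm v'
    omega

theorem index_evn (y : leechLattice) : (evn y).index ∣ 2 := by
  by_cases h : ∀ x, x ∈ evn y
  · have h1 : evn y = ⊤ := by rw [eq_top_iff]; intro x _; exact h x
    rw [h1, AddSubgroup.index_top]
    norm_num
  · push Not at h
    obtain ⟨a, ha⟩ := h
    have h1 : (evn y).index = 2 := by
      rw [AddSubgroup.index_eq_two_iff]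
      refine ⟨a, fun b => ?_⟩
      rw [mem_evn] at ha
      obtain ⟨i, hi⟩ := eight_dvd_dt y a
      obtain ⟨j, hj⟩ := eight_dvd_dt y b
      by_cases hb : b ∈ evn y
      · right
        refine ⟨hb, fun hab => ?_⟩
        rw [mem_evn] at hb hab
        rw [dt_add_right] at hab
        omega
      · left
        refine ⟨?_, hb⟩
        rw [mem_evn] at hb ⊢
        rw [dt_add_right]
        omega
    rw [h1]

/-- the vectors with even inner product with `y` -/
theorem evn_relIndex (H : AddSubgroup leechLattice) (hH : two ≤ H) (y : leechLattice) :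
    two.relIndex H ≤ 2 * two.relIndex (H ⊓ evn y) := by
  have h2 : two ≤ evn y := by
    intro x hx
    obtain ⟨z, rfl⟩ := (mem_two x).1 hx
    rw [mem_evn, dt_two_smul_right]
    obtain ⟨b, hb⟩ := eight_dvd_dt y z
    exact ⟨b, by rw [hb]; ring⟩
  have h3 := AddSubgroup.relIndex_mul_relIndex two (H ⊓ evn y) H (le_inf hH h2) inf_le_left
  have h4 : (H ⊓ evn y).relIndex H ≤ 2 := by
    rw [AddSubgroup.inf_relIndex_left]
    have h5 : (evn y).relIndex H ∣ (evn y).index := AddSubgroup.relIndex_dvd_index_of_normal _ _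
    have h6 := index_evn y
    exact Nat.le_of_dvd (by norm_num) (h5.trans h6)
  rw [← h3, mul_comm 2]
  exact Nat.mul_le_mul_left _ h4

/-- `R + ℤ a` -/
def adj (R : AddSubgroup leechLattice) (hR : two ≤ R) (a : leechLattice) : AddSubgroup leechLattice where
  carrier := {x | x ∈ R ∨ x - a ∈ R}
  add_mem' := by
    rintro x y (hx | hx) (hy | hy)
    · exact Or.inl (add_mem hx hy)
    · right
      have : x + y - a = x + (y - a) := by abel
      rw [this]; exact add_mem hx hy
    · right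
      have : x + y - a = x - a + y := by abel
      rw [this]; exact add_mem hx hy
    · left
      have : x + y = (x - a) + (y - a) + 2 • a := by rw [two_smul]; abel
      rw [this]
      exact add_mem (add_mem hx hy) (hR ((mem_two _).2 ⟨a, rfl⟩))
  zero_mem' := Or.inl R.zero_mem
  neg_mem' := by
    rintro x (hx | hx)
    · exact Or.inl (neg_mem hx)
    · right
      have : -x - a = -(x - a) - 2 • a := by rw [two_smul]; abel
      rw [this]
      exact sub_mem (neg_mem hx) (hR ((mem_two _).2 ⟨a, rfl⟩))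

theorem mem_adj {R : AddSubgroup leechLattice} {hR : two ≤ R} {a x : leechLattice} :
    x ∈ adj R hR a ↔ x ∈ R ∨ x - a ∈ R := Iff.rfl

theorem le_adj {R : AddSubgroup leechLattice} {hR : two ≤ R} {a : leechLattice} : R ≤ adj R hR a :=
  fun _ hx => Or.inl hx

theorem self_mem_adj {R : AddSubgroup leechLattice} {hR : two ≤ R} {a : leechLattice} : a ∈ adj R hR a :=
  Or.inr (by rw [sub_self]; exact R.zero_mem)

theorem relIndex_adj (R : AddSubgroup leechLattice) (hR : two ≤ R) (a : leechLattice) :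
    R.relIndex (adj R hR a) ≤ 2 := by
  by_cases ha : a ∈ R
  · have h : adj R hR a = R := by
      apply le_antisymm _ le_adj
      rintro x (hx | hx)
      · exact hx
      · have := add_mem hx ha
        rwa [sub_add_cancel] at this
    rw [h, AddSubgroup.relIndex_self]
    norm_num
  · refine le_of_eq ?_
    rw [AddSubgroup.relIndex_eq_two_iff]
    refine ⟨a, self_mem_adj, fun b hb => ?_⟩
    rcases hb with hb | hb
    · right
      refine ⟨hb, fun h => ha ?_⟩
      have := sub_mem h hb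
      rwa [add_sub_cancel_left] at this
    · left
      refine ⟨?_, fun h => ha ?_⟩
      · have : b + a = (b - a) + 2 • a := by rw [two_smul]; abel
        rw [this]
        exact add_mem hb (hR ((mem_two _).2 ⟨a, rfl⟩))
      · have := sub_mem h hb
        rwa [sub_sub_cancel] at this

theorem relIndex_mul_adj (R : AddSubgroup leechLattice) (hR : two ≤ R) (a : leechLattice) :
    two.relIndex R * R.relIndex (adj R hR a) = two.relIndex (adj R hR a) :=
  AddSubgroup.relIndex_mul_relIndex two R (adj R hR a) hR le_adj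

theorem two_smul_mem_evn (y z : leechLattice) : 2 • z ∈ evn y := by
  rw [mem_evn, dt_two_smul_right]
  obtain ⟨b, hb⟩ := eight_dvd_dt y z
  exact ⟨b, by rw [hb]; ring⟩

theorem relIndex_pos {H : AddSubgroup leechLattice} : 0 < two.relIndex H := by
  have h : two.relIndex H ∣ two.index := AddSubgroup.relIndex_dvd_index_of_normal _ _
  rw [index_two] at h
  exact Nat.pos_of_dvd_of_pos h (by norm_num)

/-- **A singular vector outside `R`.** -/
theorem exists_sing {R H : AddSubgroup leechLattice} (hR : two ≤ R) (hRH : R ≤ H)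
    (hn : 8 * two.relIndex R ≤ two.relIndex H) : ∃ y ∈ H, y ∉ R ∧ (32 : ℤ) ∣ dt y y := by
  obtain ⟨a, haH, haR⟩ : ∃ a ∈ H, a ∉ R := by
    by_contra hcon
    push Not at hcon
    have h1 : H = R := le_antisymm hcon hRH
    rw [h1] at hn
    have := relIndex_pos (H := R)
    omega
  by_cases ha : (32 : ℤ) ∣ dt a a
  · exact ⟨a, haH, haR, ha⟩
  obtain ⟨b, hb, hbR⟩ : ∃ b ∈ H ⊓ evn a, b ∉ adj R hR a := by
    by_contra hcon
    push Not at hcon
    have h1 : H ⊓ evn a ≤ adj R hR a := hcon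
    have h2 := evn_relIndex H (hR.trans hRH) a
    have h3 : two.relIndex (H ⊓ evn a) ≤ two.relIndex (adj R hR a) := by
      refine AddSubgroup.relIndex_le_of_le_right h1 ?_
      exact (relIndex_pos (H := adj R hR a)).ne'
    have h4 := AddSubgroup.relIndex_mul_relIndex two R (adj R hR a) hR le_adj
    have h5 := relIndex_adj R hR a
    have h6 : two.relIndex (adj R hR a) ≤ two.relIndex R * 2 := by
      rw [← h4]; exact Nat.mul_le_mul_left _ h5
    have := relIndex_pos (H := R)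
    omega
  by_cases hb' : (32 : ℤ) ∣ dt b b
  · exact ⟨b, hb.1, fun h => hbR (le_adj h), hb'⟩
  refine ⟨b + a, add_mem hb.1 haH, fun h => hbR (Or.inr ?_), ?_⟩
  · have : b - a = (b + a) - 2 • a := by rw [two_smul]; abel
    rw [this]
    exact sub_mem h (hR ((mem_two _).2 ⟨a, rfl⟩))
  · have h1 : (16 : ℤ) ∣ dt a b := hb.2
    rw [dt_add_left, dt_add_right, dt_add_right, dt_comm b a]
    have h2 := dvd_norm a
    have h3 := dvd_norm b
    omega

theorem exists_min {R H : AddSubgroup leechLattice} (hno : ∀ y ∈ H, dt y y ≠ 64) (hR : two ≤ R) (hRH : R ≤ H)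
    (hn : 8 * two.relIndex R ≤ two.relIndex H) : ∃ y ∈ H, y ∉ R ∧ dt y y = 32 := by
  obtain ⟨y, hy, hyR, h32⟩ := exists_sing hR hRH hn
  obtain ⟨v, x, rfl, h⟩ := exists_rep (fun h => hyR (hR h)) h32
  have h2 : 2 • x ∈ R := hR ((mem_two _).2 ⟨x, rfl⟩)
  have hvH : v ∈ H := by
    have := sub_mem hy (hRH h2)
    rwa [add_sub_cancel_right] at this
  refine ⟨v, hvH, fun hv => hyR (add_mem hv h2), ?_⟩
  rcases h with h | h
  · exact h
  · exact absurd h (hno v hvH)

theorem ip_cases {H : AddSubgroup leechLattice} (hno : ∀ y ∈ H, dt y y ≠ 64) {v w : leechLattice} (hv : v ∈ H)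
    (hw : w ∈ H) (nv : dt v v = 32) (nw : dt w w = 32) (h : (16 : ℤ) ∣ dt v w) (h1 : w ≠ v) (h2 : w ≠ -v) :
    dt v w = 16 ∨ dt v w = -16 := by
  have e1 := le_dt (y := v - w) (fun h => h1 (sub_eq_zero.1 h).symm)
  have e2 := le_dt (y := v + w) (fun h => h2 (eq_neg_of_add_eq_zero_right h))
  have e3 := hno _ (add_mem hv hw)
  rw [dt_sub_left, dt_sub_right, dt_sub_right, dt_comm w v, nv, nw] at e1
  rw [dt_add_left, dt_add_right, dt_add_right, dt_comm w v, nv, nw] at e2 e3
  omega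

/-- **A large subgroup contains a vector of norm 64.** -/
theorem exists_norm64 {H : AddSubgroup leechLattice} (hH : two ≤ H) (hn : 2 ^ 7 ≤ two.relIndex H) :
    ∃ y ∈ H, dt y y = 64 := by
  by_contra hno
  push Not at hno
  have h0 : two.relIndex two = 1 := AddSubgroup.relIndex_self _
  obtain ⟨v₁, h1, h1R, n1⟩ := exists_min hno le_rfl hH (by rw [h0]; omega)
  have le2 : two ≤ evn v₁ := by
    intro x hx
    obtain ⟨z, rfl⟩ := (mem_two x).1 hx
    exact two_smul_mem_evn _ _
  set H₂ := H ⊓ evn v₁ with hH₂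
  set R₂ := adj two le_rfl v₁ with hR₂
  have hH2 : two ≤ H₂ := le_inf hH le2
  have hv1 : v₁ ∈ H₂ := ⟨h1, show (16 : ℤ) ∣ dt v₁ v₁ by rw [n1]; norm_num⟩
  have hRH₂ : R₂ ≤ H₂ := by
    rintro x (hx | hx)
    · exact hH2 hx
    · have := add_mem (hH2 hx) hv1
      rwa [sub_add_cancel] at this
  have c2 : two.relIndex R₂ ≤ 2 := by
    rw [← relIndex_mul_adj two le_rfl v₁, h0, one_mul]
    exact relIndex_adj _ _ _
  have d2 : two.relIndex H ≤ 2 * two.relIndex H₂ := evn_relIndex H hH v₁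
  obtain ⟨v₂, h2, h2R, n2⟩ := exists_min (H := H₂) (R := R₂) (fun y hy => hno y hy.1) le_adj hRH₂ (by omega)
  have le3 : two ≤ evn v₂ := by
    intro x hx
    obtain ⟨z, rfl⟩ := (mem_two x).1 hx
    exact two_smul_mem_evn _ _
  set H₃ := H₂ ⊓ evn v₂ with hH₃
  set R₃ := adj R₂ le_adj v₂ with hR₃
  have hH3 : two ≤ H₃ := le_inf hH2 le3
  have hv2 : v₂ ∈ H₃ := ⟨h2, show (16 : ℤ) ∣ dt v₂ v₂ by rw [n2]; norm_num⟩
  have hv12 : (16 : ℤ) ∣ dt v₁ v₂ := h2.2
  have hv1' : v₁ ∈ H₃ := ⟨hv1, show (16 : ℤ) ∣ dt v₂ v₁ by rw [dt_comm]; exact hv12⟩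
  have hRH₃ : R₃ ≤ H₃ := by
    have key : R₂ ≤ H₃ := by
      rintro x (hx | hx)
      · exact hH3 hx
      · have := add_mem (hH3 hx) hv1'
        rwa [sub_add_cancel] at this
    rintro x (hx | hx)
    · exact key hx
    · have := add_mem (key hx) hv2
      rwa [sub_add_cancel] at this
  have c3 : two.relIndex R₃ ≤ 4 := by
    rw [← relIndex_mul_adj R₂ le_adj v₂]
    exact Nat.mul_le_mul c2 (relIndex_adj _ _ _)
  have d3 : two.relIndex H₂ ≤ 2 * two.relIndex H₃ := evn_relIndex H₂ hH2 v₂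
  obtain ⟨v₃, h3, h3R, n3⟩ := exists_min (H := H₃) (R := R₃) (fun y hy => hno y hy.1.1) (le_adj.trans le_adj)
    hRH₃ (by omega)
  have hv13 : (16 : ℤ) ∣ dt v₁ v₃ := h3.1.2
  have hv23 : (16 : ℤ) ∣ dt v₂ v₃ := h3.2
  have r1 : v₁ ∈ R₃ := le_adj self_mem_adj
  have r2 : v₂ ∈ R₃ := self_mem_adj
  have m12 := ip_cases hno h1 h2.1 n1 n2 hv12 (fun h => h2R (h ▸ self_mem_adj))
    (fun h => h2R (h ▸ neg_mem self_mem_adj))
  have m13 := ip_cases hno h1 h3.1.1 n1 n3 hv13 (fun h => h3R (h ▸ r1)) (fun h => h3R (h ▸ neg_mem r1))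
  have m23 := ip_cases hno h2.1 h3.1.1 n2 n3 hv23 (fun h => h3R (h ▸ r2)) (fun h => h3R (h ▸ neg_mem r2))
  have key : ∀ a b c : leechLattice, a ∈ H → b ∈ H → c ∈ H → dt a a = 32 → dt b b = 32 → dt c c = 32 →
      dt a b = -16 → dt a c = -16 → (dt b c = 16 ∨ dt b c = -16) → a + b + c ≠ 0 → False := by
    intro a b c ha hb hc na nb nc hab hac hbc hne
    have e1 := hno _ (add_mem (add_mem ha hb) hc)
    have e2 := le_dt hne
    have e3 : dt (a + b + c) (a + b + c) = dt a a + dt b b + dt c c + 2 * dt a b + 2 * dt a c + 2 * dt b c := by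
      simp only [dt_add_left, dt_add_right]
      rw [dt_comm b a, dt_comm c a, dt_comm c b]
      ring
    rw [e3] at e1 e2
    omega
  have H1 : v₂ ∈ H := h2.1
  have H3 : v₃ ∈ H := h3.1.1
  rcases m12 with e12 | e12 <;> rcases m13 with e13 | e13
  · refine key v₁ (-v₂) (-v₃) h1 (neg_mem H1) (neg_mem H3) n1 ?_ ?_ ?_ ?_ ?_ ?_
    · rw [dt_neg_left, dt_neg_right, neg_neg, n2]
    · rw [dt_neg_left, dt_neg_right, neg_neg, n3]
    · rw [dt_neg_right, e12]
    · rw [dt_neg_right, e13]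
    · rw [dt_neg_left, dt_neg_right, neg_neg]; exact m23
    · intro h
      apply h3R
      have : v₃ = v₁ + -v₂ := by
        have h' := eq_neg_of_add_eq_zero_left h
        rw [h', neg_neg]
      rw [this]
      exact add_mem r1 (neg_mem r2)
  · refine key v₁ (-v₂) v₃ h1 (neg_mem H1) H3 n1 ?_ n3 ?_ e13 ?_ ?_
    · rw [dt_neg_left, dt_neg_right, neg_neg, n2]
    · rw [dt_neg_right, e12]
    · rw [dt_neg_left]
      rcases m23 with m | m
      · right; rw [m]
      · left; rw [m]; rfl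
    · intro h
      apply h3R
      rw [eq_neg_of_add_eq_zero_right h]
      exact neg_mem (add_mem r1 (neg_mem r2))
  · refine key v₁ v₂ (-v₃) h1 H1 (neg_mem H3) n1 n2 ?_ e12 ?_ ?_ ?_
    · rw [dt_neg_left, dt_neg_right, neg_neg, n3]
    · rw [dt_neg_right, e13]
    · rw [dt_neg_right]
      rcases m23 with m | m
      · right; rw [m]
      · left; rw [m]; rfl
    · intro h
      apply h3R
      have : v₃ = v₁ + v₂ := by
        have h' := eq_neg_of_add_eq_zero_left h
        rw [h', neg_neg]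
      rw [this]
      exact add_mem r1 r2
  · refine key v₁ v₂ v₃ h1 H1 H3 n1 n2 n3 e12 e13 m23 ?_
    intro h
    apply h3R
    rw [eq_neg_of_add_eq_zero_right h]
    exact neg_mem (add_mem r1 r2)

end Cfsg.Agent.OddHalf.NI3.Ex.LatThree
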