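import Cfsg.Agent.OddHalf.NI3.Ex.LatThreeB

/-!
# The fixed points of an element of order 3 of `Co0` on `Λ/2Λ`, III (helper865)

* `card_le` : `g ∈ Co0`, `g³ = 1 ≠ g`: `|C_{Λ/2Λ}(g)| ≤ 2^12`;
* `relIndex_ge` : moreover `g l = l`, `l` minimal: `|[evn l / rad l, g]| ≥ 2^11`.
-/

set_option autoImplicit false

namespace Cfsg.Agent.OddHalf.NI3.Ex.LatThree

open Cfsg Cfsg.Agent Cfsg.Agent.BabyM.CoTwoMod Cfsg.Agent.SporadicStructure.Co2RankThree
open Cfsg.Agent.SporadicA Cfsg.Agent.SporadicA.Co0Mono Cfsg.Agent.SporadicA.Co1Simple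
open Cfsg.Agent.MonsterU.SmallComm (Fx mem_Fx two mem_two index_two two_le index_conj)
open Cfsg.Agent.OddHalf.D4.Spor.LatTwo

local notation "e8" => Cfsg.Agent.SporadicStructure.Co0Base.e8

/-- the fixed vectors of a signed permutation -/
def fixM (σ : Equiv.Perm GolayPt) (s : GolayPt → ℤ) : Submodule ℤ (GolayPt → ℤ) where
  carrier := {x | x ∈ leechLattice ∧ ∀ i, x (σ i) = s i * x i}
  add_mem' := by
    rintro x y ⟨hx, hx'⟩ ⟨hy, hy'⟩
    refine ⟨add_mem hx hy, fun i => ?_⟩
    rw [Pi.add_apply, Pi.add_apply, hx', hy']; ring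
  zero_mem' := ⟨zero_mem _, fun i => by rw [Pi.zero_apply, Pi.zero_apply, mul_zero]⟩
  smul_mem' := by
    rintro k x ⟨hx, hx'⟩
    refine ⟨leechLattice.zsmul_mem hx k, fun i => ?_⟩
    rw [Pi.smul_apply, Pi.smul_apply, hx', smul_eq_mul, smul_eq_mul]; ring

theorem mem_fixM {σ : Equiv.Perm GolayPt} {s : GolayPt → ℤ} {x : GolayPt → ℤ} :
    x ∈ fixM σ s ↔ x ∈ leechLattice ∧ ∀ i, x (σ i) = s i * x i := Iff.rfl

theorem finrank_fixM {σ : Equiv.Perm GolayPt} (hσ : σ ∈ M24) (h3 : σ * σ * σ = 1) (h1 : σ ≠ 1) {s : GolayPt → ℤ}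
    (hs : ∀ i, s i ≠ 0) : Module.finrank ℤ (fixM σ s) ≤ 12 := by
  let ρ : fixM σ s →ₗ[ℤ] (tr σ → ℤ) :=
    { toFun := fun x i => (x : GolayPt → ℤ) i
      map_add' := fun _ _ => rfl
      map_smul' := fun _ _ => rfl }
  have hρ : Function.Injective ρ := by
    rw [injective_iff_map_eq_zero]
    rintro ⟨x, hx, hx'⟩ h
    have h0 : ∀ i ∈ tr σ, x i = 0 := fun i hi => congrFun h ⟨i, hi⟩
    have hz : ∀ i, x (σ i) = 0 → x i = 0 := by
      intro i hi
      rw [hx'] at hi
      exact (mul_eq_zero.1 hi).resolve_left (hs i)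
    apply Subtype.ext
    funext i
    rcases tr_cover h3 i with h4 | h4 | h4
    · exact h0 i h4
    · exact hz i (h0 _ h4)
    · exact hz i (hz _ (h0 _ h4))
  have h4 := LinearMap.finrank_le_finrank_of_injective hρ
  rw [Module.finrank_fintype_fun_eq_card, Fintype.card_coe] at h4
  exact h4.trans (card_tr hσ h3 h1)

/-- The monomial case. -/
theorem card_le_mono {g : Co0} {σ : Equiv.Perm GolayPt} (hσ : σ ∈ M24) (h3 : σ * σ * σ = 1) (h1 : σ ≠ 1)
    {s : GolayPt → ℤ} (hs : ∀ i, s i ≠ 0) (hg3 : g * g * g = 1)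
    (hg : ∀ (v : leechLattice) (i : GolayPt), ((g • v : leechLattice) : GolayPt → ℤ) (σ i) = s i * (v : GolayPt → ℤ) i) :
    two.relIndex (Fx g) ≤ 2 ^ 12 := by
  set K := fixM σ s with hK
  have hKc : Nat.card (K ⧸ (nsmulAddMonoidHom (α := K) 2).range) ≤ 2 ^ 12 := by
    rw [Cfsg.Agent.Leech.ModTwo.card_quot]
    exact Nat.pow_le_pow_right (by norm_num) (finrank_fixM hσ h3 h1 hs)
  let ι : K →+ leechLattice :=
    { toFun := fun x => ⟨x, x.2.1⟩
      map_zero' := rfl
      map_add' := fun _ _ => rfl }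
  let ψ : K →+ leechLattice ⧸ two := (QuotientAddGroup.mk' two).comp ι
  have hker : (nsmulAddMonoidHom (α := K) 2).range ≤ ψ.ker := by
    rintro _ ⟨x, rfl⟩
    rw [AddMonoidHom.mem_ker]
    show (QuotientAddGroup.mk' two) (ι (2 • x)) = 0
    rw [map_nsmul, QuotientAddGroup.mk'_apply, QuotientAddGroup.eq_zero_iff]
    exact (mem_two _).2 ⟨_, rfl⟩
  have hfin : (nsmulAddMonoidHom (α := K) 2).range.index ≠ 0 := by
    show Nat.card (K ⧸ (nsmulAddMonoidHom (α := K) 2).range) ≠ 0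
    rw [Cfsg.Agent.Leech.ModTwo.card_quot]
    positivity
  have h4 : Nat.card ψ.range ≤ 2 ^ 12 := by
    rw [← AddSubgroup.index_ker]
    exact (Nat.le_of_dvd (Nat.pos_of_ne_zero hfin) (AddSubgroup.index_dvd_of_le hker)).trans hKc
  have h5 : two.relIndex (Fx g) = Nat.card ((Fx g).map (QuotientAddGroup.mk' two)) := by
    rw [← AddSubgroup.relIndex_ker, QuotientAddGroup.ker_mk']
  rw [h5]
  have hr0 : two.FiniteIndex := ⟨by rw [index_two]; norm_num⟩
  have hr : Finite (leechLattice ⧸ two) := AddSubgroup.finite_quotient_of_finiteIndex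
  refine (Nat.card_le_card_of_injective (Set.inclusion ?_) (Set.inclusion_injective ?_)).trans h4
  all_goals
    rintro _ ⟨y, hy, rfl⟩
    obtain ⟨w, hw⟩ := (mem_Fx g y).1 hy
    have e1 : g • (y + g • y + (g * g) • y) = y + g • y + (g * g) • y := by
      rw [smul_add', smul_add', ← mul_smul, ← mul_smul, ← mul_assoc, hg3, one_smul]
      abel
    have hmem : ((y + g • y + (g * g) • y : leechLattice) : GolayPt → ℤ) ∈ fixM σ s := by
      refine ⟨(y + g • y + (g * g) • y).2, fun i => ?_⟩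
      have := hg (y + g • y + (g * g) • y) i
      rwa [e1] at this
    refine ⟨⟨_, hmem⟩, ?_⟩
    show (QuotientAddGroup.mk' two) (ι ⟨_, hmem⟩) = (QuotientAddGroup.mk' two) y
    rw [QuotientAddGroup.mk'_apply, QuotientAddGroup.mk'_apply, eq_comm, QuotientAddGroup.eq]
    have e2 : -y + ι ⟨_, hmem⟩ = 2 • (y + w + w + g • w) := by
      have e3 : ι ⟨_, hmem⟩ = y + g • y + (g * g) • y := rfl
      have e4 : g • y = y + 2 • w := by rw [← hw]; abel
      rw [e3, mul_smul, e4, smul_add', smul_two, e4]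
      simp only [two_smul]
      abel
    rw [e2]
    exact (mem_two _).2 ⟨_, rfl⟩

theorem relIndex_conj (g h : Co0) : two.relIndex (Fx (h * g * h⁻¹)) = two.relIndex (Fx g) := by
  have h1 := AddSubgroup.relIndex_mul_index (two_le g)
  have h2 := AddSubgroup.relIndex_mul_index (two_le (h * g * h⁻¹))
  rw [index_conj, ← h1] at h2
  refine Nat.eq_of_mul_eq_mul_right ?_ h2
  rw [index_two] at h1
  apply Nat.pos_of_ne_zero
  intro h3
  rw [h3, mul_zero] at h1
  norm_num at h1

/-- **The fixed points of an element of order 3 on `Λ/2Λ`.** -/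
theorem card_le {g : Co0} (h3 : g * g * g = 1) (h1 : g ≠ 1) : two.relIndex (Fx g) ≤ 2 ^ 12 := by
  by_cases hn : two.relIndex (Fx g) < 2 ^ 7
  · exact hn.le.trans (Nat.pow_le_pow_right (by norm_num) (by norm_num))
  obtain ⟨y, hy, hy64⟩ := exists_norm64 (two_le g) (not_lt.1 hn)
  obtain ⟨k, hk⟩ := Cfsg.Agent.Leech.Trans64.trans64 y (e8 none) (by rw [norm_eq]; exact hy64) (sqNorm_e8 none)
  rw [← relIndex_conj g k]
  set g' := k * g * k⁻¹ with hg'
  have g3 : g' * g' * g' = 1 := by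
    have : g' * g' * g' = k * (g * g * g) * k⁻¹ := by rw [hg']; group
    rw [this, h3, mul_one, mul_inv_cancel]
  have g1 : g' ≠ 1 := by
    intro h
    apply h1
    have : g = k⁻¹ * g' * k := by rw [hg']; group
    rw [this, h, mul_one, inv_mul_cancel]
  obtain ⟨w, hw⟩ := (mem_Fx g y).1 hy
  have hf : g' • e8 none = e8 none + (2 : ℕ) • (k • w) := by
    rw [hg', mul_smul, mul_smul, ← hk, inv_smul_smul, ← smul_two, ← smul_add', ← hw]
    congr 1
    abel
  have hN : g' ∈ N := by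
    apply mem_N_of_e8
    intro i
    obtain ⟨u, hu⟩ := e8_sub i none
    refine mem_crossSet_of_congr _ (k • w + g' • u) none ?_ ?_
    · rw [norm_eq, dt_smul, ← norm_eq]
      exact sqNorm_e8 i
    · rw [hu, smul_add', hf, smul_two, add_assoc, ← _root_.smul_add]
  obtain ⟨c, σ, hcσ⟩ := exists_sign_perm hN
  have hσ3 : σ * σ * σ = 1 := by
    obtain ⟨d, hd⟩ := sign_perm_pow c σ 3
    rw [← hcσ, pow_three', g3] at hd
    have := perm_eq_one hd.symm
    rwa [pow_three'] at this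
  have hσ1 : σ ≠ 1 := by
    intro h
    rw [h, map_one, mul_one] at hcσ
    have h5 : g' * g' = 1 := by rw [hcσ, signCo0_mul_self]
    rw [h5, one_mul] at g3
    exact g1 g3
  refine card_le_mono (σ := σ) σ.2 (congrArg Subtype.val hσ3) (fun h => hσ1 (Subtype.ext h))
    (s := fun i => sgn ((c : GolayPt → ZMod 2) ((σ : Equiv.Perm GolayPt) i))) ?_ g3 ?_
  · intro i
    unfold sgn
    split_ifs <;> norm_num
  · intro v i
    rw [hcσ, mul_smul, signCo0_smul, signMap_apply, permCo0_smul, permMap_apply, Equiv.symm_apply_apply]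

/-- **The commutators of an element of order 3 fixing a minimal vector `l` on `evn l / rad l`.** -/
theorem relIndex_ge {l : leechLattice} (hl : dt l l = 32) {g : Co0} (hgl : g • l = l) (h3 : g * g * g = 1)
    (h1 : g ≠ 1) {F : AddSubgroup leechLattice} (hF : ∀ y ∈ F, y ∈ evn l ∧ g • y - y ∈ rad l) (h2F : two ≤ F) :
    2 ^ 11 ≤ F.relIndex (evn l) := by
  have hle : F ≤ Fx g := by
    intro y hy
    obtain ⟨-, h4⟩ := hF y hy
    obtain ⟨z, hz | hz⟩ := mem_rad.1 h4
    · exact ⟨z, hz⟩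
    · exfalso
      have e1 : (g • y - y) + g • (g • y - y) + (g * g) • (g • y - y) = 0 := by
        simp only [smul_sub', ← mul_smul, ← mul_assoc]
        rw [h3, one_smul]
        abel
      rw [hz, smul_add', smul_add', mul_smul, mul_smul, hgl, hgl] at e1
      apply not_mem_dbl l hl
      rw [mem_dbl]
      refine ⟨-(z + g • z + g • g • z) - l, ?_⟩
      have e2 : l = -(2 • z + g • 2 • z + g • g • 2 • z) - 2 • l := by
        have e3 : 2 • z + l + (g • 2 • z + l) + (g • g • 2 • z + l) =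
          (2 • z + g • 2 • z + g • g • 2 • z) + 2 • l + l := by rw [two_smul ℕ l]; abel
        rw [e3] at e1
        have e4 := eq_neg_of_add_eq_zero_right e1
        rw [neg_add] at e4
        rw [sub_eq_add_neg]
        exact e4
      have e5 : g • g • 2 • z = 2 • (g • g • z) := by rw [smul_two, smul_two]
      rw [smul_two g z] at e2
      have e6 : g • (2 : ℕ) • (g • z) = 2 • (g • g • z) := smul_two _ _
      rw [e6] at e2
      nth_rewrite 1 [e2]
      simp only [two_smul]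
      abel
  have hFe : F ≤ evn l := fun y hy => (hF y hy).1
  have h4 : two.relIndex F ≤ 2 ^ 12 := by
    refine (AddSubgroup.relIndex_le_of_le_right hle ?_).trans (card_le h3 h1)
    exact (relIndex_pos (H := Fx g)).ne'
  have h5 := AddSubgroup.relIndex_mul_relIndex two F (evn l) h2F hFe
  have h6 := AddSubgroup.relIndex_mul_index (h2F.trans hFe)
  rw [index_two] at h6
  have h7 : (evn l).index ≤ 2 := Nat.le_of_dvd (by norm_num) (index_evn l)
  by_contra hcon
  push Not at hcon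
  have h8 : two.relIndex (evn l) ≤ 2 ^ 12 * (2 ^ 11 - 1) := by
    rw [← h5]
    exact Nat.mul_le_mul h4 (by omega)
  have h9 : two.relIndex (evn l) * (evn l).index ≤ 2 ^ 12 * (2 ^ 11 - 1) * 2 := Nat.mul_le_mul h8 h7
  rw [h6] at h9
  norm_num at h9

end Cfsg.Agent.OddHalf.NI3.Ex.LatThree
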