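import Cfsg.Agent.PLocal.SubnormalCore
import Cfsg.Agent.OddHalf.NI.Ex.Descend
import Cfsg.Agent.Co2Type.Quad
import Cfsg.Agent.Lib.SubnormalJoin

/-!
# (EX3): a 3-element of a subnormal `SL₂(3)` which commutes with an involution of the centre of a Sylow 2-subgroup
(helper88)

* `exists_three`: `F` finite, `u` an involution which commutes with `O₂(F)`, `P` subnormal in `F`, `T` a normal 2-subgroup
  of `P` whose centralizer in `P` is `Z(P)`, `y ∈ P` a 3-element which does not commute with `T`: there is a 3-element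
  `w ≠ 1` of `P O₃(F)` which commutes with `u`.
* `exists_V2`: an elementary abelian 2-group with commuting automorphisms.
-/

set_option autoImplicit false
set_option linter.style.haveILetI false

namespace Cfsg.Agent.OddHalf.NI3.Ex.LongFix

open Subgroup Cfsg Cfsg.Agent.Lib.Cores Cfsg.Agent.PLocal

section One

variable {F : Type*} [Group F]

/-- Elements of `O₂` and `O₃` commute. -/
theorem comm_of_cores {a b : F} (ha : a ∈ pCore 2 F) (hb : b ∈ pCore 3 F) : a * b = b * a := by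
  have hn2 : (pCore 2 F).Normal := pCore_normal 2 F
  have hn3 : (pCore 3 F).Normal := pCore_normal 3 F
  have h1 : a * b * a⁻¹ * b⁻¹ ∈ pCore 2 F := by
    have : a * b * a⁻¹ * b⁻¹ = a * (b * a⁻¹ * b⁻¹) := by group
    rw [this]
    exact mul_mem ha (hn2.conj_mem _ (inv_mem ha) b)
  have h2 : a * b * a⁻¹ * b⁻¹ ∈ pCore 3 F := mul_mem (hn3.conj_mem _ hb a) (inv_mem hb)
  obtain ⟨k, hk⟩ := (pCore_isPGroup 2 (G := F)) ⟨_, h1⟩
  obtain ⟨l, hl⟩ := (pCore_isPGroup 3 (G := F)) ⟨_, h2⟩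
  have hk' : (a * b * a⁻¹ * b⁻¹) ^ 2 ^ k = 1 := congrArg Subtype.val hk
  have hl' : (a * b * a⁻¹ * b⁻¹) ^ 3 ^ l = 1 := congrArg Subtype.val hl
  have h3 : orderOf (a * b * a⁻¹ * b⁻¹) = 1 :=
    Nat.eq_one_of_dvd_coprimes (Nat.Coprime.pow k l (by norm_num : Nat.Coprime 2 3))
      (orderOf_dvd_of_pow_eq_one hk') (orderOf_dvd_of_pow_eq_one hl')
  rw [orderOf_eq_one_iff] at h3
  rw [mul_inv_eq_one] at h3
  exact mul_inv_eq_iff_eq_mul.1 h3

theorem exists_three [Finite F] {u : F} (uu : u * u = 1) (hu : ∀ x ∈ pCore 2 F, x * u = u * x)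
    {P : Subgroup F} (hP : P.IsSubnormal) {T : Subgroup F} (hTP : T ≤ P) (hT2 : IsPGroup 2 T)
    (hTn : ∀ p ∈ P, ∀ t ∈ T, p * t * p⁻¹ ∈ T) {y : F} (hy : y ∈ P) (hy3 : ∃ k : ℕ, y ^ 3 ^ k = 1)
    (hyT : ∃ t ∈ T, y * t ≠ t * y)
    (hc : ∀ c ∈ P, (∀ t ∈ T, c * t = t * c) → ∀ p ∈ P, c * p = p * c) :
    ∃ w ∈ P ⊔ pCore 3 F, (∃ k : ℕ, w ^ 3 ^ k = 1) ∧ w ≠ 1 ∧ w * u = u * w := by
  have hn3 : (pCore 3 F).Normal := pCore_normal 3 F
  -- `T ≤ O₂(F)`
  have hT : T ≤ pCore 2 F := by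
    refine SubnormalCore.le_pCore_of_normal_subnormal hTP ⟨fun t ht p => ?_⟩ hP hT2
    exact hTn p p.2 t ht
  -- `N = C(O₂(F))`
  set N : Subgroup F := centralizer (pCore 2 F : Set F) with hN
  have hNn : N.Normal := by
    have : (pCore 2 F).Normal := pCore_normal 2 F
    rw [hN]
    infer_instance
  have huN : u ∈ N := by
    rw [hN, mem_centralizer_iff]
    exact fun x hx => hu x hx
  have hNT : ∀ n ∈ N, n ∈ P → ∀ p ∈ P, n * p = p * n := fun n hn hnP =>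
    hc n hnP fun t ht => (mem_centralizer_iff.1 hn t (hT ht)).symm
  -- `M = N ⟨y⟩`
  set M : Subgroup F := N ⊔ zpowers y with hM
  have hyM : y ∈ M := (le_sup_right : zpowers y ≤ M) (mem_zpowers y)
  have huM : u ∈ M := (le_sup_left : N ≤ M) huN
  have hdec : ∀ m ∈ M, ∃ n ∈ N, ∃ i : ℤ, m = n * y ^ i := by
    intro m hm
    rw [hM, mem_sup_of_normal_left] at hm
    obtain ⟨n, hn, x, hx, rfl⟩ := hm
    obtain ⟨i, rfl⟩ := mem_zpowers_iff.1 hx
    exact ⟨n, hn, i, rfl⟩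
  have hPM : ∀ m ∈ M, m ∈ P → ∀ i : ℤ, m * y ^ i = y ^ i * m := by
    intro m hm hmP i
    obtain ⟨n, hn, j, rfl⟩ := hdec m hm
    have hnP : n ∈ P := by
      have := mul_mem hmP (inv_mem (zpow_mem hy j))
      rwa [mul_inv_cancel_right] at this
    have h1 := hNT n hn hnP (y ^ i) (zpow_mem hy i)
    have h2 : y ^ j * y ^ i = y ^ i * y ^ j := by rw [← zpow_add, ← zpow_add, add_comm]
    rw [mul_assoc, h2, ← mul_assoc, h1, mul_assoc]
  -- `⟨y⟩` is subnormal in `M`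
  have hyp : IsPGroup 3 (zpowers y) := by
    obtain ⟨k, hk⟩ := hy3
    rintro ⟨x, hx⟩
    obtain ⟨i, rfl⟩ := mem_zpowers_iff.1 hx
    refine ⟨k, Subtype.ext ?_⟩
    change (y ^ i) ^ 3 ^ k = 1
    rw [← zpow_natCast, ← zpow_mul, mul_comm, zpow_mul, zpow_natCast, hk, one_zpow]
  have hPMs : (P.subgroupOf M).IsSubnormal := hP.comap M.subtype
  have hys : ((zpowers y).subgroupOf M).IsSubnormal := by
    refine IsSubnormal.step _ (P.subgroupOf M) ?_ hPMs ⟨?_⟩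
    · intro x hx
      exact (zpowers_le.2 hy) hx
    · rintro ⟨⟨x, hxM⟩, hxP⟩ hx ⟨⟨g, hgM⟩, hgP⟩
      obtain ⟨i, hi⟩ := mem_zpowers_iff.1 (show x ∈ zpowers y from hx)
      change g * x * g⁻¹ ∈ zpowers y
      rw [← hi, hPM g hgM hgP i, mul_inv_cancel_right]
      exact zpow_mem (mem_zpowers y) i
  have hyC : (⟨y, hyM⟩ : M) ∈ pCore 3 M := by
    refine SubnormalCore.le_pCore_of_isSubnormal hys ?_ (show y ∈ zpowers y from mem_zpowers y)
    exact hyp.comap_of_injective _ M.subtype_injective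
  have hCn : (pCore 3 M).Normal := pCore_normal 3 M
  -- `n = y⁻¹ u y u⁻¹ ∈ O₃(F)`
  set n : F := y⁻¹ * (u * y * u⁻¹) with hn
  have hnN : n ∈ N := by
    have : n = (y⁻¹ * u * y⁻¹⁻¹) * u⁻¹ := by rw [hn]; group
    rw [this]
    exact mul_mem (hNn.conj_mem _ huN _) (inv_mem huN)
  have hnO : n ∈ pCore 3 F := by
    have h1 : (⟨n, (le_sup_left : N ≤ M) hnN⟩ : M) ∈ pCore 3 M :=
      mul_mem (inv_mem hyC) (hCn.conj_mem _ hyC ⟨u, huM⟩)
    set K : Subgroup F := (pCore 3 M).map M.subtype ⊓ N with hK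
    have h2 : n ∈ K := ⟨⟨_, h1, rfl⟩, hnN⟩
    refine SubnormalCore.le_pCore_of_normal_subnormal (K := N) inf_le_right ⟨?_⟩ (Normal.isSubnormal hNn) ?_ h2
    · rintro ⟨x, hxN⟩ ⟨⟨m, hm, hmx⟩, -⟩ ⟨g, hg⟩
      refine ⟨⟨⟨g, (le_sup_left : N ≤ M) hg⟩ * m * ⟨g, (le_sup_left : N ≤ M) hg⟩⁻¹, hCn.conj_mem _ hm _, ?_⟩,
        hNn.conj_mem _ hxN g⟩
      change g * m * g⁻¹ = g * x * g⁻¹
      rw [show (m : F) = x from hmx]
    · exact ((pCore_isPGroup 3).map _).to_le inf_le_left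
  -- a fixed point in `y O₃(F)`
  set O : Subgroup F := pCore 3 F with hO
  have hOp : IsPGroup 3 O := pCore_isPGroup 3
  haveI : Fact (Nat.Prime 3) := ⟨Nat.prime_three⟩
  have hodd : ¬ 2 ∣ Nat.card O := by
    obtain ⟨k, hk⟩ := IsPGroup.iff_card.1 hOp
    rw [hk]
    intro h
    have := Nat.prime_two.dvd_of_dvd_pow h
    omega
  have hinvol : ∃ o ∈ O, u * (y * o) * u⁻¹ = y * o := by
    classical
    let f : O → O := fun o => ⟨n * (u * o * u⁻¹), mul_mem hnO (hn3.conj_mem _ o.2 u)⟩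
    have hf : ∀ o, f (f o) = o := by
      intro o
      apply Subtype.ext
      change n * (u * (n * (u * o * u⁻¹)) * u⁻¹) = o
      have h1 : u⁻¹ = u := inv_eq_of_mul_eq_one_left uu
      have h2 : n * (u * (n * (u * o * u⁻¹)) * u⁻¹) = (n * (u * n * u⁻¹)) * ((u * u) * o * (u * u)⁻¹) := by group
      have h3 : n * (u * n * u⁻¹) = y⁻¹ * ((u * u) * y * (u * u)⁻¹) := by
        rw [hn]
        have : y⁻¹ * (u * y * u⁻¹) * (u * (y⁻¹ * (u * y * u⁻¹)) * u⁻¹) = y⁻¹ * ((u * u) * y * (u * u)⁻¹) := by group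
        exact this
      rw [h2, h3, uu]
      group
    haveI : Fintype O := Fintype.ofFinite O
    have hinv : Function.Involutive f := hf
    haveI : Fact (Nat.Prime 2) := ⟨Nat.prime_two⟩
    have hσ : (hinv.toPerm f) ^ 2 ^ 1 = 1 := by
      ext o
      rw [pow_one, pow_two]
      change ((f (f o) : O) : F) = o
      rw [hf]
    obtain ⟨o, ho⟩ := Equiv.Perm.exists_fixed_point_of_prime (by rwa [← Nat.card_eq_fintype_card]) hσ
    have ho' : n * (u * o * u⁻¹) = o := congrArg Subtype.val ho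
    refine ⟨o, o.2, ?_⟩
    have h1 : u * (y * (o : F)) * u⁻¹ = y * (n * (u * o * u⁻¹)) := by rw [hn]; group
    rw [h1, ho']
  obtain ⟨o, ho, hfix⟩ := hinvol
  refine ⟨y * o, mul_mem ((le_sup_left : P ≤ _) hy) ((le_sup_right : O ≤ _) ho), ?_, ?_, ?_⟩
  · have h1 : IsPGroup 3 ↥(zpowers y ⊔ O) := hyp.to_sup_of_normal_right hOp
    obtain ⟨k, hk⟩ := h1 ⟨y * o, mul_mem ((le_sup_left : zpowers y ≤ _) (mem_zpowers y))
      ((le_sup_right : O ≤ _) ho)⟩
    exact ⟨k, congrArg Subtype.val hk⟩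
  · intro h
    have h1 : y = o⁻¹ := eq_inv_of_mul_eq_one_left h
    obtain ⟨t, ht, hne⟩ := hyT
    apply hne
    rw [h1]
    exact (comm_of_cores (hT ht) (inv_mem ho)).symm
  · exact (mul_inv_eq_iff_eq_mul.1 hfix).symm

/-- A 2-subgroup of `P O₃(F)` has order at most the 2-part of `|P|`. -/
theorem card_le_of_sup [Finite F] {P E : Subgroup F} (hE : E ≤ P ⊔ pCore 3 F) (h2 : IsPGroup 2 E) {m : ℕ} (hm : Odd m)
    {k : ℕ} (hc : Nat.card P ∣ 2 ^ k * m) : Nat.card E ∣ 2 ^ k := by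
  have hn3 : (pCore 3 F).Normal := pCore_normal 3 F
  haveI : Fact (Nat.Prime 3) := ⟨Nat.prime_three⟩
  haveI : Fact (Nat.Prime 2) := ⟨Nat.prime_two⟩
  obtain ⟨l, hl⟩ := IsPGroup.iff_card.1 (pCore_isPGroup 3 (G := F))
  obtain ⟨n, hn⟩ := IsPGroup.iff_card.1 h2
  have h1 : Nat.card E ∣ Nat.card P * 3 ^ l := by
    refine (card_dvd_of_le hE).trans ?_
    rw [← hl]
    rw [sup_comm, mul_comm]
    exact card_sup_dvd _ _ hn3
  have h3 : 2 ^ n ∣ 2 ^ k * (m * 3 ^ l) := by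
    rw [← hn, ← mul_assoc]
    exact h1.trans (Nat.mul_dvd_mul_right hc _)
  rw [hn]
  refine Nat.Coprime.dvd_of_dvd_mul_right ?_ h3
  apply Nat.Coprime.pow_left
  rw [Nat.coprime_two_left]
  exact hm.mul (by decide : Odd 3).pow

/-- Iterated commutators with an element of a subnormal subgroup. -/
theorem iter_mem {H : Subgroup F} (hH : H.IsSubnormal) {w : F} (hw : w ∈ H) :
    ∃ n : ℕ, ∀ g : F, (fun x => x⁻¹ * (w * x * w⁻¹))^[n] g ∈ H := by
  induction hH with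
  | top => exact ⟨0, fun g => mem_top _⟩
  | step H K hle _ hN ih =>
    obtain ⟨n, hn⟩ := ih (hle hw)
    refine ⟨n + 1, fun g => ?_⟩
    rw [Function.iterate_succ_apply']
    have hk := hn g
    set k := (fun x => x⁻¹ * (w * x * w⁻¹))^[n] g with hkd
    change k⁻¹ * (w * k * w⁻¹) ∈ H
    have h1 := hN.conj_mem ⟨w, hle hw⟩ hw ⟨k⁻¹, inv_mem hk⟩
    have h2 : k⁻¹ * w * k⁻¹⁻¹ ∈ H := h1
    have h3 : k⁻¹ * (w * k * w⁻¹) = (k⁻¹ * w * k⁻¹⁻¹) * w⁻¹ := by group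
    rw [h3]
    exact mul_mem h2 (inv_mem hw)

end One

section Two

variable {V : Type*} [CommGroup V]

/-- the map `v ↦ v⁻¹ ω(v)` -/
def kap (ω : MulAut V) : V →* V where
  toFun v := v⁻¹ * ω v
  map_one' := by simp
  map_mul' a b := by
    rw [map_mul, mul_inv]
    exact mul_mul_mul_comm _ _ _ _

theorem kap_apply (ω : MulAut V) (v : V) : kap ω v = v⁻¹ * ω v := rfl

/-- fixed points in a subgroup -/
def fixIn (β : MulAut V) (S : Subgroup V) : Subgroup V where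
  carrier := {v | v ∈ S ∧ β v = v}
  mul_mem' := fun ha hb => ⟨mul_mem ha.1 hb.1, by rw [map_mul, ha.2, hb.2]⟩
  one_mem' := ⟨one_mem _, map_one _⟩
  inv_mem' := fun ha => ⟨inv_mem ha.1, by rw [map_inv, ha.2]⟩

theorem mem_fixIn {β : MulAut V} {S : Subgroup V} {v : V} : v ∈ fixIn β S ↔ v ∈ S ∧ β v = v := Iff.rfl

/-- An involution fixes at least the square root. -/
theorem card_le_sq [Finite V] (h2 : ∀ v : V, v * v = 1) {β : MulAut V} (hβ : β * β = 1) {S : Subgroup V}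
    (hS : ∀ v ∈ S, β v ∈ S) : Nat.card S ≤ Nat.card (fixIn β S) ^ 2 := by
  have hββ : ∀ v, β (β v) = v := fun v => by rw [← MulAut.mul_apply, hβ, MulAut.one_apply]
  have hinv : ∀ v : V, v⁻¹ = v := fun v => inv_eq_of_mul_eq_one_left (h2 v)
  let f : S →* fixIn β S :=
    { toFun := fun v => ⟨kap β v, mul_mem (inv_mem v.2) (hS v v.2), by
        rw [kap_apply, map_mul, map_inv, hββ, mul_comm, hinv, hinv]⟩
      map_one' := Subtype.ext (map_one _)
      map_mul' := fun a b => Subtype.ext (map_mul _ _ _) }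
  have h3 := card_eq_card_quotient_mul_card_subgroup f.ker
  have h4 : Nat.card (S ⧸ f.ker) ≤ Nat.card (fixIn β S) := by
    rw [Nat.card_congr (QuotientGroup.quotientKerEquivRange f).toEquiv]
    exact Nat.card_le_card_of_injective _ (Subtype.val_injective)
  have h5 : Nat.card f.ker ≤ Nat.card (fixIn β S) := by
    refine Nat.card_le_card_of_injective (fun v => (⟨v, v.1.2, ?_⟩ : fixIn β S)) ?_
    · have h6 : kap β (v : S) = 1 := congrArg Subtype.val (MonoidHom.mem_ker.1 v.2)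
      rw [kap_apply, inv_mul_eq_one] at h6
      exact h6.symm
    · intro a b h
      have h6 : ((a : S) : V) = ((b : S) : V) := congrArg (fun x : fixIn β S => (x : V)) h
      exact Subtype.ext (Subtype.ext h6)
  rw [h3, pow_two]
  exact Nat.mul_le_mul h4 h5

/-- `κ` is injective on its range. -/
theorem eq_one_of_fix (h2 : ∀ v : V, v * v = 1) {ω : MulAut V} {k : ℕ} (hω : ω ^ 3 ^ k = 1) {v : V}
    (hv : v ∈ (kap ω).range) (hf : ω v = v) : v = 1 := by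
  obtain ⟨q, rfl⟩ := hv
  set v := kap ω q with hvd
  have h1 : ω q = q * v := by rw [hvd, kap_apply, mul_inv_cancel_left]
  have h3 : ∀ n : ℕ, (ω ^ n) q = q * v ^ n := by
    intro n
    induction n with
    | zero => simp
    | succ n ih =>
      rw [pow_succ', MulAut.mul_apply, ih, map_mul, map_pow, hf, h1, pow_succ']
      exact mul_assoc _ _ _
  have h4 := h3 (3 ^ k)
  rw [hω, MulAut.one_apply] at h4
  have h5 : v ^ 3 ^ k = 1 := mul_left_cancel (a := q) (by rw [← h4, mul_one])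
  have h6 : v ^ 2 = 1 := by rw [pow_two]; exact h2 v
  have h7 : orderOf v = 1 :=
    Nat.eq_one_of_dvd_coprimes (Nat.Coprime.pow_right k (by norm_num : Nat.Coprime 2 3))
      (orderOf_dvd_of_pow_eq_one h6) (orderOf_dvd_of_pow_eq_one h5)
  exact orderOf_eq_one_iff.1 h7

/-- the number of elements of an invariant subgroup of the range is `1` modulo `3` -/
theorem card_mod_three [Finite V] (h2 : ∀ v : V, v * v = 1) {ω : MulAut V} {k : ℕ} (hω : ω ^ 3 ^ k = 1) {S : Subgroup V}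
    (hS : S ≤ (kap ω).range) (hSi : ∀ v ∈ S, ω v ∈ S) : Nat.card S % 3 = 1 := by
  classical
  haveI : Fact (Nat.Prime 3) := ⟨Nat.prime_three⟩
  haveI : Fintype S := Fintype.ofFinite S
  let f : Function.End S := fun v => ⟨ω v, hSi v v.2⟩
  have hfn : ∀ (n : ℕ) (v : S), (((f ^ n) v : S) : V) = (ω ^ n) v := by
    intro n
    induction n with
    | zero => intro v; rfl
    | succ n ih =>
      intro v
      rw [pow_succ', pow_succ', MulAut.mul_apply, ← ih]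
      rfl
  have hf : f ^ 3 ^ k = 1 := by
    funext v
    apply Subtype.ext
    rw [hfn, hω]
    rfl
  have h3 := Equiv.Perm.card_fixedPoints_modEq hf
  have h4 : Fintype.card (Function.fixedPoints f) = 1 := by
    rw [Fintype.card_eq_one_iff]
    refine ⟨⟨1, Subtype.ext (map_one ω)⟩, ?_⟩
    rintro ⟨v, hv⟩
    apply Subtype.ext
    apply Subtype.ext
    have hv' : ω (v : V) = v := congrArg Subtype.val hv
    exact eq_one_of_fix h2 hω (hS v.2) hv'
  rw [h4] at h3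
  rw [Nat.card_eq_fintype_card]
  exact h3

theorem exists_V2 [Finite V] (h2 : ∀ v : V, v * v = 1) {ω β₁ β₂ : MulAut V} (h12 : β₁ * β₂ = β₂ * β₁)
    (h1 : ω * β₁ = β₁ * ω) (h2' : ω * β₂ = β₂ * ω) (b1 : β₁ * β₁ = 1) (b2 : β₂ * β₂ = 1) {k : ℕ}
    (hω : ω ^ 3 ^ k = 1) (hc : 2 ^ 10 ≤ Nat.card (kap ω).range) :
    ∃ S : Subgroup V, 16 ≤ Nat.card S ∧ (∀ v ∈ S, β₁ v = v ∧ β₂ v = v) ∧ ∀ v ∈ S, ∃ v' ∈ S, v'⁻¹ * ω v' = v := by
  have c12 : ∀ v, β₁ (β₂ v) = β₂ (β₁ v) := fun v => congrArg (fun a : MulAut V => a v) h12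
  have c1 : ∀ v, ω (β₁ v) = β₁ (ω v) := fun v => congrArg (fun a : MulAut V => a v) h1
  have c2 : ∀ v, ω (β₂ v) = β₂ (ω v) := fun v => congrArg (fun a : MulAut V => a v) h2'
  have hr : ∀ {β : MulAut V}, (∀ v, ω (β v) = β (ω v)) → ∀ v ∈ (kap ω).range, β v ∈ (kap ω).range := by
    rintro β hβ _ ⟨q, rfl⟩
    exact ⟨β q, by rw [kap_apply, kap_apply, map_mul, map_inv, hβ]⟩
  set S1 := fixIn β₁ (kap ω).range with hS1
  set S2 := fixIn β₂ S1 with hS2
  have e1 := card_le_sq h2 b1 (hr c1)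
  have e2 := card_le_sq h2 b2 (S := S1) (by
    rintro v ⟨hv, hv1⟩
    exact ⟨hr c2 v hv, by rw [c12, hv1]⟩)
  rw [← hS1] at e1
  rw [← hS2] at e2
  have hle : S2 ≤ (kap ω).range := fun v hv => hv.1.1
  have hi : ∀ v ∈ S2, ω v ∈ S2 := by
    rintro v ⟨⟨⟨q, hq⟩, hv1⟩, hv2⟩
    refine ⟨⟨⟨ω q, ?_⟩, ?_⟩, ?_⟩
    · rw [kap_apply, ← hq, kap_apply, map_mul, map_inv]
    · rw [← c1, hv1]
    · rw [← c2, hv2]
  have hm := card_mod_three h2 hω hle hi
  have hp : IsPGroup 2 S2 := fun v => ⟨1, Subtype.ext (by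
    change (v : V) ^ 2 ^ 1 = 1
    rw [pow_one, pow_two, h2])⟩
  haveI : Fact (Nat.Prime 2) := ⟨Nat.prime_two⟩
  obtain ⟨m, hm2⟩ := IsPGroup.iff_card.1 hp
  refine ⟨S2, ?_, fun v hv => ⟨hv.1.2, hv.2⟩, ?_⟩
  · have h3 : 2 ^ 10 ≤ (Nat.card S2 ^ 2) ^ 2 := hc.trans (e1.trans (Nat.pow_le_pow_left e2 2))
    rw [hm2] at h3 hm ⊢
    by_contra hcon
    have hm4 : m < 4 := by
      by_contra h
      exact hcon (by
        calc 16 = 2 ^ 4 := by norm_num
          _ ≤ 2 ^ m := Nat.pow_le_pow_right (by norm_num) (by omega))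
    interval_cases m <;> simp_all
  · let f : S2 →* S2 :=
      { toFun := fun v => ⟨kap ω v, mul_mem (inv_mem v.2) (hi v v.2)⟩
        map_one' := Subtype.ext (map_one _)
        map_mul' := fun a b => Subtype.ext (map_mul _ _ _) }
    have hf : Function.Injective f := by
      rw [injective_iff_map_eq_one]
      intro v hv
      have h3 : kap ω (v : V) = 1 := congrArg Subtype.val hv
      rw [kap_apply, inv_mul_eq_one] at h3
      exact Subtype.ext (eq_one_of_fix h2 hω (hle v.2) h3.symm)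
    have hs := Finite.surjective_of_injective hf
    intro v hv
    obtain ⟨v', hv'⟩ := hs ⟨v, hv⟩
    exact ⟨v', v'.2, congrArg Subtype.val hv'⟩

end Two

section Three

open Cfsg.Agent.OddHalf.NI.Ex Cfsg.Agent.Co2Type.Quad

/-- the automorphism of an invariant subgroup -/
def restr {X : Type*} [Group X] (Q : Subgroup X) (β : MulAut X) (h : ∀ q ∈ Q, β q ∈ Q) (h' : ∀ q ∈ Q, β⁻¹ q ∈ Q) :
    MulAut Q where
  toFun q := ⟨β q, h q q.2⟩
  invFun q := ⟨β⁻¹ q, h' q q.2⟩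
  left_inv q := Subtype.ext (β.symm_apply_apply q)
  right_inv q := Subtype.ext (β.apply_symm_apply q)
  map_mul' a b := Subtype.ext (map_mul β _ _)

variable {X : Type*} [Group X]

theorem restr_apply {Q : Subgroup X} {β : MulAut X} {h : ∀ q ∈ Q, β q ∈ Q} {h' : ∀ q ∈ Q, β⁻¹ q ∈ Q} (q : Q) :
    ((restr Q β h h' q : Q) : X) = β q := rfl

theorem comm_bar {Q : Subgroup X} {β γ : MulAut X} (hc : ∀ x, β (γ x) = γ (β x)) {h1 : ∀ q ∈ Q, β q ∈ Q}
    {h1' : ∀ q ∈ Q, β⁻¹ q ∈ Q} {h2 : ∀ q ∈ Q, γ q ∈ Q} {h2' : ∀ q ∈ Q, γ⁻¹ q ∈ Q} :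
    bar (restr Q β h1 h1') * bar (restr Q γ h2 h2') = bar (restr Q γ h2 h2') * bar (restr Q β h1 h1') := by
  rw [← bar_mul, ← bar_mul]
  congr 1
  ext q
  exact hc q

/-- The quotient of a large extraspecial group by its centre is abelian. -/
theorem quo_comm {Q : Subgroup X} {z : X} (hL : Large Q z) (a' b' : ↥Q ⧸ center ↥Q) : a' * b' = b' * a' := by
  obtain ⟨a, rfl⟩ := QuotientGroup.mk_surjective a'
  obtain ⟨b, rfl⟩ := QuotientGroup.mk_surjective b'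
  rw [← QuotientGroup.mk_mul, ← QuotientGroup.mk_mul, QuotientGroup.eq, hL.mem_center]
  rcases hL.comm a a.2 b b.2 with h | h
  · left
    change ((a : X) * b)⁻¹ * (b * a) = 1
    rw [h, inv_mul_cancel]
  · right
    change ((a : X) * b)⁻¹ * (b * a) = z
    have h1 : (b : X) * a * z = z * (b * a) := hL.comm_z _ (mul_mem b.2 a.2)
    rw [h, mul_inv_rev, hL.z_inv, mul_assoc, inv_mul_cancel, mul_one]

theorem quo_sq {Q : Subgroup X} {z : X} (hL : Large Q z) (a : ↥Q ⧸ center ↥Q) : a * a = 1 := by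
  obtain ⟨a, rfl⟩ := QuotientGroup.mk_surjective a
  rw [← QuotientGroup.mk_mul, QuotientGroup.eq_one_iff, hL.mem_center]
  exact hL.sq a a.2

/-- Lifting: a fixed element `v = v'⁻¹ ω(v')` of `Q / ⟨z⟩` has a fixed lift. -/
theorem lift_fix {Q : Subgroup X} {z : X} (hL : Large Q z) {β : MulAut X} {h1 : ∀ q ∈ Q, β q ∈ Q}
    {h1' : ∀ q ∈ Q, β⁻¹ q ∈ Q} {w : X} (wz : w * z = z * w) (βw : β w = w) {x : Q}
    (hx : bar (restr Q β h1 h1') (x : ↥Q ⧸ center ↥Q) = x) :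
    β ((x : X)⁻¹ * (w * x * w⁻¹)) = (x : X)⁻¹ * (w * x * w⁻¹) := by
  rw [bar_mk, eq_comm, QuotientGroup.eq, hL.mem_center] at hx
  have hx' : (x : X)⁻¹ * β x = 1 ∨ (x : X)⁻¹ * β x = z := hx
  rw [map_mul, map_inv, map_mul, map_mul, map_inv, βw]
  rcases hx' with h | h
  · rw [inv_mul_eq_one] at h
    rw [← h]
  · have h2 : β x = x * z := by rw [← h, mul_inv_cancel_left]
    have h3 : w * (x * z) * w⁻¹ = (w * x * w⁻¹) * z := by
      have : z * w⁻¹ = w⁻¹ * z := by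
        rw [eq_inv_mul_iff_mul_eq, ← mul_assoc, wz, mul_inv_cancel_right]
      rw [mul_assoc, mul_assoc (x : X) z, this]
      group
    have h4 : z * (x : X)⁻¹ = (x : X)⁻¹ * z := (hL.comm_z _ (inv_mem x.2)).symm
    rw [h2, h3, mul_inv_rev, hL.z_inv, h4]
    have hzz := hL.z_sq
    have h5 : (x : X)⁻¹ * z * (w * x * w⁻¹ * z) = (x : X)⁻¹ * (z * (w * x * w⁻¹) * z) := by group
    have h6 : w * x * w⁻¹ * z = z * (w * x * w⁻¹) := by
      have h7 : w * x * w⁻¹ ∈ Q := hL.conj_mem w wz x x.2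
      exact hL.comm_z _ h7
    rw [h5, mul_assoc z, h6, ← mul_assoc z z, hzz, one_mul]

/-- the condition on the elements of order 3 -/
def Big (Q : Subgroup X) (z w : X) : Prop :=
  ∃ A : Subgroup X, A ≤ Q ∧ z ∈ A ∧ 2 ^ 11 ≤ Nat.card A ∧
    ∀ a ∈ A, ∃ q ∈ Q, a = q⁻¹ * (w * q * w⁻¹) ∨ a = q⁻¹ * (w * q * w⁻¹) * z

theorem main [Finite X] {Q : Subgroup X} {z : X} (hL : Large Q z)
    (hQ : ∀ β : MulAut X, β z = z → ∀ q ∈ Q, β q ∈ Q)
    (hbig : ∀ w : X, w * z = z * w → (∃ k : ℕ, w ^ 3 ^ k = 1) → w ≠ 1 → Big Q z w)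
    {α : MulAut X} (hα : α * α = 1) (αz : α z = z) {j : X} (jj : j * j = 1) (αj : α j = j) (jz : j * z = z * j)
    {F : Subgroup X} (hF : ∀ x, x ∈ F ↔ α x = x ∧ x * j = j * x) (hz : ∀ x ∈ (pCore 2 ↥F), (x : X) * z = z * x)
    {P : Subgroup ↥F} (hP : P.IsSubnormal) {T : Subgroup ↥F} (hTP : T ≤ P) (hT2 : IsPGroup 2 T)
    (hTn : ∀ p ∈ P, ∀ t ∈ T, p * t * p⁻¹ ∈ T) {y : ↥F} (hy : y ∈ P)
    (hy3 : ∃ k : ℕ, y ^ 3 ^ k = 1) (hyT : ∃ t ∈ T, y * t ≠ t * y)
    (hc : ∀ c ∈ P, (∀ t ∈ T, c * t = t * c) → ∀ p ∈ P, c * p = p * c) {m : ℕ} (hm : Odd m)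
    (hcard : Nat.card P ∣ 2 ^ 3 * m) : False := by
  have hzF : z ∈ F := (hF z).2 ⟨αz, jz.symm⟩
  obtain ⟨w, hw, ⟨k, hk⟩, hw1, hwu⟩ := exists_three (u := (⟨z, hzF⟩ : F)) (Subtype.ext hL.z_sq)
    (fun x hx => Subtype.ext (hz x hx)) hP hTP hT2 hTn hy hy3 hyT hc
  have wz : (w : X) * z = z * w := congrArg Subtype.val hwu
  have αw : α (w : X) = w := ((hF _).1 w.2).1
  have wj : (w : X) * j = j * w := ((hF _).1 w.2).2
  have hk' : (w : X) ^ 3 ^ k = 1 := congrArg Subtype.val hk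
  have hw1' : (w : X) ≠ 1 := fun h => hw1 (Subtype.ext h)
  obtain ⟨A, hAQ, hzA, hAc, hA⟩ := hbig w wz ⟨k, hk'⟩ hw1'
  let ω' : MulAut X := MulAut.conj (w : X)
  let β' : MulAut X := MulAut.conj j
  have ωz : ω' z = z := by
    change (w : X) * z * (w : X)⁻¹ = z
    rw [wz, mul_inv_cancel_right]
  have βz : β' z = z := by
    change j * z * j⁻¹ = z
    rw [jz, mul_inv_cancel_right]
  have hi : ∀ {γ : MulAut X}, γ z = z → ∀ q ∈ Q, γ⁻¹ q ∈ Q := fun {γ} h => hQ γ⁻¹ (by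
    have := congrArg (γ⁻¹ : MulAut X) h
    rw [← MulAut.mul_apply, inv_mul_cancel, MulAut.one_apply] at this
    exact this.symm)
  let ω := bar (restr Q ω' (hQ _ ωz) (hi ωz))
  let β₁ := bar (restr Q α (hQ _ αz) (hi αz))
  let β₂ := bar (restr Q β' (hQ _ βz) (hi βz))
  letI : CommGroup (↥Q ⧸ center ↥Q) :=
    { (inferInstance : Group (↥Q ⧸ center ↥Q)) with mul_comm := quo_comm hL }
  have hω : ω ^ 3 ^ k = 1 := by
    have hpow : ∀ (n : ℕ) (q : Q), ∃ h : (w : X) ^ n * q * ((w : X) ^ n)⁻¹ ∈ Q,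
        (ω ^ n) (q : ↥Q ⧸ center ↥Q) = ((⟨_, h⟩ : Q) : ↥Q ⧸ center ↥Q) := by
      intro n
      induction n with
      | zero =>
        intro q
        have h0 : (w : X) ^ 0 * q * ((w : X) ^ 0)⁻¹ = q := by simp
        refine ⟨by rw [h0]; exact q.2, ?_⟩
        rw [pow_zero, MulAut.one_apply]
        congr 1
        exact Subtype.ext h0.symm
      | succ n ih =>
        intro q
        obtain ⟨h, e⟩ := ih q
        have h1 : (w : X) ^ (n + 1) * q * ((w : X) ^ (n + 1))⁻¹ =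
            w * ((w : X) ^ n * q * ((w : X) ^ n)⁻¹) * (w : X)⁻¹ := by
          rw [pow_succ', mul_inv_rev]; group
        refine ⟨by rw [h1]; exact hL.conj_mem _ wz _ h, ?_⟩
        rw [pow_succ', MulAut.mul_apply, e]
        change ((restr Q ω' _ _ _ : Q) : ↥Q ⧸ center ↥Q) = _
        congr 1
        exact Subtype.ext h1.symm
    ext v
    obtain ⟨q, rfl⟩ := QuotientGroup.mk_surjective v
    obtain ⟨h, e⟩ := hpow (3 ^ k) q
    rw [MulAut.one_apply]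
    refine e.trans ?_
    congr 1
    apply Subtype.ext
    change (w : X) ^ 3 ^ k * q * ((w : X) ^ 3 ^ k)⁻¹ = q
    rw [hk', one_mul, inv_one, mul_one]
  have hrange : 2 ^ 10 ≤ Nat.card (kap ω).range := by
    let f : ↥(A.subgroupOf Q) →* ↥Q ⧸ center ↥Q := (QuotientGroup.mk' (center ↥Q)).comp (A.subgroupOf Q).subtype
    have h3 := card_eq_card_quotient_mul_card_subgroup f.ker
    rw [Nat.card_congr (QuotientGroup.quotientKerEquivRange f).toEquiv,
      Nat.card_congr (subgroupOfEquivOfLe hAQ).toEquiv] at h3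
    have h4 : Nat.card f.range ≤ Nat.card (kap ω).range := by
      refine card_le_of_le ?_
      rintro _ ⟨a, rfl⟩
      obtain ⟨q, hq, h⟩ := hA a.1 a.2
      refine ⟨((⟨q, hq⟩ : Q) : ↥Q ⧸ center ↥Q), ?_⟩
      rw [kap_apply]
      have h5 : ω ((⟨q, hq⟩ : Q) : ↥Q ⧸ center ↥Q) =
          ((⟨(w : X) * q * (w : X)⁻¹, hL.conj_mem _ wz _ hq⟩ : Q) : ↥Q ⧸ center ↥Q) := rfl
      rw [h5]
      change (((⟨q, hq⟩ : Q)⁻¹ * ⟨(w : X) * q * (w : X)⁻¹, hL.conj_mem _ wz _ hq⟩ : Q) : ↥Q ⧸ center ↥Q) =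
        ((a : Q) : ↥Q ⧸ center ↥Q)
      rw [QuotientGroup.eq, hL.mem_center]
      change (q⁻¹ * ((w : X) * q * (w : X)⁻¹))⁻¹ * a = 1 ∨ (q⁻¹ * ((w : X) * q * (w : X)⁻¹))⁻¹ * a = z
      rcases h with h | h
      · left; rw [h, inv_mul_cancel]
      · right; rw [h, inv_mul_cancel_left]
    have h5 : Nat.card f.ker ≤ 2 := by
      classical
      have h6 : ∀ a : f.ker, (((a : A.subgroupOf Q) : Q) : X) = 1 ∨ (((a : A.subgroupOf Q) : Q) : X) = z := by
        intro a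
        have h7 : (((a : A.subgroupOf Q) : Q) : ↥Q ⧸ center ↥Q) = 1 := MonoidHom.mem_ker.1 a.2
        rw [QuotientGroup.eq_one_iff, hL.mem_center] at h7
        exact h7
      have h8 : Nat.card f.ker ≤ Nat.card (({1, z} : Finset X) : Type _) := by
        refine Nat.card_le_card_of_injective (fun a => (⟨(((a : A.subgroupOf Q) : Q) : X), by
          rw [Finset.mem_insert, Finset.mem_singleton]; exact h6 a⟩ : (({1, z} : Finset X) : Type _))) ?_
        intro a b h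
        have h9 : (((a : A.subgroupOf Q) : Q) : X) = (((b : A.subgroupOf Q) : Q) : X) :=
          congrArg (fun x : (({1, z} : Finset X) : Type _) => (x : X)) h
        exact Subtype.ext (Subtype.ext (Subtype.ext h9))
      refine h8.trans ?_
      rw [Nat.card_eq_fintype_card, Fintype.card_coe]
      exact Finset.card_le_two
    have h6 : Nat.card f.range * Nat.card f.ker ≤ Nat.card (kap ω).range * 2 := Nat.mul_le_mul h4 h5
    rw [← h3] at h6
    have h7 : (2 : ℕ) ^ 11 = 2 ^ 10 * 2 := by norm_num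
    omega
  have cc : ∀ x, α (j * x * j⁻¹) = j * α x * j⁻¹ := fun x => by rw [map_mul, map_mul, map_inv, αj]
  have cw : ∀ x, α ((w : X) * x * (w : X)⁻¹) = (w : X) * α x * (w : X)⁻¹ := fun x => by
    rw [map_mul, map_mul, map_inv, αw]
  obtain ⟨S, hS16, hSf, hSk⟩ := exists_V2 (quo_sq hL) (ω := ω) (β₁ := β₁) (β₂ := β₂) (comm_bar cc)
    (comm_bar fun x => (cw x).symm) (comm_bar fun x => by
      change (w : X) * (j * x * j⁻¹) * (w : X)⁻¹ = j * ((w : X) * x * (w : X)⁻¹) * j⁻¹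
      have h1 : (w : X) * (j * x * j⁻¹) * (w : X)⁻¹ = ((w : X) * j) * x * ((w : X) * j)⁻¹ := by group
      rw [h1, wj]; group)
    (by
      rw [← bar_mul, ← bar_one]
      congr 1
      ext q
      change α (α q) = q
      rw [← MulAut.mul_apply, hα, MulAut.one_apply])
    (by
      rw [← bar_mul, ← bar_one]
      congr 1
      ext q
      change j * (j * q * j⁻¹) * j⁻¹ = q
      have h1 : j * (j * (q : X) * j⁻¹) * j⁻¹ = (j * j) * q * (j * j)⁻¹ := by group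
      rw [h1, jj]; group)
    hω hrange
  -- iterated images
  let κ : ↥F → ↥F := fun x => x⁻¹ * (w * x * w⁻¹)
  let κV : ↥Q ⧸ center ↥Q → ↥Q ⧸ center ↥Q := fun v => v⁻¹ * ω v
  have hn3 : (pCore 3 ↥F).Normal := pCore_normal 3 ↥F
  obtain ⟨n, hn⟩ := iter_mem (Lib.SubnormalJoin.isSubnormal_sup hP (Normal.isSubnormal hn3)) hw
  have hit : ∀ n : ℕ, ∀ v ∈ S, ∃ v' ∈ S, κV^[n] v' = v := by
    intro n
    induction n with
    | zero => exact fun v hv => ⟨v, hv, rfl⟩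
    | succ n ih =>
      intro v hv
      obtain ⟨v1, h1, e1⟩ := ih v hv
      obtain ⟨v2, h2, e2⟩ := hSk v1 h1
      refine ⟨v2, h2, ?_⟩
      rw [Function.iterate_succ_apply]
      change κV^[n] (v2⁻¹ * ω v2) = v
      rw [e2, e1]
  have hlift : ∀ v ∈ S, ∃ x : ↥F, ∃ hx : (x : X) ∈ Q, (((⟨x, hx⟩ : Q)) : ↥Q ⧸ center ↥Q) = v := by
    intro v hv
    obtain ⟨v', hv', e⟩ := hSk v hv
    obtain ⟨x', rfl⟩ := QuotientGroup.mk_surjective v'
    have hQx : (x' : X)⁻¹ * ((w : X) * x' * (w : X)⁻¹) ∈ Q := mul_mem (inv_mem x'.2) (hL.conj_mem _ wz _ x'.2)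
    have hα1 : α ((x' : X)⁻¹ * ((w : X) * x' * (w : X)⁻¹)) = (x' : X)⁻¹ * ((w : X) * x' * (w : X)⁻¹) :=
      lift_fix hL wz αw (hSf _ hv').1
    have hj1 : β' ((x' : X)⁻¹ * ((w : X) * x' * (w : X)⁻¹)) = (x' : X)⁻¹ * ((w : X) * x' * (w : X)⁻¹) := by
      refine lift_fix hL wz ?_ (hSf _ hv').2
      change j * (w : X) * j⁻¹ = w
      rw [← wj, mul_inv_cancel_right]
    refine ⟨⟨(x' : X)⁻¹ * ((w : X) * x' * (w : X)⁻¹), (hF _).2 ⟨hα1, (mul_inv_eq_iff_eq_mul.1 hj1).symm⟩⟩,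
      hQx, ?_⟩
    rw [← e]
    rfl
  have hitF : ∀ n : ℕ, ∀ x : ↥F, ∀ hx : (x : X) ∈ Q, ∃ hx' : ((κ^[n] x : ↥F) : X) ∈ Q,
      (((⟨_, hx'⟩ : Q)) : ↥Q ⧸ center ↥Q) = κV^[n] (((⟨x, hx⟩ : Q)) : ↥Q ⧸ center ↥Q) := by
    intro n
    induction n with
    | zero => exact fun x hx => ⟨hx, rfl⟩
    | succ n ih =>
      intro x hx
      obtain ⟨h1, e1⟩ := ih x hx
      have hval : ((κ^[n + 1] x : ↥F) : X) = ((κ^[n] x : ↥F) : X)⁻¹ * ((w : X) * ((κ^[n] x : ↥F) : X) * (w : X)⁻¹) := by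
        rw [Function.iterate_succ_apply']
        rfl
      have hQx : ((κ^[n + 1] x : ↥F) : X) ∈ Q := by
        rw [hval]
        exact mul_mem (inv_mem h1) (hL.conj_mem _ wz _ h1)
      refine ⟨hQx, ?_⟩
      have e3 := Function.iterate_succ_apply' κV n (((⟨x, hx⟩ : Q)) : ↥Q ⧸ center ↥Q)
      rw [e3, ← e1]
      change _ = ((⟨_, h1⟩ : Q) : ↥Q ⧸ center ↥Q)⁻¹ * ω ((⟨_, h1⟩ : Q) : ↥Q ⧸ center ↥Q)
      have h5 : ω ((⟨_, h1⟩ : Q) : ↥Q ⧸ center ↥Q) =
          ((⟨(w : X) * ((κ^[n] x : ↥F) : X) * (w : X)⁻¹, hL.conj_mem _ wz _ h1⟩ : Q) : ↥Q ⧸ center ↥Q) := rfl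
      rw [h5, ← QuotientGroup.mk_inv, ← QuotientGroup.mk_mul]
      congr 1
      exact Subtype.ext hval
  -- the intersection with `Q`
  set E : Subgroup ↥F := Q.subgroupOf F ⊓ (P ⊔ pCore 3 ↥F) with hE
  have hE2 : IsPGroup 2 E := by
    have h0 : IsPGroup 2 Q := by
      intro q
      refine ⟨2, Subtype.ext ?_⟩
      change (q : X) ^ 2 ^ 2 = 1
      have h4 : (q : X) ^ 2 ^ 2 = ((q : X) * q) * ((q : X) * q) := by
        rw [show (2 : ℕ) ^ 2 = 2 + 2 from rfl, pow_add, pow_two]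
      rw [h4]
      rcases hL.sq q q.2 with h | h
      · rw [h, one_mul]
      · rw [h, hL.z_sq]
    have h1 : IsPGroup 2 (Q.subgroupOf F) := h0.comap_of_injective _ F.subtype_injective
    exact h1.to_le inf_le_left
  have hE8 : Nat.card E ∣ 2 ^ 3 := card_le_of_sup inf_le_right hE2 hm hcard
  have hE8' : Nat.card E ≤ 8 := Nat.le_of_dvd (by norm_num) hE8
  have hex : ∀ v : S, ∃ e : E, ∃ hx : (((e : ↥F)) : X) ∈ Q, (((⟨_, hx⟩ : Q)) : ↥Q ⧸ center ↥Q) = v := by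
    intro v
    obtain ⟨v', hv', e⟩ := hit n v v.2
    obtain ⟨x, hx, ex⟩ := hlift v' hv'
    obtain ⟨h1, e1⟩ := hitF n x hx
    refine ⟨⟨κ^[n] x, h1, hn x⟩, h1, ?_⟩
    rw [e1, ex, e]
  choose g hg hgv using hex
  have hinj : Function.Injective g := by
    intro v v' h
    apply Subtype.ext
    rw [← hgv v, ← hgv v']
    congr 1
    apply Subtype.ext
    exact congrArg (fun e : E => ((e : ↥F) : X)) h
  have hSE := Nat.card_le_card_of_injective g hinj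
  omega

end Three

end Cfsg.Agent.OddHalf.NI3.Ex.LongFix
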