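import Cfsg.Agent.StdO8.EvenLin
import Cfsg.Agent.StdO8.Frame

/-!
# Centralizers of the outer involutions of `Ω₈⁺(2)` (helper88)

`C0`: the common centralizer in `Om` of the reflection `sw` and the root element `xb 0 1`.

* `card_C0`: `2 ^ 8 ∣ |C0|`; `E0 ≤ C0` is elementary abelian, `16 ≤ |E0|`;
* `main`: an involutory automorphism of `Om` is inner or centralises the image of `C0` under an automorphism.
-/

set_option autoImplicit false

namespace Cfsg.Agent.OddHalf.NI3.Ex.OEight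

open Cfsg.Agent.StdO8.Model Cfsg.Agent.StdO8.Bas Cfsg.Agent.StdO8.Graph Cfsg.Agent.StdO8.Aut
open Cfsg.Agent.StdO8.EvenLin

instance : Finite (V ≃ₗ[ZMod 2] V) := Finite.of_injective (fun e => (e : V → V)) DFunLike.coe_injective

/-- the nonsingular vector of the reflection -/
abbrev n0 : V := bv 3 + bv 7

theorem sw_app (w : V) : sw w = w + B n0 w • n0 := by
  rw [sw_eq, refl_eq]

/-- The common centralizer of `sw` and `xb 0 1` in `Om`. -/
def C0 : Subgroup Om where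
  carrier := {g | (g : V ≃ₗ[ZMod 2] V) * sw = sw * g ∧ (g : V ≃ₗ[ZMod 2] V) * xb 0 1 = xb 0 1 * g}
  one_mem' := ⟨by rw [Subgroup.coe_one, one_mul, mul_one], by rw [Subgroup.coe_one, one_mul, mul_one]⟩
  mul_mem' := by
    rintro a b ⟨h1, h2⟩ ⟨h3, h4⟩
    refine ⟨?_, ?_⟩
    · rw [Subgroup.coe_mul, mul_assoc, h3, ← mul_assoc, h1, mul_assoc]
    · rw [Subgroup.coe_mul, mul_assoc, h4, ← mul_assoc, h2, mul_assoc]
  inv_mem' := by
    rintro a ⟨h1, h2⟩
    refine ⟨?_, ?_⟩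
    · rw [Subgroup.coe_inv, inv_mul_eq_iff_eq_mul, ← mul_assoc, h1, mul_assoc, mul_inv_cancel, mul_one]
    · rw [Subgroup.coe_inv, inv_mul_eq_iff_eq_mul, ← mul_assoc, h2, mul_assoc, mul_inv_cancel, mul_one]

/-- The group of the transformations `X a w`, `w ∈ P`. -/
def Eg (a : V) (ha : q a = 0) (P : AddSubgroup V) (hP : ∀ w ∈ P, B a w = 0) : Subgroup Om where
  carrier := {g | ∃ w ∈ P, (g : V ≃ₗ[ZMod 2] V) = X a w}
  one_mem' := ⟨0, P.zero_mem, (X_zero_right a).symm⟩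
  mul_mem' := by
    rintro g h ⟨w, hw, e⟩ ⟨w', hw', e'⟩
    exact ⟨w + w', P.add_mem hw hw', by rw [Subgroup.coe_mul, e, e', X_mul ha (hP _ hw) (hP _ hw')]⟩
  inv_mem' := by
    rintro g ⟨w, hw, e⟩
    exact ⟨w, hw, by rw [Subgroup.coe_inv, e, X_inv]⟩

theorem mem_Eg {a : V} {ha : q a = 0} {P : AddSubgroup V} {hP : ∀ w ∈ P, B a w = 0} {g : Om} :
    g ∈ Eg a ha P hP ↔ ∃ w ∈ P, (g : V ≃ₗ[ZMod 2] V) = X a w := Iff.rfl

theorem Eg_sq {a : V} {ha : q a = 0} {P : AddSubgroup V} {hP : ∀ w ∈ P, B a w = 0} {g : Om}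
    (hg : g ∈ Eg a ha P hP) : g * g = 1 := by
  obtain ⟨w, -, e⟩ := hg
  apply Subtype.ext
  rw [Subgroup.coe_mul, e, X_mul_self, Subgroup.coe_one]

/-- `⟨bv 0, n0⟩^⊥` -/
def P0 : AddSubgroup V where
  carrier := {w | B (bv 0) w = 0 ∧ B n0 w = 0}
  zero_mem' := ⟨B_zero_right _, B_zero_right _⟩
  add_mem' := by
    rintro a b ⟨h1, h2⟩ ⟨h3, h4⟩
    exact ⟨by rw [B_add_right, h1, h3, add_zero], by rw [B_add_right, h2, h4, add_zero]⟩
  neg_mem' := by
    rintro a h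
    rw [neg_eq]
    exact h

/-- `⟨bv 0, bv 1, n0⟩^⊥` -/
def P1 : AddSubgroup V where
  carrier := {w | B (bv 1) w = 0 ∧ B (bv 0) w = 0 ∧ B n0 w = 0}
  zero_mem' := ⟨B_zero_right _, B_zero_right _, B_zero_right _⟩
  add_mem' := by
    rintro a b ⟨h1, h2, h5⟩ ⟨h3, h4, h6⟩
    exact ⟨by rw [B_add_right, h1, h3, add_zero], by rw [B_add_right, h2, h4, add_zero],
      by rw [B_add_right, h5, h6, add_zero]⟩
  neg_mem' := by
    rintro a h
    rw [neg_eq]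
    exact h

def E0 : Subgroup Om := Eg (bv 0) (q_bv 0) P0 fun _ h => h.1
def E1 : Subgroup Om := Eg (bv 1) (q_bv 1) P1 fun _ h => h.1

theorem B01 : B (bv 0) (bv 1) = 0 := by rw [B_bv]; decide
theorem B10 : B (bv 1) (bv 0) = 0 := by rw [B_bv]; decide

theorem X_sw {i : Fin 8} (hi : σ i = i) {w : V} (hw : B n0 w = 0) : X (bv i) w * sw = sw * X (bv i) w := by
  have h := X_conj sw_mem (bv i) w
  rw [sw_bv, hi, sw_app, hw, zero_smul, add_zero, mul_inv_eq_iff_eq_mul] at h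
  exact h.symm

theorem E0_le : E0 ≤ C0 := by
  rintro g ⟨w, hw, e⟩
  refine ⟨?_, ?_⟩
  · rw [e]
    exact X_sw (by decide) hw.2
  · rw [e]
    show X (bv 0) w * X (bv 0) (bv 1) = X (bv 0) (bv 1) * X (bv 0) w
    rw [X_mul (q_bv 0) hw.1 B01, X_mul (q_bv 0) B01 hw.1, add_comm]

theorem E1_le : E1 ≤ C0 := by
  rintro g ⟨w, hw, e⟩
  refine ⟨?_, ?_⟩
  · rw [e]
    exact X_sw (by decide) hw.2.2
  · rw [e]
    show X (bv 1) w * X (bv 0) (bv 1) = X (bv 0) (bv 1) * X (bv 1) w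
    rw [X_comm (q_bv 0) (q_bv 1), X_mul (q_bv 1) hw.1 B10, X_mul (q_bv 1) B10 hw.1, add_comm]

theorem isPGroup_of_sq {G : Type*} [Group G] {H : Subgroup G} (h : ∀ g ∈ H, g * g = 1) : IsPGroup 2 ↥H := by
  rintro ⟨g, hg⟩
  exact ⟨1, Subtype.ext (by rw [pow_one, pow_two]; exact h g hg)⟩

theorem norm : E1 ≤ Subgroup.normalizer (E0 : Set Om) := by
  have key : ∀ g ∈ E1, ∀ h ∈ E0, g * h * g⁻¹ ∈ E0 := by
    rintro g ⟨w, hw, e⟩ h ⟨w', hw', e'⟩
    refine ⟨X (bv 1) w w', ⟨?_, ?_⟩, ?_⟩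
    · have h1 : X (bv 1) w (bv 0) = bv 0 := by
        rw [X_apply' (q_bv 1) hw.1, B10, B_comm w, hw.2.1]
        simp
      rw [← h1, O8_B (X_mem_O8 _ _)]
      exact hw'.1
    · have h1 : X (bv 1) w n0 = n0 := by
        have h2 : B (bv 1) n0 = 0 := by rw [B_add_right, B_bv, B_bv]; decide
        rw [X_apply' (q_bv 1) hw.1, h2, B_comm w, hw.2.2]
        simp
      rw [← h1, O8_B (X_mem_O8 _ _)]
      exact hw'.2
    · have h1 : X (bv 1) w (bv 0) = bv 0 := by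
        rw [X_apply' (q_bv 1) hw.1, B10, B_comm w, hw.2.1]
        simp
      rw [Subgroup.coe_mul, Subgroup.coe_mul, Subgroup.coe_inv, e, e', X_conj (X_mem_O8 _ _), h1]
  intro g hg
  rw [Subgroup.mem_normalizer_iff]
  intro h
  refine ⟨key g hg h, fun h1 => ?_⟩
  have h2 := key g⁻¹ (inv_mem hg) _ h1
  rwa [inv_inv, show g⁻¹ * (g * h * g⁻¹) * g = h by group] at h2

/-- the parameters -/
def w0 (c : Fin 5 → ZMod 2) : V := c 0 • bv 1 + c 1 • bv 2 + c 2 • bv 5 + c 3 • bv 6 + c 4 • n0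
def w1 (c : Fin 3 → ZMod 2) : V := c 0 • bv 2 + c 1 • bv 6 + c 2 • n0

theorem w0_mem (c : Fin 5 → ZMod 2) : w0 c ∈ P0 := by
  have h : ∀ j : Fin 8, B (bv j) n0 = if j = 3 ∨ j = 7 then 1 else 0 := by
    intro j
    rw [B_add_right, B_bv, B_bv]
    revert j
    decide
  refine ⟨?_, ?_⟩
  · unfold w0
    simp only [B_add_right, B_smul_right, B_bv, h]
    revert c
    decide +kernel
  · unfold w0
    simp only [n0, B_add_left, B_add_right, B_smul_right, B_bv]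
    revert c
    decide +kernel

theorem w1_mem (c : Fin 3 → ZMod 2) : w1 c ∈ P1 := by
  refine ⟨?_, ?_, ?_⟩ <;>
  · unfold w1
    simp only [n0, B_add_left, B_add_right, B_smul_right, B_bv]
    revert c
    decide +kernel

theorem coX {i k : Fin 8} {w : V} (hw : B (bv i) w = 0) (h1 : k ≠ i) (h2 : i ≠ k + 4) :
    B (bv k) (X (bv i) w (bv (i + 4))) = B (bv k) w := by
  have e1 : B (bv i) (bv (i + 4)) = 1 := by rw [B_bv, if_pos rfl]
  have e2 : B (bv k) (bv (i + 4)) = 0 := by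
    rw [B_bv, if_neg]
    intro h
    exact h1 (add_right_cancel h).symm
  have e3 : B (bv k) (bv i) = 0 := by rw [B_bv, if_neg h2]
  rw [X_apply' (q_bv i) hw, e1, one_smul, B_add_right, B_add_right, B_add_right, B_smul_right, B_smul_right, e2, e3,
    mul_zero, mul_zero, zero_add, add_zero, add_zero]

theorem fix4 (d : Fin 3 → ZMod 2) : X (bv 1) (w1 d) (bv 4) = bv 4 := by
  have e1 : B (bv 1) (bv 4) = 0 := by rw [B_bv]; decide
  have e2 : B (w1 d) (bv 4) = 0 := by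
    unfold w1
    simp only [n0, B_add_left, B_smul_left, B_bv]
    revert d
    decide +kernel
  rw [X_apply' (q_bv 1) (w1_mem d).1, e1, e2]
  simp

theorem co0 (c : Fin 5 → ZMod 2) : B (bv 5) (w0 c) = c 0 ∧ B (bv 6) (w0 c) = c 1 ∧ B (bv 1) (w0 c) = c 2 ∧
    B (bv 2) (w0 c) = c 3 ∧ B (bv 7) (w0 c) = c 4 := by
  unfold w0
  simp only [n0, B_add_right, B_smul_right, B_bv]
  revert c
  decide +kernel

theorem co1 (c : Fin 3 → ZMod 2) : B (bv 6) (w1 c) = c 0 ∧ B (bv 2) (w1 c) = c 1 ∧ B (bv 7) (w1 c) = c 2 := by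
  unfold w1
  simp only [n0, B_add_right, B_smul_right, B_bv]
  revert c
  decide +kernel

theorem inj0 {c c' : Fin 5 → ZMod 2} (h : X (bv 0) (w0 c) (bv 4) = X (bv 0) (w0 c') (bv 4)) : c = c' := by
  have key : ∀ k : Fin 8, k ≠ 0 → (0 : Fin 8) ≠ k + 4 → B (bv k) (w0 c) = B (bv k) (w0 c') := by
    intro k h1 h2
    have h3 := congrArg (B (bv k)) h
    have h4 := coX (w0_mem c).1 h1 h2
    have h5 := coX (w0_mem c').1 h1 h2
    have e : (0 : Fin 8) + 4 = 4 := by decide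
    rw [e] at h4 h5
    rw [← h4, ← h5, h3]
  obtain ⟨a0, a1, a2, a3, a4⟩ := co0 c
  obtain ⟨b0, b1, b2, b3, b4⟩ := co0 c'
  have k0 := key 5 (by decide) (by decide)
  have k1 := key 6 (by decide) (by decide)
  have k2 := key 1 (by decide) (by decide)
  have k3 := key 2 (by decide) (by decide)
  have k4 := key 7 (by decide) (by decide)
  rw [a0, b0] at k0
  rw [a1, b1] at k1
  rw [a2, b2] at k2
  rw [a3, b3] at k3
  rw [a4, b4] at k4
  funext i
  fin_cases i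
  · exact k0
  · exact k1
  · exact k2
  · exact k3
  · exact k4

theorem inj1 {c c' : Fin 3 → ZMod 2} (h : X (bv 1) (w1 c) = X (bv 1) (w1 c')) : c = c' := by
  have key : ∀ k : Fin 8, k ≠ 1 → (1 : Fin 8) ≠ k + 4 → B (bv k) (w1 c) = B (bv k) (w1 c') := by
    intro k h1 h2
    have h4 := coX (w1_mem c).1 h1 h2
    have h5 := coX (w1_mem c').1 h1 h2
    rw [← h4, ← h5, h]
  obtain ⟨a0, a1, a2⟩ := co1 c
  obtain ⟨b0, b1, b2⟩ := co1 c'
  have k0 := key 6 (by decide) (by decide)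
  have k1 := key 2 (by decide) (by decide)
  have k2 := key 7 (by decide) (by decide)
  rw [a0, b0] at k0
  rw [a1, b1] at k1
  rw [a2, b2] at k2
  funext i
  fin_cases i
  · exact k0
  · exact k1
  · exact k2

/-- the elements -/
noncomputable def g0 (c : Fin 5 → ZMod 2) : Om := ⟨X (bv 0) (w0 c), X_mem _ _⟩
noncomputable def g1 (c : Fin 3 → ZMod 2) : Om := ⟨X (bv 1) (w1 c), X_mem _ _⟩

theorem g0_mem (c : Fin 5 → ZMod 2) : g0 c ∈ E0 := ⟨w0 c, w0_mem c, rfl⟩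
theorem g1_mem (c : Fin 3 → ZMod 2) : g1 c ∈ E1 := ⟨w1 c, w1_mem c, rfl⟩

theorem card_E0 : 32 ≤ Nat.card E0 := by
  have h := Nat.card_le_card_of_injective (fun c : Fin 5 → ZMod 2 => (⟨g0 c, g0_mem c⟩ : E0)) (fun c c' h => by
    have h1 : X (bv 0) (w0 c) = X (bv 0) (w0 c') := congrArg (fun x : E0 => ((x : Om) : V ≃ₗ[ZMod 2] V)) h
    exact inj0 (by rw [h1]))
  have h2 : Nat.card (Fin 5 → ZMod 2) = 32 := by
    rw [Nat.card_eq_fintype_card, Fintype.card_fun, ZMod.card, Fintype.card_fin]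
    norm_num
  rwa [h2] at h

theorem card_sup : 256 ≤ Nat.card (E0 ⊔ E1 : Subgroup Om) := by
  have h := Nat.card_le_card_of_injective (fun c : (Fin 5 → ZMod 2) × (Fin 3 → ZMod 2) =>
      (⟨g0 c.1 * g1 c.2, mul_mem ((le_sup_left : E0 ≤ E0 ⊔ E1) (g0_mem _)) ((le_sup_right : E1 ≤ E0 ⊔ E1) (g1_mem _))⟩ :
        (E0 ⊔ E1 : Subgroup Om))) (fun c c' h => by
    have h1 : X (bv 0) (w0 c.1) * X (bv 1) (w1 c.2) = X (bv 0) (w0 c'.1) * X (bv 1) (w1 c'.2) :=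
      congrArg (fun x : (E0 ⊔ E1 : Subgroup Om) => ((x : Om) : V ≃ₗ[ZMod 2] V)) h
    have h2 := DFunLike.congr_fun h1 (bv 4)
    rw [LinearEquiv.mul_apply, LinearEquiv.mul_apply, fix4, fix4] at h2
    have h3 := inj0 h2
    rw [h3] at h1
    exact Prod.ext h3 (inj1 (mul_left_cancel h1)))
  have h2 : Nat.card ((Fin 5 → ZMod 2) × (Fin 3 → ZMod 2)) = 256 := by
    rw [Nat.card_prod, Nat.card_eq_fintype_card, Nat.card_eq_fintype_card, Fintype.card_fun, Fintype.card_fun,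
      ZMod.card, Fintype.card_fin, Fintype.card_fin]
    norm_num
  rwa [h2] at h

theorem sup_isPGroup : IsPGroup 2 ↥(E0 ⊔ E1 : Subgroup Om) := by
  have h0 : IsPGroup 2 ↥E0 := isPGroup_of_sq fun g hg => Eg_sq hg
  have h1 : IsPGroup 2 ↥E1 := isPGroup_of_sq fun g hg => Eg_sq hg
  exact IsPGroup.to_sup_of_normal_left' h0 h1 norm

theorem card_C0 : 2 ^ 8 ∣ Nat.card C0 := by
  have : Fact (Nat.Prime 2) := ⟨Nat.prime_two⟩
  refine dvd_trans ?_ (Subgroup.card_dvd_of_le (sup_le E0_le E1_le))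
  obtain ⟨k, hk⟩ := IsPGroup.iff_card.1 sup_isPGroup
  have h1 := card_sup
  rw [hk] at h1 ⊢
  refine pow_dvd_pow 2 ?_
  by_contra h
  push Not at h
  have h2 : 2 ^ k ≤ 2 ^ 7 := Nat.pow_le_pow_right (by norm_num) (by omega)
  omega

/-- **Involutory automorphisms of `Ω₈⁺(2)`.** -/
theorem main {α : MulAut Om} (hα : α * α = 1) :
    (∃ x, α = MulAut.conj x) ∨ ∃ β : MulAut Om, ∀ y ∈ C0, α (β y) = β y := by
  have : Fact (Nat.Prime 2) := ⟨Nat.prime_two⟩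
  have hfin : Finite (MulAut Om) := inferInstance
  obtain ⟨β, hβ⟩ : ∃ β : MulAut Om, β⁻¹ * α * β ∈ cj.range := by
    have hP : IsPGroup 2 (Subgroup.zpowers α) := by
      rintro ⟨a, ha⟩
      obtain ⟨i, rfl⟩ := Subgroup.mem_zpowers_iff.1 ha
      refine ⟨1, Subtype.ext ?_⟩
      show (α ^ i) ^ (2 ^ 1) = 1
      rw [pow_one, pow_two, ← (Commute.refl α).mul_zpow, hα, one_zpow]
    have h1 := hP.card_modEq_card_fixedPoints (MulAut Om ⧸ cj.range)
    have h2 : Nat.card (MulAut Om ⧸ cj.range) = 3 := index_range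
    rw [h2] at h1
    have h3 : Nat.card (MulAction.fixedPoints (Subgroup.zpowers α) (MulAut Om ⧸ cj.range)) ≠ 0 := by
      intro h
      rw [h] at h1
      exact absurd h1 (by decide)
    obtain ⟨⟨x, hx⟩⟩ := (Nat.card_ne_zero.1 h3).1
    obtain ⟨β, rfl⟩ := QuotientGroup.mk_surjective x
    refine ⟨β, ?_⟩
    have h4 := hx ⟨α, Subgroup.mem_zpowers α⟩
    have h5 : ((α * β : MulAut Om) : MulAut Om ⧸ cj.range) = (β : MulAut Om ⧸ cj.range) := h4
    have h6 := QuotientGroup.eq.1 h5.symm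
    rwa [← mul_assoc] at h6
  obtain ⟨M, hM⟩ := hβ
  have hM2 : M * M = 1 := by
    apply StdO8.Frame.Ctx.cj_injective
    rw [map_mul, map_one, hM]
    calc β⁻¹ * α * β * (β⁻¹ * α * β) = β⁻¹ * (α * α) * β := by group
      _ = 1 := by rw [hα]; group
  have hαM : α = β * cj M * β⁻¹ := by rw [hM]; group
  by_cases hMO : (M : V ≃ₗ[ZMod 2] V) ∈ Om
  · left
    refine ⟨β ⟨M, hMO⟩, ?_⟩
    have h1 : cj M = MulAut.conj (⟨M, hMO⟩ : Om) := by
      ext y : 1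
      exact Subtype.ext rfl
    rw [hαM, h1]
    ext y : 1
    rw [MulAut.mul_apply, MulAut.mul_apply, MulAut.conj_apply, MulAut.conj_apply, map_mul, map_mul, map_inv,
      MulAut.apply_inv_self]
  · right
    obtain ⟨g, hg, h⟩ := lin M.2 hMO (by
      have := congrArg Subtype.val hM2
      exact this)
    refine ⟨β * MulAut.conj (⟨g, hg⟩ : Om)⁻¹, ?_⟩
    intro y hy
    have hT : (y : V ≃ₗ[ZMod 2] V) * (g * M * g⁻¹) = (g * M * g⁻¹) * y := by
      rcases h with h | h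
      · rw [h]; exact hy.1
      · rw [h, ← mul_assoc, hy.1, mul_assoc, hy.2, mul_assoc]
    have h2 : cj M (MulAut.conj (⟨g, hg⟩ : Om)⁻¹ y) = MulAut.conj (⟨g, hg⟩ : Om)⁻¹ y := by
      apply Subtype.ext
      rw [cj_coe, MulAut.conj_apply, inv_inv, Subgroup.coe_mul, Subgroup.coe_mul, Subgroup.coe_inv]
      show (M : V ≃ₗ[ZMod 2] V) * (g⁻¹ * y * g) * (M : V ≃ₗ[ZMod 2] V)⁻¹ = g⁻¹ * y * g
      rw [mul_inv_eq_iff_eq_mul]
      calc (M : V ≃ₗ[ZMod 2] V) * (g⁻¹ * y * g) = g⁻¹ * ((g * M * g⁻¹) * y) * g := by group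
        _ = g⁻¹ * (y * (g * M * g⁻¹)) * g := by rw [hT]
        _ = _ := by group
    rw [hαM, MulAut.mul_apply, MulAut.mul_apply, MulAut.mul_apply, MulAut.inv_apply_self, h2]

end Cfsg.Agent.OddHalf.NI3.Ex.OEight
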