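import Mathlib

/-!
# Packed matrices over the field with two elements (helper88)

A matrix with 22 columns is a number, the column `k` is the field of width 24 at position `24 k`.
-/

set_option autoImplicit false

namespace Cfsg.Agent.OddHalf.NI3.Ex.PackM

/-- evaluate before continuing -/
def force {α : Type} (n : ℕ) (k : ℕ → α) : α := Nat.rec (k (nat_lit 0)) (fun m _ => k (Nat.succ m)) n

@[simp] theorem force_eq {α : Type} (n : ℕ) (k : ℕ → α) : force n k = k n := by
  cases n <;> rfl

/-- the field number `k` -/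
def fd (M k : ℕ) : ℕ := Nat.land (Nat.shiftRight M (Nat.mul (nat_lit 24) k)) (nat_lit 16777215)

theorem testBit_fd (M k i : ℕ) : (fd M k).testBit i = (M.testBit (24 * k + i) && decide (i < 24)) := by
  have h : fd M k = (M >>> (24 * k)) &&& (2 ^ 24 - 1) := rfl
  rw [h, Nat.testBit_and, Nat.testBit_shiftRight, Nat.testBit_two_pow_sub_one]

theorem fd_lt (M k : ℕ) : fd M k < 2 ^ 24 := by
  have h : fd M k = (M >>> (24 * k)) &&& (2 ^ 24 - 1) := rfl
  rw [h, Nat.and_two_pow_sub_one_eq_mod]
  exact Nat.mod_lt _ (by norm_num)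

theorem fd_xor (M N k : ℕ) : fd (Nat.xor M N) k = fd M k ^^^ fd N k := by
  apply Nat.eq_of_testBit_eq
  intro i
  rw [testBit_fd, show Nat.xor M N = M ^^^ N from rfl, Nat.testBit_xor, Nat.testBit_xor, testBit_fd, testBit_fd]
  cases decide (i < 24) <;> simp

theorem fd_zero (k : ℕ) : fd 0 k = 0 := by
  apply Nat.eq_of_testBit_eq
  intro i
  rw [testBit_fd, Nat.zero_testBit, Bool.false_and, Nat.zero_testBit]

theorem ext_fd {M N : ℕ} (h : ∀ k, fd M k = fd N k) : M = N := by
  apply Nat.eq_of_testBit_eq
  intro i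
  have h1 := testBit_fd M (i / 24) (i % 24)
  have h2 := testBit_fd N (i / 24) (i % 24)
  have h3 : 24 * (i / 24) + i % 24 = i := Nat.div_add_mod i 24
  rw [h, h2, h3] at h1
  have h4 : decide (i % 24 < 24) = true := decide_eq_true (Nat.mod_lt _ (by norm_num))
  rw [h4, Bool.and_true, Bool.and_true] at h1
  exact h1.symm

/-- packing -/
def pk : ℕ → (ℕ → ℕ) → ℕ
  | 0, _ => 0
  | n + 1, f => f 0 + 2 ^ 24 * pk n (fun k => f (k + 1))

theorem fd_pk {n : ℕ} {f : ℕ → ℕ} (hf : ∀ k < n, f k < 2 ^ 24) (k : ℕ) :
    fd (pk n f) k = if k < n then f k else 0 := by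
  induction n generalizing f k with
  | zero => simp [pk, fd_zero]
  | succ n ih =>
    have h0 : f 0 < 2 ^ 24 := hf 0 (Nat.succ_pos n)
    apply Nat.eq_of_testBit_eq
    intro i
    rw [testBit_fd, pk, add_comm (f 0), Nat.testBit_two_pow_mul_add _ h0]
    rcases k with _ | k
    · simp only [mul_zero, zero_add, Nat.succ_pos, if_true]
      by_cases hi : i < 24
      · simp [hi]
      · have h1 : (f 0).testBit i = false := by
          apply Nat.testBit_lt_two_pow
          exact h0.trans_le (Nat.pow_le_pow_right (by norm_num) (by omega))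
        simp [hi, h1]
    · have h1 : ¬ 24 * (k + 1) + i < 24 := by omega
      have h2 : 24 * (k + 1) + i - 24 = 24 * k + i := by omega
      rw [if_neg h1, h2, ← testBit_fd, ih (fun k hk => hf (k + 1) (by omega))]
      simp

theorem pk_mul (n : ℕ) (f : ℕ → ℕ) (c : ℕ) : pk n f * c = pk n (fun k => f k * c) := by
  induction n generalizing f with
  | zero => simp [pk]
  | succ n ih => rw [pk, pk, add_mul, mul_assoc, ih]

/-- 22 fields `1` -/
def ONES : ℕ := nat_lit 52374252848087006306927776885640336123157968615073663441905663292492200134223706060373407267217245713134982645099889929809662358380919026668578522791937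

theorem ONES_eq : ONES = pk 22 (fun _ => 1) := by decide +kernel

theorem fd_land (M N k : ℕ) : fd (Nat.land M N) k = fd M k &&& fd N k := by
  apply Nat.eq_of_testBit_eq
  intro i
  rw [testBit_fd, show Nat.land M N = M &&& N from rfl, Nat.testBit_and, Nat.testBit_and, testBit_fd, testBit_fd]
  cases decide (i < 24) <;> simp

/-- the bit number `j` of the fields -/
theorem row_eq (B : ℕ) {j : ℕ} (hj : j < 24) :
    Nat.land (Nat.shiftRight B j) ONES = pk 22 (fun k => if (fd B k).testBit j = true then 1 else 0) := by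
  have hf : ∀ k < 22, (fun k => if (fd B k).testBit j = true then 1 else 0) k < 2 ^ 24 := by
    intro k _
    change (if (fd B k).testBit j = true then 1 else 0) < 2 ^ 24
    split_ifs <;> norm_num
  apply ext_fd
  intro k
  rw [fd_land, fd_pk hf, ONES_eq, fd_pk (fun _ _ => by norm_num)]
  by_cases hk : k < 22
  · rw [if_pos hk, if_pos hk]
    apply Nat.eq_of_testBit_eq
    intro i
    rw [Nat.testBit_and, testBit_fd, show Nat.shiftRight B j = B >>> j from rfl, Nat.testBit_shiftRight]
    rcases i with _ | i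
    · rw [testBit_fd]
      have h1 : j + (24 * k + 0) = 24 * k + j := by omega
      rw [h1]
      cases h : B.testBit (24 * k + j) <;> simp [hj]
    · have h1 : (1 : ℕ).testBit (i + 1) = false := by
        apply Nat.testBit_lt_two_pow
        exact Nat.one_lt_two_pow (Nat.succ_ne_zero i)
      rw [h1, Bool.and_false]
      split_ifs
      · exact h1.symm
      · exact (Nat.zero_testBit _).symm
  · rw [if_neg hk, if_neg hk, Nat.and_zero]

/-- the field `k` of `row * c` -/
theorem fd_row_mul (B : ℕ) {j c k : ℕ} (hj : j < 24) (hc : c < 2 ^ 24) (hk : k < 22) :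
    fd (Nat.mul (Nat.land (Nat.shiftRight B j) ONES) c) k = if (fd B k).testBit j = true then c else 0 := by
  rw [row_eq B hj, show Nat.mul (pk 22 _) c = pk 22 _ * c from rfl, pk_mul, fd_pk, if_pos hk]
  · split_ifs
    · rw [one_mul]
    · rw [zero_mul]
  · intro k' _
    split_ifs
    · rw [one_mul]; exact hc
    · rw [zero_mul]; norm_num

/-- the product of the matrix `A` and the vector `m`, columns below `n` -/
def apN (A m : ℕ) : ℕ → ℕ
  | 0 => 0
  | n + 1 => apN A m n ^^^ (if m.testBit n = true then fd A n else 0)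

theorem apN_lt {A : ℕ} (hA : ∀ k < 22, fd A k < 2 ^ 22) (m : ℕ) : ∀ n ≤ 22, apN A m n < 2 ^ 22
  | 0, _ => by norm_num [apN]
  | n + 1, h => by
    rw [apN]
    refine Nat.xor_lt_two_pow (apN_lt hA m n (by omega)) ?_
    split_ifs
    · exact hA n (by omega)
    · norm_num

/-- the product of matrices -/
noncomputable def mulAux (A B n : ℕ) : ℕ → ℕ :=
  Nat.rec (fun acc => acc) (fun n ih acc => ih (Nat.xor acc
    (Nat.mul (Nat.land (Nat.shiftRight B n) ONES) (fd A n)))) n

theorem fd_mulAux (A B : ℕ) {k : ℕ} (hk : k < 22) : ∀ n ≤ 22, ∀ acc : ℕ,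
    fd (mulAux A B n acc) k = fd acc k ^^^ apN A (fd B k) n
  | 0, _, acc => by
    change fd acc k = fd acc k ^^^ 0
    rw [Nat.xor_zero]
  | n + 1, h, acc => by
    have h1 : mulAux A B (n + 1) acc = mulAux A B n (Nat.xor acc
      (Nat.mul (Nat.land (Nat.shiftRight B n) ONES) (fd A n))) := rfl
    rw [h1, fd_mulAux A B hk n (by omega), fd_xor, fd_row_mul B (by omega) (fd_lt A n) hk, apN, Nat.xor_assoc]
    congr 1
    exact Nat.xor_comm _ _

/-- the product of matrices -/
noncomputable def mulM (A B : ℕ) : ℕ :=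
  force A fun A => force B fun B => mulAux A B (nat_lit 22) (nat_lit 0)

theorem fd_mulM (A B : ℕ) {k : ℕ} (hk : k < 22) : fd (mulM A B) k = apN A (fd B k) 22 := by
  have h : mulM A B = mulAux A B 22 0 := by simp [mulM]
  rw [h, fd_mulAux A B hk 22 le_rfl, fd_zero, Nat.zero_xor]

/-- the identity matrix -/
def ID : ℕ := nat_lit 109836765835480460890497387528233047336909270770019318933947619766927871495901178099707848720674398864853801573657449809979856655970739909290542749366387474433

theorem fd_ID : ∀ k < 22, fd ID k = 2 ^ k := by decide +kernel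

/-- the rank is at least `r`: elimination through the fields `k < n` -/
noncomputable def rk (n : ℕ) : ℕ → ℕ → Bool :=
  Nat.rec (fun _ r => Nat.beq r (nat_lit 0)) (fun k ih M r =>
    force (fd M k) fun c => Nat.rec (ih M r) (fun _ _ =>
      force (Nat.gcd c (nat_lit 16777216)) fun g => force (Nat.xor M (Nat.mul (Nat.land (Nat.div M g) ONES) c)) fun M' =>
        force (Nat.sub r (nat_lit 1)) fun r' => ih M' r') c) n

/-- the lowest bit -/
theorem exists_bit {c : ℕ} (h0 : c ≠ 0) (hc : c < 2 ^ 24) : ∃ j < 24, Nat.gcd c 16777216 = 2 ^ j ∧ c.testBit j = true := by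
  obtain ⟨j, hj, hg⟩ := (Nat.dvd_prime_pow Nat.prime_two).1 (Nat.gcd_dvd_right c (2 ^ 24))
  have h1 : Nat.gcd c (2 ^ 24) ∣ c := Nat.gcd_dvd_left _ _
  have h2 : 2 ^ j ≤ c := by rw [← hg]; exact Nat.le_of_dvd (Nat.pos_of_ne_zero h0) h1
  have hj' : j < 24 := by
    by_contra hcon
    have : j = 24 := by omega
    rw [this] at h2
    omega
  refine ⟨j, hj', hg, ?_⟩
  rw [hg] at h1
  obtain ⟨c', hc'⟩ := h1
  have hodd : c' % 2 = 1 := by
    by_contra hcon
    have h3 : 2 ∣ c' := by omega
    have h4 : 2 ^ (j + 1) ∣ c := by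
      rw [hc', pow_succ]
      exact Nat.mul_dvd_mul_left _ h3
    have h5 : 2 ^ (j + 1) ∣ Nat.gcd c (2 ^ 24) := Nat.dvd_gcd h4 (Nat.pow_dvd_pow 2 (by omega))
    rw [hg] at h5
    have h6 := (Nat.pow_dvd_pow_iff_le_right (by norm_num : 1 < 2)).1 h5
    omega
  rw [hc', Nat.testBit_two_pow_mul]
  simp [hodd]

theorem rk_sound (n : ℕ) (hn : n ≤ 22) : ∀ (M r : ℕ), rk n M r = true → ∀ T : Finset ℕ, (∀ a ∈ T, ∀ b ∈ T, a ^^^ b ∈ T) →
    (∀ k < 22, fd M k ∈ T) → 2 ^ r ≤ T.card := by
  classical
  induction n with
  | zero =>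
    intro M r h T _ hM
    have h1 : r = 0 := Nat.eq_of_beq_eq_true h
    rw [h1, pow_zero]
    exact Finset.card_pos.2 ⟨_, hM 0 (by norm_num)⟩
  | succ k ih =>
    intro M r h T hT hM
    have h1 : rk (k + 1) M r = force (fd M k) fun c => Nat.rec (motive := fun _ => Bool) (rk k M r) (fun _ _ =>
      force (Nat.gcd c (nat_lit 16777216)) fun g => force (Nat.xor M (Nat.mul (Nat.land (Nat.div M g) ONES) c)) fun M' =>
        force (Nat.sub r (nat_lit 1)) fun r' => rk k M' r') c := rfl
    rw [h1] at h
    simp only [force_eq] at h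
    by_cases h0 : fd M k = 0
    · rw [h0] at h
      exact ih (by omega) M r h T hT hM
    · have h2 : rk k (Nat.xor M (Nat.mul (Nat.land (Nat.div M (Nat.gcd (fd M k) 16777216)) ONES) (fd M k)))
          (Nat.sub r 1) = true := by
        obtain ⟨c', hc'⟩ := Nat.exists_eq_succ_of_ne_zero h0
        rw [hc'] at h ⊢
        exact h
      obtain ⟨j, hj24, hg, hj⟩ := exists_bit h0 (fd_lt M k)
      have h3 : Nat.div M (Nat.gcd (fd M k) 16777216) = Nat.shiftRight M j := by
        rw [hg]
        change M / 2 ^ j = M >>> j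
        rw [Nat.shiftRight_eq_div_pow]
      rw [h3] at h2
      set c := fd M k with hc
      have hcT : c ∈ T := hM k (by omega)
      have h0T : 0 ∈ T := by
        have := hT c hcT c hcT
        rwa [Nat.xor_self] at this
      set T' := T.filter (fun a => a.testBit j = false) with hT'
      have h4 : 2 ^ (Nat.sub r 1) ≤ T'.card := by
        refine ih (by omega) _ _ h2 T' ?_ ?_
        · intro a ha b hb
          rw [hT', Finset.mem_filter] at ha hb ⊢
          exact ⟨hT a ha.1 b hb.1, by rw [Nat.testBit_xor, ha.2, hb.2]; rfl⟩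
        · intro i hi
          rw [hT', Finset.mem_filter, fd_xor, fd_row_mul M hj24 (fd_lt M k) hi]
          by_cases hb : (fd M i).testBit j = true
          · rw [if_pos hb]
            refine ⟨hT _ (hM i hi) _ hcT, ?_⟩
            rw [Nat.testBit_xor, hb, hj]; rfl
          · rw [if_neg hb]
            refine ⟨hT _ (hM i hi) _ h0T, ?_⟩
            rw [Nat.xor_zero]
            simpa using hb
      have hinj : Function.Injective (fun a : ℕ => a ^^^ c) := by
        intro a b hab
        have h3 : (a ^^^ c) ^^^ c = (b ^^^ c) ^^^ c := congrArg (· ^^^ c) hab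
        rwa [Nat.xor_assoc, Nat.xor_assoc, Nat.xor_self, Nat.xor_zero, Nat.xor_zero] at h3
      have h5 : (T' ∪ T'.image (fun a => a ^^^ c)).card = T'.card + T'.card := by
        rw [Finset.card_union_of_disjoint, Finset.card_image_of_injective _ hinj]
        rw [Finset.disjoint_left]
        intro a ha hb
        obtain ⟨b, hb1, rfl⟩ := Finset.mem_image.1 hb
        rw [hT', Finset.mem_filter] at ha hb1
        have h4 := ha.2
        rw [Nat.testBit_xor, hb1.2, hj] at h4
        exact absurd h4 (by decide)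
      have h6 : (T' ∪ T'.image (fun a => a ^^^ c)).card ≤ T.card := by
        apply Finset.card_le_card
        intro a ha
        rcases Finset.mem_union.1 ha with h5 | h5
        · exact (Finset.mem_filter.1 h5).1
        · obtain ⟨b, hb1, rfl⟩ := Finset.mem_image.1 h5
          exact hT b (Finset.mem_filter.1 hb1).1 c hcT
      rw [h5] at h6
      rcases r with _ | r
      · rw [pow_zero]
        exact Finset.card_pos.2 ⟨0, h0T⟩
      · have h7 : Nat.sub (r + 1) 1 = r := rfl
        rw [h7] at h4
        rw [pow_succ]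
        omega

/-- depth first search through the products `P A₁^{e₁} … A_n^{e_n}`, `e_i < 3` -/
noncomputable def dfs (leaf : ℕ → Bool) (l : List ℕ) : ℕ → Bool :=
  List.rec (fun P => leaf P) (fun A _ ih P => and (ih P)
    (force (mulM P A) fun P1 => and (ih P1) (force (mulM P1 A) fun P2 => ih P2))) l

theorem dfs_nil (leaf : ℕ → Bool) (P : ℕ) : dfs leaf [] P = leaf P := rfl

theorem dfs_cons (leaf : ℕ → Bool) (A : ℕ) (l : List ℕ) (P : ℕ) : dfs leaf (A :: l) P =
    (dfs leaf l P && (dfs leaf l (mulM P A) && dfs leaf l (mulM (mulM P A) A))) := by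
  have h : dfs leaf (A :: l) P = and (dfs leaf l P)
    (force (mulM P A) fun P1 => and (dfs leaf l P1) (force (mulM P1 A) fun P2 => dfs leaf l P2)) := rfl
  rw [h]
  simp only [force_eq]

/-- the leaf: the identity or `P - 1` of rank at least 10 -/
noncomputable def leafR (P : ℕ) : Bool := force P fun P => or (Nat.beq P ID) (rk (nat_lit 22) (Nat.xor P ID) (nat_lit 10))

theorem leafR_spec {P : ℕ} (h : leafR P = true) : P = ID ∨ rk 22 (Nat.xor P ID) 10 = true := by
  unfold leafR at h
  rw [force_eq, Bool.or_eq_true] at h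
  exact h.imp Nat.eq_of_beq_eq_true id

/-- `2 ^ 528` -/
def B22 : ℕ := nat_lit 878694100496718043517683302282418331810487718418343092402491322775749527474899974671687634004666183037093927858109549828751614463963730408009475621262727315456

theorem B22_eq : B22 = 2 ^ (528 : ℕ) := by decide +kernel

/-- the leaf: different from `T` -/
noncomputable def leafN (T P : ℕ) : Bool :=
  not (Nat.beq (Nat.mod P B22) (Nat.mod T B22))

theorem leafN_spec {T P : ℕ} (h : leafN T P = true) (hf : ∀ k < 22, fd P k = fd T k) : False := by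
  unfold leafN at h
  have h1 : Nat.mod P B22 = Nat.mod T B22 := by
    change P % B22 = T % B22
    rw [B22_eq]
    apply Nat.eq_of_testBit_eq
    intro i
    rw [Nat.testBit_mod_two_pow, Nat.testBit_mod_two_pow]
    by_cases hi : i < 528
    · have h2 := testBit_fd P (i / 24) (i % 24)
      have h3 := testBit_fd T (i / 24) (i % 24)
      rw [hf _ (by omega), h3, Nat.div_add_mod] at h2
      have h4 : decide (i % 24 < 24) = true := decide_eq_true (Nat.mod_lt _ (by norm_num))
      rw [h4, Bool.and_true, Bool.and_true] at h2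
      rw [h2]
    · simp [hi]
  rw [h1] at h
  have h2 : Nat.beq (Nat.mod T B22) (Nat.mod T B22) = true := Nat.beq_refl _
  rw [h2] at h
  exact absurd h (by decide)

end Cfsg.Agent.OddHalf.NI3.Ex.PackM
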