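import Cfsg.Agent.OddHalf.NI3.Ex.SpSix
import Cfsg.Agent.OddHalf.NI3.Ex.Three
import Cfsg.Agent.OddHalf.NI.Ex.Cyc
import Cfsg.Agent.OddHalf.D8.Fi22.OrdEven
import Cfsg.Agent.ClassicalGeometry.PSUAutMain
import Cfsg.Agent.S0752

/-!
# (EX), (EX3): the row `U₆(2)` (helper5)

`α` an involutory automorphism of `U₆(2)`. Then `α` is inner, or induced by a semilinear isometry `t`, `t² = 1`, of
`V = F₄⁶`. `V₀ = C_V(t)` is a space over the field `k` with two elements with a symmetric form, and `C(α)` is its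
isometry group: it has order prime to 27 if the form is not alternating, and contains `Sp₆(2)` if it is alternating.
-/

set_option autoImplicit false

namespace Cfsg.Agent.OddHalf.NI3.Ex.USix

open Cfsg Cfsg.Agent.LieClassical.HermBasic Cfsg.Agent.LieClassical.HermSiegel
  Cfsg.Agent.LieClassical.HermGen Cfsg.Agent.LieClassical.SUBasic
  Cfsg.Agent.ClassicalGeometry.UnitAutBasic Cfsg.Agent.LieClassical.FieldTransfer
  Cfsg.Agent.ClassicalGeometry.PSUAutCount
  Cfsg.Agent.ClassicalGeometry.PSUAutMain Matrix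

/-- the action on vectors -/
local notation "ac" => Cfsg.Agent.LieClassical.HermSiegel.act

section Field4

variable {F : Type*} [Field F] [Fintype F]

theorem add_self (hF : Fintype.card F = 2 ^ 2) (x : F) : x + x = 0 := by
  have := charP_two (F := F) (f := 2) hF
  exact CharTwo.add_self_eq_zero x

theorem pow4 (hF : Fintype.card F = 2 ^ 2) (x : F) : x ^ 4 = x := by
  have h := FiniteField.pow_card x
  rwa [hF] at h

theorem cube (hF : Fintype.card F = 2 ^ 2) {c : F} (hc : c ≠ 0) : c ^ 3 = 1 := by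
  have h := pow4 hF c
  have h2 : c * (c ^ 3 - 1) = 0 := by linear_combination h
  rcases mul_eq_zero.mp h2 with h3 | h3
  · exact absurd h3 hc
  · exact sub_eq_zero.mp h3

/-- the cases for an element -/
theorem cases4 (hF : Fintype.card F = 2 ^ 2) (x : F) : x = 0 ∨ x = 1 ∨ x ^ 2 + x + 1 = 0 := by
  by_cases h0 : x = 0
  · exact Or.inl h0
  · have h := cube hF h0
    have h2 : (x - 1) * (x ^ 2 + x + 1) = 0 := by linear_combination h
    rcases mul_eq_zero.mp h2 with h3 | h3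
    · exact Or.inr (Or.inl (sub_eq_zero.mp h3))
    · exact Or.inr (Or.inr h3)

theorem two_roots (hF : Fintype.card F = 2 ^ 2) {x y : F} (hx : x ^ 2 + x + 1 = 0) (hy : y ^ 2 + y + 1 = 0) :
    y = x ∨ y = x ^ 2 := by
  have h1 := add_self hF (1 : F)
  have h2 : (y - x) * (y - x ^ 2) = 0 := by
    have h3 : x ^ 3 = 1 := by linear_combination (x - 1) * hx
    linear_combination hy + h3 - y * hx + (0 : F) * h1
  rcases mul_eq_zero.mp h2 with h3 | h3
  · exact Or.inl (sub_eq_zero.mp h3)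
  · exact Or.inr (sub_eq_zero.mp h3)

/-- The nontrivial automorphism of the field with four elements. -/
theorem frob (hF : Fintype.card F = 2 ^ 2) {ρ : F ≃+* F} (hρ : ρ ≠ RingEquiv.refl F) (x : F) : ρ x = x ^ 2 := by
  obtain ⟨z, hz⟩ : ∃ z, ρ z ≠ z := by
    by_contra hcon
    push Not at hcon
    exact hρ (RingEquiv.ext hcon)
  have hz2 : z ^ 2 + z + 1 = 0 := by
    rcases cases4 hF z with h | h | h
    · exact absurd (by rw [h, map_zero]) hz
    · exact absurd (by rw [h, map_one]) hz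
    · exact h
  have hρz : ρ z = z ^ 2 := by
    have h1 : (ρ z) ^ 2 + ρ z + 1 = 0 := by
      rw [← map_pow, ← map_add, ← map_one ρ, ← map_add, hz2, map_zero]
    exact (two_roots hF hz2 h1).resolve_left hz
  rcases cases4 hF x with h | h | h
  · rw [h, map_zero]; norm_num
  · rw [h, map_one]; norm_num
  · rcases two_roots hF hz2 h with h | h
    · rw [h, hρz]
    · rw [h, map_pow, hρz]

theorem exists_omega (hF : Fintype.card F = 2 ^ 2) : ∃ w : F, w ^ 2 + w + 1 = 0 := by
  obtain ⟨x, hx⟩ := exists_not_fixed hF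
  refine ⟨x, ?_⟩
  rcases cases4 hF x with h | h | h
  · exact absurd (by rw [h]; norm_num) hx
  · exact absurd (by rw [h]; norm_num) hx
  · exact h

end Field4

section Comp

variable {F : Type*} [Field F] [Fintype F] {q n : ℕ}

omit [Fintype F] in
theorem gmR_isom (ρ : F ≃+* F) (A : GU n F q) (u v : Fin n → F) :
    hermForm n F q (((GeneralLinearGroup.map (ρ : F →+* F) (A : GL (Fin n) F) : GL (Fin n) F) :
      Matrix (Fin n) (Fin n) F) *ᵥ u) (((GeneralLinearGroup.map (ρ : F →+* F) (A : GL (Fin n) F) : GL (Fin n) F) :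
      Matrix (Fin n) (Fin n) F) *ᵥ v) = hermForm n F q u v := by
  have key : ∀ w : Fin n → F, (((GeneralLinearGroup.map (ρ : F →+* F) (A : GL (Fin n) F) : GL (Fin n) F) :
      Matrix (Fin n) (Fin n) F) *ᵥ w) = fun i => ρ ((gm A *ᵥ fun j => ρ.symm (w j)) i) := by
    intro w
    funext i
    simp [Matrix.mulVec, dotProduct, gm_def, map_sum]
  rw [key, key, herm_map, herm_gm, ← herm_map]
  congr 1 <;> · funext i; simp

/-- the image of `A` under a field automorphism -/
def guR (ρ : F ≃+* F) (A : GU n F q) : GU n F q :=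
  ⟨GeneralLinearGroup.map (ρ : F →+* F) (A : GL (Fin n) F), fun u v => gmR_isom ρ A u v⟩

omit [Fintype F] in
theorem gm_guR (ρ : F ≃+* F) (A : GU n F q) : gm (guR ρ A) = (gm A).map ρ := rfl

omit [Fintype F] in
theorem guR_mulVec (ρ : F ≃+* F) (A : GU n F q) (x : Fin n → F) :
    (gm (guR ρ A) *ᵥ fun i => ρ (x i)) = fun i => ρ ((gm A *ᵥ x) i) := by
  funext i
  simp [Matrix.mulVec, dotProduct, gm_guR, map_sum]

omit [Fintype F] in
/-- Composition. -/
theorem toAut_mul (A B : GU n F q) (ρ ψ : F ≃+* F) :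
    toAut A ρ * toAut B ψ = toAut (A * guR ρ B) (ψ.trans ρ) := by
  ext x
  obtain ⟨g, rfl⟩ := pr_surjective x
  rw [MulAut.mul_apply, toAut_pr, toAut_pr, toAut_pr]
  congr 1
  apply ext_act
  intro x
  have hx : x = gm (A * guR ρ B) *ᵥ fun i => (ψ.trans ρ)
      ((fun j => (ψ.trans ρ).symm ((gm (A * guR ρ B)⁻¹ *ᵥ x) j)) i) := by
    have : (fun i => (ψ.trans ρ) ((fun j => (ψ.trans ρ).symm ((gm (A * guR ρ B)⁻¹ *ᵥ x) j)) i)) =
        gm (A * guR ρ B)⁻¹ *ᵥ x := by
      funext i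
      exact (ψ.trans ρ).apply_symm_apply _
    rw [this, gm_mulVec_inv]
  rw [hx]
  generalize (fun j => (ψ.trans ρ).symm ((gm (A * guR ρ B)⁻¹ *ᵥ x) j)) = y
  rw [act_semiConj, gm_mul, ← mulVec_mulVec, ← mulVec_mulVec]
  have h1 : ∀ z : Fin n → F, (gm (guR ρ B) *ᵥ fun i => (ψ.trans ρ) (z i)) =
      fun i => ρ ((gm B *ᵥ fun i => ψ (z i)) i) := fun z => guR_mulVec ρ B (fun i => ψ (z i))
  rw [h1, h1, act_semiConj]
  congr 1
  funext i
  congr 1
  exact congrFun (act_semiConj B ψ g y) i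

omit [Fintype F] in
theorem toAut_one : toAut (1 : GU n F q) (RingEquiv.refl F) = 1 := by
  ext x
  obtain ⟨g, rfl⟩ := pr_surjective x
  rw [toAut_pr, MulAut.one_apply]
  congr 1
  apply ext_act
  intro x
  have h := act_semiConj (1 : GU n F q) (RingEquiv.refl F) g x
  rw [gm_one, one_mulVec, one_mulVec] at h
  exact h

end Comp

/-- An outer diagonal times inner involution is inner. -/
theorem inner_of_refl {F : Type*} [Field F] [Fintype F] (hF : Fintype.card F = 2 ^ 2) {A : GU 6 F 2}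
    (h : toAut A (RingEquiv.refl F) * toAut A (RingEquiv.refl F) = 1) :
    ∃ x, toAut A (RingEquiv.refl F) = MulAut.conj x := by
  rw [toAut_mul, ← toAut_one] at h
  obtain ⟨-, c, hc, h2⟩ := eq_of_toAut_eq hF (by norm_num) h
  have hd : (gm A).det ≠ 0 := by
    have h3 := congrArg Matrix.det (gm_mul_inv A)
    rw [det_mul, det_one] at h3
    intro h4
    rw [h4, zero_mul] at h3
    exact zero_ne_one h3
  have hc3 : c ^ 3 = 1 := by linear_combination hc
  have h3 : (gm A).det ^ 2 = 1 := by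
    have h4 := congrArg Matrix.det h2
    rw [gm_one, det_one, det_smul, gm_mul, det_mul, gm_guR] at h4
    have h5 : (gm A).map (RingEquiv.refl F) = gm A := by ext i j; rfl
    rw [h5, Fintype.card_fin] at h4
    have h6 : c ^ 6 = 1 := by
      have : c ^ 6 = (c ^ 3) ^ 2 := by ring
      rw [this, hc3, one_pow]
    rw [h6] at h4
    linear_combination -h4
  have h4 := cube hF hd
  have h5 : (gm A).det = 1 := by linear_combination h4 - (gm A).det * h3
  let a : SU 6 F 2 := mkSU (gm A) h5 (herm_gm A)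
  refine ⟨pr 6 F 2 a, ?_⟩
  ext x
  obtain ⟨g, rfl⟩ := pr_surjective x
  rw [toAut_pr, MulAut.conj_apply, ← map_mul, ← map_inv, ← map_mul]
  congr 1
  apply ext_act
  intro x
  have hx : x = gm A *ᵥ (gm A⁻¹ *ᵥ x) := (gm_mulVec_inv A x).symm
  rw [hx]
  generalize gm A⁻¹ *ᵥ x = y
  have h6 := act_semiConj A (RingEquiv.refl F) g y
  have h7 : ∀ z : Fin 6 → F, (fun i => (RingEquiv.refl F) (z i)) = z := fun z => rfl
  rw [h7, h7] at h6
  rw [h6]
  have h8 : ∀ z, gm A *ᵥ z = ac a z := fun z => rfl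
  rw [h8, h8, act_mul, act_mul, act_inv_act]

/-! ### Semilinear involutions -/

section Semi

variable {F : Type*} [Field F] [Fintype F]

/-- the semilinear map `x ↦ A ρ(x)` -/
def tt (A : GU 6 F 2) (ρ : F ≃+* F) (x : Fin 6 → F) : Fin 6 → F := gm A *ᵥ fun i => ρ (x i)

/-- a semilinear involution -/
structure Inv (A : GU 6 F 2) (ρ : F ≃+* F) : Prop where
  card : Fintype.card F = 2 ^ 2
  frob : ∀ x : F, ρ x = x ^ 2
  sq : ∀ x : Fin 6 → F, tt A ρ (tt A ρ x) = x

omit [Fintype F] in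
theorem tt_add (A : GU 6 F 2) (ρ : F ≃+* F) (x y : Fin 6 → F) : tt A ρ (x + y) = tt A ρ x + tt A ρ y := by
  rw [tt, tt, tt, ← mulVec_add]
  congr 1
  funext i
  simp

omit [Fintype F] in
theorem tt_smul (A : GU 6 F 2) (ρ : F ≃+* F) (c : F) (x : Fin 6 → F) : tt A ρ (c • x) = ρ c • tt A ρ x := by
  rw [tt, tt, ← mulVec_smul]
  congr 1
  funext i
  simp

omit [Fintype F] in
theorem tt_zero (A : GU 6 F 2) (ρ : F ≃+* F) : tt A ρ 0 = 0 := by
  have h := tt_smul A ρ 0 (0 : Fin 6 → F)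
  rw [map_zero, zero_smul, zero_smul] at h
  exact h

omit [Fintype F] in
theorem herm_tt (A : GU 6 F 2) (ρ : F ≃+* F) (x y : Fin 6 → F) :
    hermForm 6 F 2 (tt A ρ x) (tt A ρ y) = ρ (hermForm 6 F 2 x y) := herm_semi A ρ x y

omit [Fintype F] in
theorem tt_injective (A : GU 6 F 2) (ρ : F ≃+* F) : Function.Injective (tt A ρ) := by
  intro x y h
  have h1 := congrArg (fun z => gm A⁻¹ *ᵥ z) h
  simp only [tt, gm_inv_mulVec] at h1
  funext i
  exact ρ.injective (congrFun h1 i)

theorem inv_of (hF : Fintype.card F = 2 ^ 2) {A : GU 6 F 2} {ρ : F ≃+* F} (hρ : ρ ≠ RingEquiv.refl F)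
    (h : toAut A ρ * toAut A ρ = 1) : Inv A ρ := by
  have hfrob := frob hF hρ
  have hρρ : ∀ x : F, ρ (ρ x) = x := by
    intro x
    rw [hfrob, hfrob, ← pow_mul]
    exact pow4 hF x
  refine ⟨hF, hfrob, ?_⟩
  rw [toAut_mul, ← toAut_one] at h
  obtain ⟨-, c, hc, h2⟩ := eq_of_toAut_eq hF (by norm_num) h
  have hc0 : c ≠ 0 := by
    rintro rfl
    rw [zero_mul] at hc
    exact zero_ne_one hc
  have h3 : ∀ x : Fin 6 → F, tt A ρ (tt A ρ x) = c⁻¹ • x := by
    intro x
    have h4 : x = c • tt A ρ (tt A ρ x) := by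
      have h5 : gm (1 : GU 6 F 2) *ᵥ x = (c • gm (A * guR ρ A)) *ᵥ x := by rw [← h2]
      rw [gm_one, one_mulVec, smul_mulVec, gm_mul, ← mulVec_mulVec] at h5
      have h6 : x = fun i => ρ (ρ (x i)) := by
        funext i
        rw [hρρ]
      rw [h6, guR_mulVec] at h5
      rw [← h6] at h5
      exact h5
    rw [eq_comm, inv_smul_eq_iff₀ hc0]
    exact h4
  have h4 : ρ c⁻¹ = c⁻¹ := by
    have h5 : ∀ x : Fin 6 → F, ρ c⁻¹ • tt A ρ x = c⁻¹ • tt A ρ x := by
      intro x
      rw [← tt_smul, ← h3, h3 (tt A ρ x)]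
    obtain ⟨x, hx⟩ : ∃ x : Fin 6 → F, tt A ρ x ≠ 0 := by
      refine ⟨Pi.single 0 1, fun h => ?_⟩
      have h6 := tt_injective A ρ (h.trans (tt_zero A ρ).symm)
      have h7 := congrFun h6 0
      rw [Pi.single_eq_same, Pi.zero_apply] at h7
      exact one_ne_zero h7
    have h6 := sub_eq_zero.mpr (h5 x)
    rw [← sub_smul] at h6
    exact sub_eq_zero.mp ((smul_eq_zero.mp h6).resolve_right hx)
  rw [hfrob] at h4
  have h5 : c⁻¹ = 1 := by
    have h6 : c⁻¹ * (c⁻¹ - 1) = 0 := by linear_combination h4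
    exact sub_eq_zero.mp ((mul_eq_zero.mp h6).resolve_left (inv_ne_zero hc0))
  intro x
  rw [h3, h5, one_smul]

end Semi

end Cfsg.Agent.OddHalf.NI3.Ex.USix
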