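import Cfsg.Agent.OddHalf.NI3.Ex.USixOdd

/-!
# (EX), (EX3): the row `U₆(2)`, the form is alternating (helper5)
-/

set_option autoImplicit false
set_option linter.unusedSectionVars false

namespace Cfsg.Agent.OddHalf.NI3.Ex.USix

open Cfsg Cfsg.Agent.LieClassical.HermBasic Cfsg.Agent.LieClassical.HermSiegel
  Cfsg.Agent.LieClassical.HermGen Cfsg.Agent.LieClassical.SUBasic
  Cfsg.Agent.ClassicalGeometry.UnitAutBasic Cfsg.Agent.LieClassical.FieldTransfer
  Cfsg.Agent.ClassicalGeometry.PSUAutCount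
  Cfsg.Agent.ClassicalGeometry.PSUAutMain Matrix

/-- the action on vectors -/
local notation "ac" => Cfsg.Agent.LieClassical.HermSiegel.act

section Alt

variable {F : Type*} [Field F] [Fintype F] {A : GU 6 F 2} {ρ : F ≃+* F} (I : Inv A ρ)

/-- A symplectic basis of `V₀` -/
theorem exists_basis (h : ∀ x : V0 A ρ, lam I x = 0) :
    ∃ v : Fin 3 ⊕ Fin 3 → (Fin 6 → F), (∀ s, v s ∈ V0 A ρ) ∧
      ∀ s s', hermForm 6 F 2 (v s) (v s') = Matrix.J (Fin 3) F s s' := by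
  have hfd : FiniteDimensional (k2 ρ) (V0 A ρ) := FiniteDimensional.of_finrank_eq_succ (finrank_V0 I)
  have hAlt : (form I).IsAlt := fun x => h x
  obtain ⟨m, n, b, h1, h2, h3, h4⟩ := S0752.result (form I) hAlt
  have hn : n = 0 := by
    by_contra hn
    have h5 : b (Sum.inr ⟨0, by omega⟩) = 0 := by
      refine nondeg I fun y => ?_
      have h6 := h4 ⟨0, by omega⟩ y
      rw [← coe_form I, h6]
      rfl
    exact b.ne_zero _ h5
  subst hn
  have hm : m = 3 := by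
    have h5 := Module.finrank_eq_card_basis b
    rw [finrank_V0 I] at h5
    simp at h5
    omega
  subst hm
  have hneg : (-1 : F) = 1 := by linear_combination -(add_self I.card (1 : F))
  refine ⟨fun s => (b (Sum.inl s) : Fin 6 → F), fun s => (b (Sum.inl s)).2, ?_⟩
  have key : ∀ s s' : Fin 3 ⊕ Fin 3, ((form I (b (Sum.inl s)) (b (Sum.inl s')) : k2 ρ) : F) =
      Matrix.J (Fin 3) F s s' := by
    rintro (i | i) (j | j)
    · rw [h2]
      simp [Matrix.J]
    · rw [h1]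
      simp only [Matrix.J, Matrix.fromBlocks_apply₁₂, Matrix.neg_apply, Matrix.one_apply]
      split_ifs
      · exact hneg.symm
      · simp
    · have h5 : form I (b (Sum.inl (Sum.inr i))) (b (Sum.inl (Sum.inl j))) =
          form I (b (Sum.inl (Sum.inl j))) (b (Sum.inl (Sum.inr i))) := by
        apply Subtype.ext
        rw [coe_form, coe_form]
        exact herm_comm I (b (Sum.inl (Sum.inl j))).2 (b (Sum.inl (Sum.inr i))).2
      rw [h5, h1]
      simp only [Matrix.J, Matrix.fromBlocks_apply₂₁, Matrix.one_apply]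
      by_cases hij : i = j
      · subst hij
        simp
      · rw [if_neg hij, if_neg (Ne.symm hij)]
        rfl
    · rw [h3]
      simp [Matrix.J]
  intro s s'
  rw [← coe_form I]
  exact key s s'

/-- the columns are a symplectic basis -/
structure Sb (A : GU 6 F 2) (ρ : F ≃+* F) (P : Matrix (Fin 6) (Fin 3 ⊕ Fin 3) F) : Prop where
  mem : ∀ s, (fun i => P i s) ∈ V0 A ρ
  gram : Pᵀ * P.map (fun x => x ^ 2) = Matrix.J (Fin 3) F

theorem exists_sb (h : ∀ x : V0 A ρ, lam I x = 0) : ∃ P, Sb A ρ P := by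
  obtain ⟨v, h1, h2⟩ := exists_basis I h
  refine ⟨fun i s => v s i, h1, ?_⟩
  ext s s'
  rw [Matrix.mul_apply, ← h2 s s']
  rfl

variable {P : Matrix (Fin 6) (Fin 3 ⊕ Fin 3) F} (S : Sb A ρ P)

/-- the inverse of `P` -/
def Q (P : Matrix (Fin 6) (Fin 3 ⊕ Fin 3) F) : Matrix (Fin 3 ⊕ Fin 3) (Fin 6) F :=
  Matrix.J (Fin 3) F * (P.map (fun x => x ^ 2))ᵀ

include S in
theorem Q_mul : Q P * P = 1 := by
  have h1 : (P.map (fun x => x ^ 2))ᵀ * P = -Matrix.J (Fin 3) F := by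
    rw [← Matrix.J_transpose, ← S.gram, Matrix.transpose_mul, Matrix.transpose_transpose]
  rw [Q, Matrix.mul_assoc, h1, Matrix.mul_neg, Matrix.J_squared, neg_neg]

include S in
theorem mul_Q : P * Q P = 1 := (Matrix.mul_eq_one_comm_of_card_eq _ _ _ (by simp)).mp (Q_mul S)

include S in
theorem tt_P (y : Fin 3 ⊕ Fin 3 → F) : tt A ρ (P *ᵥ y) = P *ᵥ (fun s => ρ (y s)) := by
  have h1 : ∀ z : Fin 3 ⊕ Fin 3 → F, P *ᵥ z = ∑ s, z s • (fun i => P i s) := by
    intro z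
    funext i
    simp [Matrix.mulVec, dotProduct, mul_comm]
  have h2 : ∀ (T : Finset (Fin 3 ⊕ Fin 3)) (f : Fin 3 ⊕ Fin 3 → (Fin 6 → F)),
      tt A ρ (∑ s ∈ T, f s) = ∑ s ∈ T, tt A ρ (f s) := by
    intro T f
    induction T using Finset.induction_on with
    | empty => simp [tt_zero]
    | insert a T ha ih => rw [Finset.sum_insert ha, Finset.sum_insert ha, tt_add, ih]
  rw [h1, h2, h1]
  refine Finset.sum_congr rfl fun s _ => ?_
  rw [tt_smul, mem_V0.mp (S.mem s)]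

include S in
theorem herm_P (y z : Fin 3 ⊕ Fin 3 → F) (hF : Fintype.card F = 2 ^ 2) :
    hermForm 6 F 2 (P *ᵥ y) (P *ᵥ z) = y ⬝ᵥ (Matrix.J (Fin 3) F *ᵥ (fun s => z s ^ 2)) := by
  have h1 : hermForm 6 F 2 (P *ᵥ y) (P *ᵥ z) = (P *ᵥ y) ⬝ᵥ (fun i => ((P *ᵥ z) i) ^ 2) := rfl
  have h2 : (fun i => ((P *ᵥ z) i) ^ 2) = P.map (fun x => x ^ 2) *ᵥ (fun s => z s ^ 2) := by
    funext i
    simp only [Matrix.mulVec, dotProduct, Matrix.map_apply]
    rw [sum_pow_q hF]
    exact Finset.sum_congr rfl fun s _ => mul_pow _ _ _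
  rw [h1, h2, ← S.gram, ← Matrix.mulVec_mulVec, Matrix.dotProduct_mulVec _ Pᵀ, Matrix.vecMul_transpose]

/-- the matrix of `M` on `V` -/
def fm (P : Matrix (Fin 6) (Fin 3 ⊕ Fin 3) F) (M : Matrix (Fin 3 ⊕ Fin 3) (Fin 3 ⊕ Fin 3) (k2 ρ)) :
    Matrix (Fin 6) (Fin 6) F := P * M.map (fun x => (x : F)) * Q P

include S in
theorem fm_mul (M N : Matrix (Fin 3 ⊕ Fin 3) (Fin 3 ⊕ Fin 3) (k2 ρ)) : fm P (M * N) = fm P M * fm P N := by
  have h1 : (M * N).map (fun x : k2 ρ => (x : F)) = M.map (fun x => (x : F)) * N.map (fun x => (x : F)) :=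
    Matrix.map_mul (f := (k2 ρ).subtype)
  rw [fm, fm, fm, h1]
  generalize M.map (fun x : k2 ρ => (x : F)) = M'
  generalize N.map (fun x : k2 ρ => (x : F)) = N'
  have h2 : P * M' * Q P * (P * N' * Q P) = P * M' * (Q P * P) * N' * Q P := by simp only [Matrix.mul_assoc]
  rw [h2, Q_mul S, Matrix.mul_one]
  simp only [Matrix.mul_assoc]

include S in
theorem fm_one : fm P (1 : Matrix (Fin 3 ⊕ Fin 3) (Fin 3 ⊕ Fin 3) (k2 ρ)) = 1 := by
  have h1 : (1 : Matrix (Fin 3 ⊕ Fin 3) (Fin 3 ⊕ Fin 3) (k2 ρ)).map (fun x : k2 ρ => (x : F)) = 1 :=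
    Matrix.map_one (k2 ρ).subtype (map_zero _) (map_one _)
  rw [fm, h1, Matrix.mul_one, mul_Q S]

include S in
theorem fm_P (M : Matrix (Fin 3 ⊕ Fin 3) (Fin 3 ⊕ Fin 3) (k2 ρ)) (y : Fin 3 ⊕ Fin 3 → F) :
    fm P M *ᵥ (P *ᵥ y) = P *ᵥ (M.map (fun x => (x : F)) *ᵥ y) := by
  rw [fm, ← Matrix.mulVec_mulVec, ← Matrix.mulVec_mulVec, Matrix.mulVec_mulVec y (Q P) P, Q_mul S, Matrix.one_mulVec]

include S in
theorem exists_P (x : Fin 6 → F) : ∃ y, x = P *ᵥ y :=
  ⟨Q P *ᵥ x, by rw [Matrix.mulVec_mulVec, mul_Q S, Matrix.one_mulVec]⟩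

include S in
theorem fm_tt (M : Matrix (Fin 3 ⊕ Fin 3) (Fin 3 ⊕ Fin 3) (k2 ρ)) (x : Fin 6 → F) :
    fm P M *ᵥ tt A ρ x = tt A ρ (fm P M *ᵥ x) := by
  obtain ⟨y, rfl⟩ := exists_P S x
  rw [tt_P S, fm_P S, fm_P S, tt_P S]
  congr 1
  funext s
  simp only [Matrix.mulVec, dotProduct, Matrix.map_apply, map_sum, map_mul]
  exact Finset.sum_congr rfl fun s' _ => by rw [mem_k2.mp (M s s').2]

include S I in
theorem fm_herm {M : Matrix (Fin 3 ⊕ Fin 3) (Fin 3 ⊕ Fin 3) (k2 ρ)}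
    (hM : M ∈ Matrix.symplecticGroup (Fin 3) (k2 ρ)) (u v : Fin 6 → F) :
    hermForm 6 F 2 (fm P M *ᵥ u) (fm P M *ᵥ v) = hermForm 6 F 2 u v := by
  obtain ⟨y, rfl⟩ := exists_P S u
  obtain ⟨z, rfl⟩ := exists_P S v
  rw [fm_P S, fm_P S, herm_P S _ _ I.card, herm_P S _ _ I.card]
  have h1 : (fun s => (M.map (fun x : k2 ρ => (x : F)) *ᵥ z) s ^ 2) =
      M.map (fun x : k2 ρ => (x : F)) *ᵥ (fun s => z s ^ 2) := by
    funext s
    simp only [Matrix.mulVec, dotProduct, Matrix.map_apply]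
    rw [sum_pow_q I.card]
    refine Finset.sum_congr rfl fun s' _ => ?_
    rw [mul_pow, ← I.frob (M s s' : F), mem_k2.mp (M s s').2]
  have h3 : M.map (fun x : k2 ρ => (x : F)) ∈ Matrix.symplecticGroup (Fin 3) F :=
    SymplecticGroup.map_mem hM (k2 ρ).subtype
  have h2 := SymplecticGroup.mem_iff'.mp h3
  rw [h1, ← Matrix.vecMul_transpose, Matrix.dotProduct_mulVec, Matrix.vecMul_vecMul, Matrix.dotProduct_mulVec,
    Matrix.vecMul_vecMul, h2, ← Matrix.dotProduct_mulVec]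

include S I in
theorem fm_det {M : Matrix (Fin 3 ⊕ Fin 3) (Fin 3 ⊕ Fin 3) (k2 ρ)}
    (hM : M ∈ Matrix.symplecticGroup (Fin 3) (k2 ρ)) : (fm P M).det = 1 := by
  have h1 : fm P M * gm A = gm A * (fm P M).map ρ := by
    apply Matrix.ext_of_mulVec_single
    intro i
    rw [← Matrix.mulVec_mulVec, ← Matrix.mulVec_mulVec]
    have h2 := fm_tt S M (Pi.single i 1)
    have h3 : (fun j => ρ ((Pi.single i 1 : Fin 6 → F) j)) = Pi.single i 1 := by
      funext j
      by_cases hj : j = i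
      · subst hj; simp
      · rw [Pi.single_eq_of_ne hj, map_zero]
    have h4 : (fun j => ρ ((fm P M *ᵥ Pi.single i 1) j)) = (fm P M).map ρ *ᵥ Pi.single i 1 := by
      funext j
      rw [Matrix.mulVec_single_one, Matrix.mulVec_single_one]
      rfl
    rw [tt, tt, h3, h4] at h2
    exact h2
  have h2 := congrArg Matrix.det h1
  rw [det_mul, det_mul, mul_comm] at h2
  have hd : (gm A).det ≠ 0 := by
    have h3 := congrArg Matrix.det (gm_mul_inv A)
    rw [det_mul, det_one] at h3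
    intro h4
    rw [h4, zero_mul] at h3
    exact zero_ne_one h3
  have h3 := mul_left_cancel₀ hd h2
  have h4 : ((fm P M).map ρ).det = ρ (fm P M).det := (RingHom.map_det (ρ : F →+* F) (fm P M)).symm
  rw [h4, I.frob] at h3
  have h5 : (fm P M).det ≠ 0 := by
    intro h6
    obtain ⟨v, hv, hv0⟩ := Matrix.exists_mulVec_eq_zero_iff.mpr h6
    apply hv
    refine herm_nondeg I.card fun u => ?_
    rw [← fm_herm I S hM, hv0, herm_zero_left]
  have h6 : (fm P M).det * ((fm P M).det - 1) = 0 := by linear_combination -h3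
  exact sub_eq_zero.mp ((mul_eq_zero.mp h6).resolve_left h5)

/-- `Sp₆(2)` in `C(t)` -/
noncomputable def phi (I : Inv A ρ) (S : Sb A ρ P) : Matrix.symplecticGroup (Fin 3) (k2 ρ) →* Gam A ρ where
  toFun M := ⟨mkSU (fm P M.1) (fm_det I S M.2) (fm_herm I S M.2), fun x => fm_tt S M.1 x⟩
  map_one' := by
    apply Subtype.ext
    apply mat_injective
    rw [mat_mkSU]
    exact fm_one S
  map_mul' M N := by
    apply Subtype.ext
    apply mat_injective
    rw [mat_mkSU, Subgroup.coe_mul, mat_mul, mat_mkSU, mat_mkSU]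
    exact fm_mul S M.1 N.1

theorem phi_injective : Function.Injective (phi I S) := by
  intro M N h
  have h1 : fm P M.1 = fm P N.1 := congrArg (fun g : Gam A ρ => mat (g : SU 6 F 2)) h
  have h2 : ∀ K : Matrix (Fin 3 ⊕ Fin 3) (Fin 3 ⊕ Fin 3) (k2 ρ),
      Q P * fm P K * P = K.map (fun x => (x : F)) := by
    intro K
    rw [fm]
    generalize K.map (fun x : k2 ρ => (x : F)) = K'
    have h3 : Q P * (P * K' * Q P) * P = (Q P * P) * K' * (Q P * P) := by simp only [Matrix.mul_assoc]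
    rw [h3, Q_mul S, Matrix.one_mul, Matrix.mul_one]
  have h3 := h2 M.1
  rw [h1, h2 N.1] at h3
  apply Subtype.ext
  ext i j
  exact (congrFun (congrFun h3 i) j).symm

include I in
/-- **The form is alternating: `2⁹ ∣ |C(t)|`.** -/
theorem alt_case (h : ∀ x : V0 A ρ, lam I x = 0) : 2 ^ 9 ∣ Nat.card (Gam A ρ) := by
  obtain ⟨P, S⟩ := exists_sb I h
  have h1 := Subgroup.card_dvd_of_injective (phi I S) (phi_injective I S)
  have : Fintype (k2 ρ) := Fintype.ofFinite _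
  have h2 := card_k2 I
  rw [Nat.card_eq_fintype_card] at h2
  rw [S0245.result h2 3] at h1
  exact (Dvd.intro _ rfl).trans h1

end Alt

end Cfsg.Agent.OddHalf.NI3.Ex.USix
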