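import Cfsg.Agent.OddHalf.NI3.Ex.USix
import Cfsg.Agent.S0752
import Cfsg.Agent.S0245

/-!
# (EX), (EX3): the row `U₆(2)`, the fixed points of a semilinear involution (helper5)
-/

set_option autoImplicit false
set_option linter.unusedSectionVars false

namespace Cfsg.Agent.OddHalf.NI3.Ex.USix

open Cfsg Cfsg.Agent.LieClassical.HermBasic Cfsg.Agent.LieClassical.HermSiegel
  Cfsg.Agent.LieClassical.HermGen Cfsg.Agent.LieClassical.SUBasic
  Cfsg.Agent.ClassicalGeometry.UnitAutBasic Cfsg.Agent.LieClassical.FieldTransfer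
  Cfsg.Agent.ClassicalGeometry.PSUAutCount
  Cfsg.Agent.ClassicalGeometry.PSUAutMain Matrix

/-- the action on vectors -/
local notation "ac" => Cfsg.Agent.LieClassical.HermSiegel.act

/-! ### The order of the general linear group -/

theorem card_aut {K V : Type*} [Field K] [Fintype K] [AddCommGroup V] [Module K V] [FiniteDimensional K V] {n : ℕ}
    (hn : Module.finrank K V = n) :
    Nat.card (V ≃ₗ[K] V) = ∏ i : Fin n, (Fintype.card K ^ n - Fintype.card K ^ (i : ℕ)) := by
  classical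
  have b : Module.Basis (Fin n) K V := Module.finBasisOfFinrankEq K V hn
  rw [← Matrix.card_GL_field]
  exact (Nat.card_congr ((Matrix.GeneralLinearGroup.toLin' b).trans
    (LinearMap.GeneralLinearGroup.generalLinearEquiv K V)).toEquiv).symm

section Geom

variable {F : Type*} [Field F] [Fintype F]

/-- the field with two elements -/
def k2 (ρ : F ≃+* F) : Subfield F := RingHom.eqLocusField (ρ : F →+* F) (RingHom.id F)

omit [Fintype F] in
theorem mem_k2 {ρ : F ≃+* F} {x : F} : x ∈ k2 ρ ↔ ρ x = x := Iff.rfl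

variable {A : GU 6 F 2} {ρ : F ≃+* F} (I : Inv A ρ)

include I in
theorem card_k2 : Nat.card (k2 ρ) = 2 := by
  rw [← card_fixed I.card]
  refine Nat.card_congr (Equiv.subtypeEquivRight fun x => ?_)
  rw [← I.frob x]
  exact mem_k2

/-- the fixed points -/
def V0 (A : GU 6 F 2) (ρ : F ≃+* F) : Submodule (k2 ρ) (Fin 6 → F) where
  carrier := {x | tt A ρ x = x}
  add_mem' := by
    intro x y hx hy
    rw [Set.mem_ofPred_eq] at hx hy ⊢
    rw [tt_add, hx, hy]
  zero_mem' := tt_zero A ρ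
  smul_mem' := by
    intro c x hx
    rw [Set.mem_ofPred_eq] at hx ⊢
    have h1 : c • x = (c : F) • x := rfl
    rw [h1, tt_smul, mem_k2.mp c.2, hx]

omit [Fintype F] in
theorem mem_V0 {x : Fin 6 → F} : x ∈ V0 A ρ ↔ tt A ρ x = x := Iff.rfl

include I in
theorem s_mem (x : Fin 6 → F) : x + tt A ρ x ∈ V0 A ρ := by
  rw [mem_V0, tt_add, I.sq, add_comm]

include I in
/-- `V` is spanned by `V₀` -/
theorem exists_decomp {w : F} (hw : w ^ 2 + w + 1 = 0) (x : Fin 6 → F) :
    ∃ a b : V0 A ρ, x = (a : Fin 6 → F) + w • (b : Fin 6 → F) := by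
  refine ⟨⟨w • x + tt A ρ (w • x), s_mem I _⟩ + ⟨x + tt A ρ x, s_mem I _⟩, ⟨x + tt A ρ x, s_mem I _⟩, ?_⟩
  rw [Submodule.coe_add]
  simp only
  rw [tt_smul, I.frob]
  funext i
  simp only [Pi.add_apply, Pi.smul_apply, smul_eq_mul]
  have h2 := add_self I.card (tt A ρ x i)
  have h3 := add_self I.card (x i)
  have h4 := add_self I.card (w * x i)
  linear_combination (-(1 : F)) * tt A ρ x i * hw - h4

include I in
theorem decomp_unique {w : F} (hw : w ^ 2 + w + 1 = 0) {a b : V0 A ρ}
    (h : (a : Fin 6 → F) + w • (b : Fin 6 → F) = 0) : a = 0 ∧ b = 0 := by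
  have h1 := congrArg (tt A ρ) h
  rw [tt_add, tt_smul, tt_zero, mem_V0.mp a.2, mem_V0.mp b.2, I.frob] at h1
  have h2 : (b : Fin 6 → F) = 0 := by
    funext i
    have h3 := congrFun h i
    have h4 := congrFun h1 i
    simp only [Pi.add_apply, Pi.smul_apply, smul_eq_mul, Pi.zero_apply] at h3 h4 ⊢
    linear_combination (b : Fin 6 → F) i * hw - h4 - h3 + add_self I.card ((a : Fin 6 → F) i)
  have h3 : (a : Fin 6 → F) = 0 := by
    rw [h2, smul_zero, add_zero] at h
    exact h
  exact ⟨Subtype.ext h3, Subtype.ext h2⟩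

include I in
theorem card_V0 : Nat.card (V0 A ρ) = 64 := by
  obtain ⟨w, hw⟩ := exists_omega I.card
  have h1 : Function.Bijective (fun p : V0 A ρ × V0 A ρ => (p.1 : Fin 6 → F) + w • (p.2 : Fin 6 → F)) := by
    constructor
    · rintro ⟨a, b⟩ ⟨c, d⟩ h
      have h2 : ((a - c : V0 A ρ) : Fin 6 → F) + w • ((b - d : V0 A ρ) : Fin 6 → F) = 0 := by
        rw [Submodule.coe_sub, Submodule.coe_sub, smul_sub]
        have h3 : (a : Fin 6 → F) + w • (b : Fin 6 → F) = (c : Fin 6 → F) + w • (d : Fin 6 → F) := h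
        linear_combination (exp := 1) h3
      obtain ⟨h3, h4⟩ := decomp_unique I hw h2
      rw [sub_eq_zero.mp h3, sub_eq_zero.mp h4]
    · intro x
      obtain ⟨a, b, h⟩ := exists_decomp I hw x
      exact ⟨(a, b), h.symm⟩
  have h2 := Nat.card_congr (Equiv.ofBijective _ h1)
  rw [Nat.card_prod, Nat.card_fun, Nat.card_eq_fintype_card (α := F), I.card] at h2
  norm_num at h2
  nlinarith [h2]

include I in
theorem finrank_V0 : Module.finrank (k2 ρ) (V0 A ρ) = 6 := by
  have : Finite (Fin 6 → F) := inferInstance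
  have h1 : Nat.card (V0 A ρ) = Nat.card (k2 ρ) ^ Module.finrank (k2 ρ) (V0 A ρ) := by
    have : Fintype (k2 ρ) := Fintype.ofFinite _
    have : Fintype (V0 A ρ) := Fintype.ofFinite _
    rw [Nat.card_eq_fintype_card, Nat.card_eq_fintype_card]
    exact Module.card_eq_pow_finrank
  rw [card_V0 I, card_k2 I] at h1
  have h2 : (64 : ℕ) = 2 ^ 6 := by norm_num
  rw [h2] at h1
  exact (Nat.pow_right_injective le_rfl h1).symm

/-! ### The form -/

include I in
theorem herm_mem {x y : Fin 6 → F} (hx : x ∈ V0 A ρ) (hy : y ∈ V0 A ρ) : hermForm 6 F 2 x y ∈ k2 ρ := by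
  rw [mem_k2, ← herm_tt, mem_V0.mp hx, mem_V0.mp hy]

include I in
theorem herm_comm {x y : Fin 6 → F} (hx : x ∈ V0 A ρ) (hy : y ∈ V0 A ρ) :
    hermForm 6 F 2 y x = hermForm 6 F 2 x y := by
  rw [herm_swap I.card, ← I.frob]
  exact mem_k2.mp (herm_mem I hx hy)

/-- the symmetric form on `V₀` -/
noncomputable def form (I : Inv A ρ) : LinearMap.BilinForm (k2 ρ) (V0 A ρ) :=
  LinearMap.mk₂ (k2 ρ) (fun x y => ⟨hermForm 6 F 2 x y, herm_mem I x.2 y.2⟩)
    (fun x x' y => Subtype.ext (herm_add_left _ _ _))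
    (fun c x y => Subtype.ext (herm_smul_left _ _ _))
    (fun x y y' => Subtype.ext (herm_add_right I.card _ _ _))
    (fun c x y => Subtype.ext (by
      have h1 := herm_smul_right (q := 2) (c : F) (x : Fin 6 → F) y
      rw [← I.frob, mem_k2.mp c.2] at h1
      exact h1))

theorem coe_form (x y : V0 A ρ) : ((form I x y : k2 ρ) : F) = hermForm 6 F 2 x y := rfl

include I in
theorem nondeg {x : V0 A ρ} (h : ∀ y : V0 A ρ, hermForm 6 F 2 (x : Fin 6 → F) y = 0) : x = 0 := by
  obtain ⟨w, hw⟩ := exists_omega I.card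
  apply Subtype.ext
  refine herm_nondeg I.card fun v => ?_
  obtain ⟨a, b, rfl⟩ := exists_decomp I hw v
  rw [herm_add_right I.card, herm_smul_right, h, h, mul_zero, add_zero]

/-- `x ↦ (x, x)` -/
noncomputable def lam (I : Inv A ρ) : V0 A ρ →ₗ[k2 ρ] k2 ρ where
  toFun x := form I x x
  map_add' x y := by
    apply Subtype.ext
    rw [Subfield.coe_add, coe_form, coe_form, coe_form, Submodule.coe_add, herm_add_left, herm_add_right I.card,
      herm_add_right I.card, herm_comm I x.2 y.2]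
    linear_combination add_self I.card (hermForm 6 F 2 (x : Fin 6 → F) y)
  map_smul' c x := by
    apply Subtype.ext
    rw [coe_form]
    have h1 : ((c • x : V0 A ρ) : Fin 6 → F) = (c : F) • (x : Fin 6 → F) := rfl
    have hc := mem_k2.mp c.2
    rw [I.frob] at hc
    rw [h1, herm_smul_left, herm_smul_right, ← mul_assoc, hc]
    have h2 : (c : F) * c = c := by linear_combination hc
    rw [h2]
    rfl

theorem coe_lam (x : V0 A ρ) : ((lam I x : k2 ρ) : F) = hermForm 6 F 2 x x := rfl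

/-! ### The centralizer -/

/-- the centralizer of `t` in `SU` -/
def Gam (A : GU 6 F 2) (ρ : F ≃+* F) : Subgroup (SU 6 F 2) where
  carrier := {g | ∀ x, ac g (tt A ρ x) = tt A ρ (ac g x)}
  mul_mem' := by
    intro g h hg hh
    rw [Set.mem_ofPred_eq] at hg hh ⊢
    intro x
    rw [act_mul, act_mul, hh, hg]
  one_mem' := by
    rw [Set.mem_ofPred_eq]
    intro x
    rw [act_one, act_one]
  inv_mem' := by
    intro g hg
    rw [Set.mem_ofPred_eq] at hg ⊢
    intro x
    apply act_injective g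
    rw [act_act_inv, hg, act_act_inv]

omit [Fintype F] in
theorem mem_Gam {g : SU 6 F 2} : g ∈ Gam A ρ ↔ ∀ x, ac g (tt A ρ x) = tt A ρ (ac g x) := Iff.rfl

omit [Fintype F] in
theorem act_mem {g : SU 6 F 2} (hg : g ∈ Gam A ρ) {x : Fin 6 → F} (hx : x ∈ V0 A ρ) : ac g x ∈ V0 A ρ := by
  rw [mem_V0, ← mem_Gam.mp hg, mem_V0.mp hx]

/-- the action of `C(t)` on `V₀` -/
def rep (A : GU 6 F 2) (ρ : F ≃+* F) : Gam A ρ →* (V0 A ρ ≃ₗ[k2 ρ] V0 A ρ) where
  toFun g :=
    { toFun := fun x => ⟨ac (g : SU 6 F 2) x, act_mem g.2 x.2⟩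
      map_add' := fun x y => Subtype.ext (act_add _ _ _)
      map_smul' := fun c x => Subtype.ext (act_smul _ _ _)
      invFun := fun x => ⟨ac ((g⁻¹ : Gam A ρ) : SU 6 F 2) x, act_mem (g⁻¹ : Gam A ρ).2 x.2⟩
      left_inv := fun x => Subtype.ext (act_inv_act _ _)
      right_inv := fun x => Subtype.ext (act_act_inv _ _) }
  map_one' := by
    ext x : 1
    exact Subtype.ext (act_one _)
  map_mul' g h := by
    ext x : 1
    exact Subtype.ext (act_mul _ _ _)

omit [Fintype F] in
theorem coe_rep (g : Gam A ρ) (x : V0 A ρ) : ((rep A ρ g x : V0 A ρ) : Fin 6 → F) = ac (g : SU 6 F 2) x := rfl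

include I in
theorem rep_injective : Function.Injective (rep A ρ) := by
  rw [injective_iff_map_eq_one]
  intro g hg
  obtain ⟨w, hw⟩ := exists_omega I.card
  have h1 : ∀ x : V0 A ρ, ac (g : SU 6 F 2) x = x := by
    intro x
    rw [← coe_rep, hg]
    rfl
  apply Subtype.ext
  apply ext_act
  intro v
  obtain ⟨a, b, rfl⟩ := exists_decomp I hw v
  rw [act_add, act_smul, h1, h1]
  exact (act_one _).symm

include I in
theorem card_GL : Nat.card (V0 A ρ ≃ₗ[k2 ρ] V0 A ρ) = 20158709760 := by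
  have : Fintype (k2 ρ) := Fintype.ofFinite _
  have h := card_k2 I
  rw [Nat.card_eq_fintype_card] at h
  rw [card_aut (finrank_V0 I), h]
  decide

include I in
theorem not_729 : ¬ 729 ∣ Nat.card (Gam A ρ) := by
  intro h
  have h1 := h.trans (Subgroup.card_dvd_of_injective (rep A ρ) (rep_injective I))
  rw [card_GL I] at h1
  revert h1
  norm_num

end Geom

end Cfsg.Agent.OddHalf.NI3.Ex.USix
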