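import Cfsg.Agent.OddHalf.NI3.Ex.USixRow
import Cfsg.Agent.S0246
import Cfsg.Agent.U62.Semi2

/-!
# (EX), (EX3): the centralizer `Sp₆(2)` in `U₆(2)` (helper5)

* `fix_iso`: `t` a semilinear involution with alternating form on `C_V(t)`: `C(t) ≃ PSp 3 (k2 ρ)`, `|k2 ρ| = 2`.
* `fix_iso_sem`: the same for `φ : V → V` with `Sem 2 φ`.
-/

set_option autoImplicit false
set_option linter.unusedSectionVars false

namespace Cfsg.Agent.OddHalf.NI3.Ex.USix

open Cfsg Cfsg.Agent.LieClassical.HermBasic Cfsg.Agent.LieClassical.HermSiegel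
  Cfsg.Agent.LieClassical.HermGen Cfsg.Agent.LieClassical.SUBasic
  Cfsg.Agent.ClassicalGeometry.UnitAutBasic Cfsg.Agent.LieClassical.FieldTransfer
  Cfsg.Agent.ClassicalGeometry.PSUAutCount
  Cfsg.Agent.ClassicalGeometry.PSUAutMain Matrix

/-- the action on vectors -/
local notation "ac" => Cfsg.Agent.LieClassical.HermSiegel.act

/-- the fixed points of an automorphism -/
local notation "fx" => Cfsg.Agent.OddHalf.NI.Ex.fix

section Iso

variable {F : Type*} [Field F] [Fintype F] {A : GU 6 F 2} {ρ : F ≃+* F} (I : Inv A ρ)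
  {P : Matrix (Fin 6) (Fin 3 ⊕ Fin 3) F} (S : Sb A ρ P)

include S in
theorem mulVec_P_inj {y z : Fin 3 ⊕ Fin 3 → F} (h : P *ᵥ y = P *ᵥ z) : y = z := by
  have h1 := congrArg (fun w => Q P *ᵥ w) h
  simp only [Matrix.mulVec_mulVec, Q_mul S, Matrix.one_mulVec] at h1
  exact h1

/-- the matrix of `g` on `V₀` -/
def mg (P : Matrix (Fin 6) (Fin 3 ⊕ Fin 3) F) (g : SU 6 F 2) : Matrix (Fin 3 ⊕ Fin 3) (Fin 3 ⊕ Fin 3) F :=
  Q P * mat g * P

include S in
theorem act_P (g : SU 6 F 2) (y : Fin 3 ⊕ Fin 3 → F) : ac g (P *ᵥ y) = P *ᵥ (mg P g *ᵥ y) := by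
  rw [act_def, mg]
  simp only [Matrix.mulVec_mulVec]
  congr 1
  simp only [← Matrix.mul_assoc]
  rw [mul_Q S, Matrix.one_mul]

include S in
theorem mg_k2 {g : SU 6 F 2} (hg : g ∈ Gam A ρ) (s s' : Fin 3 ⊕ Fin 3) : mg P g s s' ∈ k2 ρ := by
  have h1 := mem_Gam.mp hg (P *ᵥ Pi.single s' 1)
  have h2 : (fun j => ρ ((Pi.single s' 1 : Fin 3 ⊕ Fin 3 → F) j)) = Pi.single s' 1 := by
    funext j
    by_cases hj : j = s'
    · subst hj; simp
    · rw [Pi.single_eq_of_ne hj, map_zero]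
  rw [tt_P S, h2, act_P S, tt_P S] at h1
  have h3 := congrFun (mulVec_P_inj S h1) s
  rw [Matrix.mulVec_single_one] at h3
  exact h3.symm

include S I in
theorem mg_symp {g : SU 6 F 2} (hg : g ∈ Gam A ρ) :
    (mg P g)ᵀ * Matrix.J (Fin 3) F * mg P g = Matrix.J (Fin 3) F := by
  have h1 : ∀ y z : Fin 3 ⊕ Fin 3 → F, (∀ s, z s ^ 2 = z s) →
      y ⬝ᵥ (((mg P g)ᵀ * Matrix.J (Fin 3) F * mg P g) *ᵥ z) = y ⬝ᵥ (Matrix.J (Fin 3) F *ᵥ z) := by
    intro y z hz
    have h2 := herm_act g (P *ᵥ y) (P *ᵥ z)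
    rw [act_P S, act_P S, herm_P S _ _ I.card, herm_P S _ _ I.card] at h2
    have h3 : (fun s => (mg P g *ᵥ z) s ^ 2) = mg P g *ᵥ z := by
      funext s
      simp only [Matrix.mulVec, dotProduct]
      rw [sum_pow_q I.card]
      refine Finset.sum_congr rfl fun s' _ => ?_
      rw [mul_pow, hz, ← I.frob (mg P g s s'), mem_k2.mp (mg_k2 S hg s s')]
    have h4 : (fun s => z s ^ 2) = z := funext hz
    rw [h3, h4] at h2
    rw [← h2, ← Matrix.mulVec_mulVec, ← Matrix.mulVec_mulVec, Matrix.dotProduct_mulVec y (mg P g)ᵀ,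
      Matrix.vecMul_transpose]
  ext s s'
  have h2 := h1 (Pi.single s 1) (Pi.single s' 1) (fun j => by
    by_cases hj : j = s'
    · subst hj; simp
    · rw [Pi.single_eq_of_ne hj]; norm_num)
  rw [Matrix.mulVec_single_one, Matrix.mulVec_single_one] at h2
  simpa using h2

theorem phi_surjective : Function.Surjective (phi I S) := by
  rintro ⟨g, hg⟩
  let N : Matrix (Fin 3 ⊕ Fin 3) (Fin 3 ⊕ Fin 3) (k2 ρ) := fun s s' => ⟨mg P g s s', mg_k2 S hg s s'⟩
  have hN : N.map (fun x : k2 ρ => (x : F)) = mg P g := rfl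
  have hS : N ∈ Matrix.symplecticGroup (Fin 3) (k2 ρ) := by
    rw [SymplecticGroup.mem_iff']
    have h1 := mg_symp I S hg
    apply Matrix.map_injective (f := fun x : k2 ρ => (x : F)) Subtype.val_injective
    have h2 : (Nᵀ * Matrix.J (Fin 3) (k2 ρ) * N).map (fun x : k2 ρ => (x : F)) =
        (mg P g)ᵀ * Matrix.J (Fin 3) F * mg P g := by
      have h3 : (Nᵀ * Matrix.J (Fin 3) (k2 ρ) * N).map (fun x : k2 ρ => (x : F)) =
          (Nᵀ * Matrix.J (Fin 3) (k2 ρ)).map (fun x : k2 ρ => (x : F)) * N.map (fun x : k2 ρ => (x : F)) :=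
        Matrix.map_mul (f := (k2 ρ).subtype)
      have h4 : (Nᵀ * Matrix.J (Fin 3) (k2 ρ)).map (fun x : k2 ρ => (x : F)) =
          Nᵀ.map (fun x : k2 ρ => (x : F)) * (Matrix.J (Fin 3) (k2 ρ)).map (fun x : k2 ρ => (x : F)) :=
        Matrix.map_mul (f := (k2 ρ).subtype)
      have h5 : (Matrix.J (Fin 3) (k2 ρ)).map (fun x : k2 ρ => (x : F)) = Matrix.J (Fin 3) F :=
        Matrix.map_J (Fin 3) (k2 ρ).subtype
      rw [h3, h4, h5, hN, Matrix.transpose_map, hN]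
    exact (h2.trans h1).trans (Matrix.map_J (Fin 3) (k2 ρ).subtype).symm
  refine ⟨⟨N, hS⟩, ?_⟩
  apply Subtype.ext
  apply mat_injective
  change fm P N = mat g
  rw [fm, hN, mg]
  have h3 : P * (Q P * mat g * P) * Q P = (P * Q P) * mat g * (P * Q P) := by simp only [Matrix.mul_assoc]
  rw [h3, mul_Q S, Matrix.one_mul, Matrix.mul_one]

/-- `C(t)` in `PSU` and in `SU` -/
noncomputable def fixEquiv (I : Inv A ρ) : Gam A ρ ≃* fx (toAut A ρ) :=
  MulEquiv.ofBijective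
    ({ toFun := fun g => (⟨pr 6 F 2 g.1, pr_mem g.2⟩ : fx (toAut A ρ))
       map_one' := Subtype.ext (map_one (pr 6 F 2))
       map_mul' := fun g h => Subtype.ext (map_mul (pr 6 F 2) g.1 h.1) } : Gam A ρ →* fx (toAut A ρ)) (by
    have hs : Function.Surjective (fun g : Gam A ρ => (⟨pr 6 F 2 g.1, pr_mem g.2⟩ : fx (toAut A ρ))) := by
      rintro ⟨z, hz⟩
      obtain ⟨g, hg, rfl⟩ := exists_lift I hz
      exact ⟨⟨g, hg⟩, rfl⟩
    exact (Nat.bijective_iff_surjective_and_card _).mpr ⟨hs, (card_fix I).symm⟩)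

/-- **`C(t) ≃ Sp₆(2)`.** -/
theorem fix_iso (h : ∀ x : V0 A ρ, lam I x = 0) : Nonempty (fx (toAut A ρ) ≃* PSp 3 (k2 ρ)) := by
  obtain ⟨P, S⟩ := exists_sb I h
  have e1 : Matrix.symplecticGroup (Fin 3) (k2 ρ) ≃* Gam A ρ :=
    MulEquiv.ofBijective (phi I S) ⟨phi_injective I S, phi_surjective I S⟩
  have : Fintype (k2 ρ) := Fintype.ofFinite _
  have h2 := card_k2 I
  rw [Nat.card_eq_fintype_card] at h2
  have h3 := S0246.result h2 3 (by norm_num)
  have h4 : Subgroup.center (Matrix.symplecticGroup (Fin 3) (k2 ρ)) = ⊥ := by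
    rw [← Subgroup.card_eq_one]
    exact h3
  have e2 : PSp 3 (k2 ρ) ≃* Matrix.symplecticGroup (Fin 3) (k2 ρ) :=
    (QuotientGroup.quotientMulEquivOfEq h4).trans QuotientGroup.quotientBot
  exact ⟨((fixEquiv I).symm.trans e1.symm).trans e2.symm⟩

end Iso

/-! ### Semilinear maps -/

section Sem

variable {F : Type*} [Field F] [Fintype F]

open Cfsg.Agent.U62.Semi (Sem)
open Cfsg.Agent.R01.Frames (Hyp)

/-- A semilinear isometry is `x ↦ A ρ(x)`. -/
theorem exists_tt (hF : Fintype.card F = 2 ^ 2) {φ : (Fin 6 → F) → (Fin 6 → F)} (h : Sem 2 φ) :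
    ∃ A : GU 6 F 2, ∀ v, tt A (conj hF) v = φ v := by
  let ρ := conj hF
  have hρρ : ∀ x : F, ρ (ρ x) = x := fun x => pow_q_pow_q hF x
  let ψ : (Fin 6 → F) → (Fin 6 → F) := fun v => φ (fun i => ρ (v i))
  have hψ : Sem 1 ψ := by
    refine ⟨fun v w => ?_, fun c v => ?_, fun v w => ?_⟩
    · rw [← h.add]
      change φ _ = φ _
      congr 1
      funext i
      simp
    · have h1 : (fun i => ρ ((c • v) i)) = ρ c • fun i => ρ (v i) := by
        funext i
        simp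
      change φ (fun i => ρ ((c • v) i)) = _
      rw [h1, h.smul]
      have h2 : ρ c ^ 2 = c := hρρ c
      rw [h2, pow_one]
    · change hermForm 6 F 2 (φ _) (φ _) = _
      rw [h.herm, herm_map, pow_one]
      exact hρρ _
  obtain ⟨M, hM, hd⟩ := U62.Semi2.exists_mat hF hψ
  have hd0 : M.det ≠ 0 := by
    intro h0
    rw [h0] at hd
    norm_num at hd
  refine ⟨⟨Matrix.GeneralLinearGroup.mkOfDetNeZero M hd0, fun u v => ?_⟩, fun v => ?_⟩
  · change hermForm 6 F 2 (M *ᵥ u) (M *ᵥ v) = hermForm 6 F 2 u v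
    rw [hM, hM, hψ.herm, pow_one]
  · change M *ᵥ (fun i => ρ (v i)) = φ v
    rw [hM]
    change φ (fun i => ρ (ρ (v i))) = φ v
    congr 1
    funext i
    exact hρρ _

/-- **The centralizer of a semilinear involution with alternating form.** -/
theorem fix_iso_sem (hF : Fintype.card F = 2 ^ 2) {φ : (Fin 6 → F) → (Fin 6 → F)} (h : Sem 2 φ)
    (hφφ : ∀ v, φ (φ v) = v) (halt : ∀ v, φ v = v → hermForm 6 F 2 v v = 0) (β : MulAut (PSU 6 F 2))
    (hβ : ∀ g g' : SU 6 F 2, (∀ v, ac g' (φ v) = φ (ac g v)) → β (pr 6 F 2 g) = pr 6 F 2 g') :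
    Nonempty (fx β ≃* PSp 3 (k2 (conj hF))) := by
  obtain ⟨A, hA⟩ := exists_tt hF h
  have I : Inv A (conj hF) := ⟨hF, fun x => rfl, fun x => by rw [hA, hA, hφφ]⟩
  have hβ' : β = toAut A (conj hF) := by
    ext x
    obtain ⟨g, rfl⟩ := pr_surjective x
    rw [toAut_pr]
    refine hβ g _ fun v => ?_
    rw [← hA, ← hA, semiConj_tt]
  rw [hβ']
  refine fix_iso I fun x => ?_
  apply Subtype.ext
  rw [coe_lam]
  exact halt x (by rw [← hA]; exact mem_V0.mp x.2)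

/-- the form is alternating if `φ` fixes a hyperbolic basis -/
theorem alt_of_hyp (hF : Fintype.card F = 2 ^ 2) {φ : (Fin 6 → F) → (Fin 6 → F)} (h : Sem 2 φ)
    {g k : Fin 3 → (Fin 6 → F)} (hb : Hyp g k) (hg : ∀ i, φ (g i) = g i) (hk : ∀ i, φ (k i) = k i)
    {v : Fin 6 → F} (hv : φ v = v) : hermForm 6 F 2 v v = 0 := by
  have h1 := U62.Semi.hyp_expand hF hb v
  have h2 : ∀ w, φ w = w → hermForm 6 F 2 v w ^ 2 = hermForm 6 F 2 v w := by
    intro w hw
    have h3 := h.herm v w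
    rw [hv, hw] at h3
    exact h3.symm
  have h3 : ∀ i, hermForm 6 F 2 (g i) v = hermForm 6 F 2 v (g i) := fun i => by
    rw [herm_swap hF, h2 _ (hg i)]
  have h4 : ∀ i, hermForm 6 F 2 (k i) v = hermForm 6 F 2 v (k i) := fun i => by
    rw [herm_swap hF, h2 _ (hk i)]
  have h5 : hermForm 6 F 2 v v = ∑ i : Fin 3, (hermForm 6 F 2 v (k i) * hermForm 6 F 2 v (g i) +
      hermForm 6 F 2 v (g i) * hermForm 6 F 2 v (k i)) := by
    have h6 : hermForm 6 F 2 v v = hermForm 6 F 2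
        (∑ i : Fin 3, (hermForm 6 F 2 v (k i) • g i + hermForm 6 F 2 v (g i) • k i)) v :=
      congrArg (fun w => hermForm 6 F 2 w v) h1
    rw [h6, herm_sum_left]
    refine Finset.sum_congr rfl fun i _ => ?_
    rw [herm_add_left, herm_smul_left, herm_smul_left, h3, h4]
  rw [h5]
  refine Finset.sum_eq_zero fun i _ => ?_
  rw [mul_comm]
  exact add_self hF _

end Sem

end Cfsg.Agent.OddHalf.NI3.Ex.USix
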