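import Cfsg.Agent.OddHalf.NI3.Ex.USixGeom

/-!
# (EX), (EX3): the row `U₆(2)`, the form is not alternating (helper5)
-/

set_option autoImplicit false
set_option linter.unusedSectionVars false

namespace Cfsg.Agent.OddHalf.NI3.Ex.USix

open Cfsg Cfsg.Agent.LieClassical.HermBasic Cfsg.Agent.LieClassical.HermSiegel
  Cfsg.Agent.LieClassical.HermGen Cfsg.Agent.LieClassical.SUBasic
  Cfsg.Agent.ClassicalGeometry.UnitAutBasic Cfsg.Agent.LieClassical.FieldTransfer
  Cfsg.Agent.ClassicalGeometry.PSUAutCount
  Cfsg.Agent.ClassicalGeometry.PSUAutMain Matrix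

/-- the action on vectors -/
local notation "ac" => Cfsg.Agent.LieClassical.HermSiegel.act

section Odd

variable {F : Type*} [Field F] [Fintype F] {A : GU 6 F 2} {ρ : F ≃+* F} (I : Inv A ρ)

theorem lam_rep (g : Gam A ρ) (x : V0 A ρ) : lam I (rep A ρ g x) = lam I x := by
  apply Subtype.ext
  rw [coe_lam, coe_lam, coe_rep]
  exact herm_act _ _ _

/-- the vectors `x` with `(x, x) ≠ 0` -/
abbrev Out (I : Inv A ρ) : Type _ := {x : V0 A ρ // lam I x ≠ 0}

/-- the action on them -/
@[instance_reducible]
noncomputable def actOut (I : Inv A ρ) : MulAction (Gam A ρ) (Out I) where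
  smul g x := ⟨rep A ρ g x.1, by rw [lam_rep]; exact x.2⟩
  one_smul x := by
    apply Subtype.ext
    change rep A ρ 1 x.1 = x.1
    rw [map_one]
    rfl
  mul_smul g h x := by
    apply Subtype.ext
    change rep A ρ (g * h) x.1 = rep A ρ g (rep A ρ h x.1)
    rw [map_mul]
    rfl

include I in
theorem k2_cases (c : k2 ρ) : c = 0 ∨ c = 1 := by
  have h1 := mem_k2.mp c.2
  rw [I.frob] at h1
  have h2 : (c : F) * ((c : F) - 1) = 0 := by linear_combination h1
  rcases mul_eq_zero.mp h2 with h3 | h3
  · exact Or.inl (Subtype.ext h3)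
  · exact Or.inr (Subtype.ext (sub_eq_zero.mp h3))

theorem finrank_ker {v : V0 A ρ} (hv : lam I v ≠ 0) : Module.finrank (k2 ρ) (LinearMap.ker (lam I)) = 5 := by
  have : FiniteDimensional (k2 ρ) (V0 A ρ) := FiniteDimensional.of_finrank_eq_succ (finrank_V0 I)
  have h1 := LinearMap.finrank_range_add_finrank_ker (lam I)
  have h2 : LinearMap.range (lam I) = ⊤ := by
    rw [LinearMap.range_eq_top]
    intro c
    refine ⟨(c * (lam I v)⁻¹) • v, ?_⟩
    rw [map_smul, smul_eq_mul, mul_assoc, inv_mul_cancel₀ hv, mul_one]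
  rw [h2, finrank_top, Module.finrank_self, finrank_V0 I] at h1
  omega

theorem card_ker {v : V0 A ρ} (hv : lam I v ≠ 0) : Nat.card (LinearMap.ker (lam I)) = 32 := by
  have : FiniteDimensional (k2 ρ) (V0 A ρ) := FiniteDimensional.of_finrank_eq_succ (finrank_V0 I)
  have h1 := Module.natCard_eq_pow_finrank (K := k2 ρ) (V := LinearMap.ker (lam I))
  have h2 := finrank_ker I hv
  rw [h1, card_k2 I, h2]
  norm_num

theorem card_out {v : V0 A ρ} (hv : lam I v ≠ 0) : Nat.card (Out I) = 32 := by
  classical
  have : Finite (Fin 6 → F) := inferInstance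
  have h1 : Nat.card (V0 A ρ) = Nat.card {x : V0 A ρ // lam I x = 0} + Nat.card {x : V0 A ρ // ¬ lam I x = 0} := by
    rw [← Nat.card_sum]
    exact (Nat.card_congr (Equiv.sumCompl (fun x : V0 A ρ => lam I x = 0))).symm
  have h2 : Nat.card {x : V0 A ρ // lam I x = 0} = 32 := card_ker I hv
  rw [card_V0 I, h2] at h1
  have h3 : Nat.card (Out I) = Nat.card {x : V0 A ρ // ¬ lam I x = 0} := rfl
  omega

/-- **The form is not alternating: `27 ∤ |C(t)|`.** -/
theorem odd_case {v : V0 A ρ} (hv : lam I v ≠ 0) : ¬ 27 ∣ Nat.card (Gam A ρ) := by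
  intro h81
  have : Fact (Nat.Prime 3) := ⟨Nat.prime_three⟩
  have hfin : Finite (Gam A ρ) := inferInstance
  obtain ⟨P, hP⟩ := Sylow.exists_subgroup_card_pow_prime (G := Gam A ρ) 3 (n := 3) (by norm_num; exact h81)
  have hPg : IsPGroup 3 P := IsPGroup.of_card hP
  let _ := actOut I
  obtain ⟨x, hx⟩ := hPg.nonempty_fixed_point_of_prime_not_dvd_card (Out I) (by rw [card_out I hv]; norm_num)
  have hx' : ∀ g : P, rep A ρ (g : Gam A ρ) x.1 = x.1 := fun g => congrArg Subtype.val (hx g)
  -- `P` is faithful on the kernel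
  let f : P →* (LinearMap.ker (lam I) ≃ₗ[k2 ρ] LinearMap.ker (lam I)) :=
    { toFun := fun g =>
        { toFun := fun y => ⟨rep A ρ (g : Gam A ρ) y, by
            rw [LinearMap.mem_ker, lam_rep]; exact y.2⟩
          map_add' := fun y z => Subtype.ext (map_add _ _ _)
          map_smul' := fun c y => Subtype.ext (map_smul _ _ _)
          invFun := fun y => ⟨rep A ρ ((g⁻¹ : P) : Gam A ρ) y, by
            rw [LinearMap.mem_ker, lam_rep]; exact y.2⟩
          left_inv := fun y => by
            apply Subtype.ext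
            change rep A ρ ((g⁻¹ : P) : Gam A ρ) (rep A ρ (g : Gam A ρ) y) = y
            rw [← LinearEquiv.mul_apply, ← map_mul, ← Subgroup.coe_mul, inv_mul_cancel, Subgroup.coe_one, map_one]
            rfl
          right_inv := fun y => by
            apply Subtype.ext
            change rep A ρ (g : Gam A ρ) (rep A ρ ((g⁻¹ : P) : Gam A ρ) y) = y
            rw [← LinearEquiv.mul_apply, ← map_mul, ← Subgroup.coe_mul, mul_inv_cancel, Subgroup.coe_one, map_one]
            rfl }
      map_one' := by
        ext y : 1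
        apply Subtype.ext
        change rep A ρ ((1 : P) : Gam A ρ) y = y
        rw [Subgroup.coe_one, map_one]
        rfl
      map_mul' := fun g h => by
        ext y : 1
        apply Subtype.ext
        change rep A ρ ((g * h : P) : Gam A ρ) y = rep A ρ (g : Gam A ρ) (rep A ρ (h : Gam A ρ) y)
        rw [Subgroup.coe_mul, map_mul]
        rfl }
  have hf : Function.Injective f := by
    rw [injective_iff_map_eq_one]
    intro g hg
    apply Subtype.ext
    apply rep_injective I
    rw [Subgroup.coe_one, map_one]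
    ext z : 1
    change rep A ρ (g : Gam A ρ) z = z
    have hk : ∀ y : V0 A ρ, lam I y = 0 → rep A ρ (g : Gam A ρ) y = y := by
      intro y hy
      have h1 : f g ⟨y, hy⟩ = ⟨y, hy⟩ := by rw [hg]; rfl
      exact congrArg Subtype.val h1
    rcases k2_cases I (lam I z) with h1 | h1
    · exact hk z h1
    · have h2 : lam I x.1 = 1 := (k2_cases I (lam I x.1)).resolve_left x.2
      have h3 : lam I (z - x.1) = 0 := by rw [map_sub, h1, h2, sub_self]
      have h4 := hk _ h3
      rw [map_sub, hx' g, sub_left_inj] at h4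
      exact h4
  have h1 := Subgroup.card_dvd_of_injective f hf
  have : Fintype (k2 ρ) := Fintype.ofFinite _
  have h2 := card_k2 I
  rw [Nat.card_eq_fintype_card] at h2
  have : FiniteDimensional (k2 ρ) (V0 A ρ) := FiniteDimensional.of_finrank_eq_succ (finrank_V0 I)
  have h3 := card_aut (K := k2 ρ) (V := LinearMap.ker (lam I)) (n := 5) (finrank_ker I hv)
  rw [h2] at h3
  rw [hP] at h1
  have h4 := h1.trans (dvd_of_eq h3)
  revert h4
  decide

end Odd

end Cfsg.Agent.OddHalf.NI3.Ex.USix
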